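import Mathlib.GroupTheory.GroupAction.MultiplePrimitivity
import Mathlib.GroupTheory.GroupAction.Primitive
import Mathlib.GroupTheory.PGroup
import Mathlib.GroupTheory.OrderOfElement
import Mathlib.Algebra.Group.Commute.Basic

/-! Basic facts on permutation groups: regular subgroups and normal subgroups. -/

open MulAction
open scoped Pointwise

namespace CfsgLib.PermGroup

variable {G X : Type*} [Group G] [MulAction G X]

section Semiregular

variable {N : Subgroup G}

/-- In a semiregular subgroup an element is determined by the image of one point. -/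
theorem semiregular_inj (hreg : ∀ x : X, stabilizer N x = ⊥) {n m : N} {x : X}
    (h : n • x = m • x) : n = m := by
  have h1 : m⁻¹ * n ∈ stabilizer N x := by
    rw [mem_stabilizer_iff, mul_smul, h, inv_smul_smul]
  rw [hreg x, Subgroup.mem_bot] at h1
  exact (inv_mul_eq_one.mp h1).symm

theorem semiregular_eq_one (hreg : ∀ x : X, stabilizer N x = ⊥) {n : N} {x : X}
    (h : n • x = x) : n = 1 :=
  semiregular_inj hreg (x := x) (by rw [one_smul]; exact h)

theorem semiregular_inj' (hreg : ∀ x : X, stabilizer N x = ⊥) {n m : G} (hn : n ∈ N)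
    (hm : m ∈ N) {x : X} (h : n • x = m • x) : n = m :=
  congrArg Subtype.val (semiregular_inj hreg (n := ⟨n, hn⟩) (m := ⟨m, hm⟩) h)

theorem semiregular_eq_one' (hreg : ∀ x : X, stabilizer N x = ⊥) {n : G} (hn : n ∈ N) {x : X}
    (h : n • x = x) : n = 1 :=
  semiregular_inj' hreg hn N.one_mem (x := x) (by rw [one_smul]; exact h)

/-- A regular subgroup has as many elements as there are points. -/
theorem card_eq_of_regular [IsPretransitive N X] (hreg : ∀ x : X, stabilizer N x = ⊥) (x : X) :
    Nat.card N = Nat.card X :=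
  Nat.card_congr (Equiv.ofBijective (fun n : N => n • x)
    ⟨fun _ _ h => semiregular_inj hreg h, fun y => exists_smul_eq N x y⟩)

/-- An element fixing `x` sends `n • x` to `(g n g⁻¹) • x`. -/
theorem smul_smul_of_fix {g n : G} {x : X} (hg : g • x = x) :
    g • n • x = (g * n * g⁻¹) • x := by
  have h : g⁻¹ • x = x := inv_smul_eq_iff.mpr hg.symm
  rw [mul_smul, mul_smul, h]

end Semiregular

/-- A non-trivial normal subgroup of a faithful primitive group is transitive. -/
theorem isPretransitive_of_normal [IsPreprimitive G X] [FaithfulSMul G X]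
    {N : Subgroup G} [N.Normal] (hN : N ≠ ⊥) : IsPretransitive N X := by
  apply IsQuasiPreprimitive.isPretransitive_of_normal
  intro h
  apply hN
  rw [eq_bot_iff]
  intro n hn
  rw [Subgroup.mem_bot]
  refine eq_of_smul_eq_smul (α := X) fun x => ?_
  have hx : x ∈ fixedPoints N X := by rw [h]; exact Set.mem_univ x
  rw [one_smul]
  exact hx ⟨n, hn⟩

/-- The point stabilizer of a doubly primitive group is primitive on the other points. -/
theorem isPreprimitive_ofStabilizer [IsPretransitive G X]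
    (h2 : IsMultiplyPreprimitive G X 2) (x : X) :
    IsPreprimitive (stabilizer G x) (SubMulAction.ofStabilizer G x) := by
  have : IsMultiplyPreprimitive G X (Nat.succ 1) := h2
  exact (is_one_preprimitive_iff _ _).mp (isMultiplyPreprimitive_ofStabilizer G X (a := x))

theorem isPretransitive_of_two_le {k : ℕ} [Finite X]
    (hk : IsMultiplyPretransitive G X k) (h1 : 1 ≤ k) (hX : k ≤ Nat.card X) :
    IsPretransitive G X :=
  is_one_pretransitive_iff.mp (isMultiplyPretransitive_of_le h1 hX)

/-- A finite group with all non-identity elements conjugate under a group of automorphisms,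
here: inside an ambient group, is elementary abelian. -/
theorem elementary_abelian_of_conj [Finite G] (N : Subgroup G)
    (hc : ∀ a ∈ N, ∀ b ∈ N, a ≠ 1 → b ≠ 1 → ∃ g ∈ Subgroup.normalizer (N : Set G),
      g * a * g⁻¹ = b) (hN : N ≠ ⊥) :
    IsMulCommutative N ∧ ∃ p : ℕ, p.Prime ∧ ∀ n ∈ N, n ^ p = 1 := by
  obtain ⟨a, ha, ha1⟩ := N.bot_or_exists_ne_one.resolve_left hN
  obtain ⟨p, hp, hpd⟩ := Nat.exists_prime_and_dvd (mt orderOf_eq_one_iff.mp ha1)
  set b := a ^ (orderOf a / p) with hbdef
  have hbN : b ∈ N := N.pow_mem ha _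
  have hb : orderOf b = p := orderOf_pow_orderOf_div (orderOf_pos a).ne' hpd
  have hb1 : b ≠ 1 := fun h => hp.one_lt.ne (by rw [← hb, h, orderOf_one])
  have hpow : ∀ n ∈ N, n ^ p = 1 := by
    intro n hn
    by_cases h1 : n = 1
    · rw [h1, one_pow]
    · obtain ⟨g, _, hg⟩ := hc b hbN n hn hb1 h1
      rw [← hg, conj_pow, ← hb, pow_orderOf_eq_one, mul_one, mul_inv_cancel]
  refine ⟨?_, p, hp, hpow⟩
  have : Fact p.Prime := ⟨hp⟩
  have hNp : IsPGroup p N := fun n => ⟨1, by
    rw [pow_one]; exact Subtype.ext (by simpa using hpow n n.2)⟩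
  have : Nontrivial N := (Subgroup.nontrivial_iff_ne_bot N).mpr hN
  have := hNp.center_nontrivial
  obtain ⟨⟨z, hz⟩, hz1⟩ := exists_ne (1 : Subgroup.center N)
  have hzG : (z : G) ≠ 1 := fun h => hz1 (Subtype.ext (Subtype.ext h))
  refine ⟨⟨fun x y => ?_⟩⟩
  by_cases hx : (x : G) = 1
  · rw [show x = 1 from Subtype.ext hx, one_mul, mul_one]
  obtain ⟨g, hg, hgx⟩ := hc z z.2 x x.2 hzG hx
  have hy : g⁻¹ * (y : G) * g ∈ N :=
    (Subgroup.mem_normalizer_iff.mp hg (g⁻¹ * (y : G) * g)).mpr
      (by group; simp)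
  have hcomm : (g⁻¹ * (y : G) * g) * z = z * (g⁻¹ * (y : G) * g) :=
    congrArg Subtype.val (Subgroup.mem_center_iff.mp hz ⟨_, hy⟩)
  apply Subtype.ext
  rw [Subgroup.coe_mul, Subgroup.coe_mul, ← hgx]
  calc g * (z : G) * g⁻¹ * y = g * ((z : G) * (g⁻¹ * y * g)) * g⁻¹ := by group
    _ = g * ((g⁻¹ * y * g) * (z : G)) * g⁻¹ := by rw [hcomm]
    _ = y * (g * (z : G) * g⁻¹) := by group

/-- A regular normal subgroup of a doubly transitive group is elementary abelian. -/
theorem regular_normal_elementary [Finite G] (h2 : IsMultiplyPretransitive G X 2)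
    (N : Subgroup G) [N.Normal] (hN : N ≠ ⊥) (hreg : ∀ x : X, stabilizer N x = ⊥) [Nonempty X] :
    IsMulCommutative N ∧ ∃ p : ℕ, p.Prime ∧ ∀ n ∈ N, n ^ p = 1 := by
  refine elementary_abelian_of_conj N (fun a ha b hb ha1 hb1 => ?_) hN
  obtain ⟨x⟩ := ‹Nonempty X›
  have hax : x ≠ a • x := fun h => ha1 (semiregular_eq_one' hreg ha h.symm)
  have hbx : x ≠ b • x := fun h => hb1 (semiregular_eq_one' hreg hb h.symm)
  obtain ⟨g, hgx, hg⟩ := is_two_pretransitive_iff.mp h2 hax hbx
  refine ⟨g, by rw [Subgroup.normalizer_eq_top]; trivial, ?_⟩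
  rw [smul_smul_of_fix hgx] at hg
  exact semiregular_inj' hreg (Subgroup.Normal.conj_mem ‹_› a ha g) hb hg

/-- A doubly primitive group with a regular normal subgroup: the degree is 3 or the subgroup
has exponent 2. -/
theorem two_primitive_regular [Finite X] [IsPretransitive G X]
    (h2 : IsMultiplyPreprimitive G X 2) (N : Subgroup G) [N.Normal]
    [IsPretransitive N X] (hreg : ∀ x : X, stabilizer N x = ⊥) [Nonempty X] :
    Nat.card X = 3 ∨ ∀ n ∈ N, n ^ 2 = 1 := by
  by_cases he : ∀ n ∈ N, n ^ 2 = 1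
  · exact Or.inr he
  left
  simp only [not_forall] at he
  obtain ⟨n, hn, hn2⟩ := he
  obtain ⟨x⟩ := ‹Nonempty X›
  have hn1 : n ≠ 1 := fun h => hn2 (by rw [h, one_pow])
  have hne : n ≠ n⁻¹ := fun h => hn2 (by rw [sq]; nth_rw 2 [h]; exact mul_inv_cancel n)
  have hnx : n • x ≠ x := fun h => hn1 (semiregular_eq_one' hreg hn h)
  have hnix : n⁻¹ • x ≠ x := fun h =>
    hn1 (inv_eq_one.mp (semiregular_eq_one' hreg (N.inv_mem hn) h))
  have hne' : n • x ≠ n⁻¹ • x := fun h => hne (semiregular_inj' hreg hn (N.inv_mem hn) h)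
  have := isPreprimitive_ofStabilizer h2 x
  set B : Set (SubMulAction.ofStabilizer G x) :=
    {y | (y : X) = n • x ∨ (y : X) = n⁻¹ • x} with hB
  have key : ∀ (g : stabilizer G x) (y : SubMulAction.ofStabilizer G x), y ∈ B → g • y ∈ B →
      ∀ z ∈ B, g • z ∈ B := by
    intro g y hy hgy z hz
    have hgx : (g : G) • x = x := g.2
    have hm : ∀ m ∈ N, (g : G) • m • x = ((g : G) * m * (g : G)⁻¹) • x :=
      fun m _ => smul_smul_of_fix hgx
    have hc : (g : G) * n * (g : G)⁻¹ ∈ N := Subgroup.Normal.conj_mem ‹_› n hn g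
    have hi : (g : G) * n⁻¹ * (g : G)⁻¹ = ((g : G) * n * (g : G)⁻¹)⁻¹ := by group
    have hcases : (g : G) * n * (g : G)⁻¹ = n ∨ (g : G) * n * (g : G)⁻¹ = n⁻¹ := by
      have hgy' : (g : G) • (y : X) = n • x ∨ (g : G) • (y : X) = n⁻¹ • x := hgy
      rcases hy with hy | hy <;> rw [hy] at hgy'
      · rw [hm n hn] at hgy'
        exact hgy'.imp (semiregular_inj' hreg hc hn) (semiregular_inj' hreg hc (N.inv_mem hn))
      · rw [hm _ (N.inv_mem hn), hi] at hgy'
        rcases hgy' with h | h
        · exact Or.inr (inv_inj.mp (by rw [semiregular_inj' hreg (N.inv_mem hc) hn h, inv_inv]))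
        · exact Or.inl (inv_inj.mp (semiregular_inj' hreg (N.inv_mem hc) (N.inv_mem hn) h))
    show (g : G) • (z : X) = n • x ∨ (g : G) • (z : X) = n⁻¹ • x
    rcases hz with hz | hz <;> rw [hz]
    · rw [hm n hn]; rcases hcases with h | h <;> rw [h] <;> simp
    · rw [hm _ (N.inv_mem hn), hi]; rcases hcases with h | h <;> rw [h] <;> simp
  have hblock : IsBlock (stabilizer G x) B := by
    rw [isBlock_iff_smul_eq_of_nonempty]
    rintro g ⟨w, hw1, hw2⟩
    obtain ⟨y, hy, rfl⟩ := hw1
    have hsub : g • B ⊆ B := by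
      rintro _ ⟨z, hz, rfl⟩; exact key g y hy hw2 z hz
    exact Set.eq_of_subset_of_ncard_le hsub (by rw [Set.ncard_smul_set]) (Set.toFinite B)
  rcases IsPreprimitive.isTrivialBlock_of_isBlock hblock with h | h
  · exfalso
    exact hne' (congrArg Subtype.val (h (x := ⟨n • x, hnx⟩) (Or.inl rfl)
      (y := ⟨n⁻¹ • x, hnix⟩) (Or.inr rfl)))
  · have hu : (Set.univ : Set X) = {x, n • x, n⁻¹ • x} := by
      ext y
      simp only [Set.mem_univ, true_iff, Set.mem_insert_iff, Set.mem_singleton_iff]
      by_cases hy : y = x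
      · exact Or.inl hy
      · have : (⟨y, hy⟩ : SubMulAction.ofStabilizer G x) ∈ B := by rw [h]; trivial
        exact Or.inr this
    rw [← Set.ncard_univ, hu, Set.ncard_eq_three]
    exact ⟨_, _, _, hnx.symm, hnix.symm, hne', rfl⟩

/-- A triply primitive group with a regular normal subgroup has degree at most 4. -/
theorem three_primitive_regular [Finite X] [IsPretransitive G X]
    (h3 : IsMultiplyPreprimitive G X 3) (hX : 3 ≤ Nat.card X) (N : Subgroup G) [N.Normal]
    [IsPretransitive N X] (hreg : ∀ x : X, stabilizer N x = ⊥) [Nonempty X] :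
    Nat.card X = 3 ∨ Nat.card X = 4 := by
  have h3' : (3 : ℕ∞) ≤ ENat.card X := by
    rw [ENat.card_eq_coe_natCard]; exact_mod_cast hX
  rcases two_primitive_regular (isMultiplyPreprimitive_of_le G X h3 (by norm_num) h3') N hreg
    with h | he
  · exact Or.inl h
  by_cases h4 : Nat.card X = 3
  · exact Or.inl h4
  right
  obtain ⟨x⟩ := ‹Nonempty X›
  obtain ⟨y, -, hy⟩ := Set.exists_ne_of_one_lt_ncard
    (s := (Set.univ : Set X)) (by rw [Set.ncard_univ]; omega) x
  obtain ⟨⟨n, hn⟩, hny : n • x = y⟩ := exists_smul_eq N x y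
  subst hny
  have : ∃ z, z ∉ ({x, n • x} : Set X) := by
    by_contra hcon
    simp only [not_exists, not_not] at hcon
    have hu : ({x, n • x} : Set X) = Set.univ := Set.eq_univ_of_forall hcon
    have hle := Set.ncard_insert_le x {n • x}
    rw [hu, Set.ncard_univ, Set.ncard_singleton] at hle
    omega
  obtain ⟨z, hz⟩ := this
  obtain ⟨⟨m, hm⟩, hmz : m • x = z⟩ := exists_smul_eq N x z
  subst hmz
  have inv2 : ∀ a ∈ N, a⁻¹ = a := fun a ha =>
    inv_eq_of_mul_eq_one_right (by rw [← sq]; exact he a ha)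
  have hcomm : ∀ a ∈ N, ∀ b ∈ N, a * b = b * a := fun a ha b hb => by
    rw [← inv2 (a * b) (N.mul_mem ha hb), mul_inv_rev, inv2 a ha, inv2 b hb]
  simp only [Set.mem_insert_iff, Set.mem_singleton_iff, not_or] at hz
  have hmn : m ≠ n := fun h => hz.2 (by rw [h])
  have hm1 : m ≠ 1 := fun h => hz.1 (by rw [h, one_smul])
  have hn1 : n ≠ 1 := fun h => hy (by rw [h, one_smul])
  have hmn1 : m * n ≠ 1 := fun h => hmn (by rw [eq_inv_of_mul_eq_one_left h, inv2 n hn])
  have hmnn : m * n ≠ n := fun h => hm1 (by simpa using h)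
  set s : Set X := {x, n • x} with hs
  have hs2 : s.encard + 1 = 3 := by rw [hs, Set.encard_pair (Ne.symm hy)]; norm_num
  have := IsMultiplyPreprimitive.isPreprimitive_ofFixingSubgroup (M := G) (n := 3) (s := s)
    (by exact_mod_cast hs2)
  set B : Set (SubMulAction.ofFixingSubgroup G s) :=
    {y | (y : X) = m • x ∨ (y : X) = (m * n) • x} with hB
  have key : ∀ (g : fixingSubgroup G s) (y : SubMulAction.ofFixingSubgroup G s), y ∈ B →
      g • y ∈ B → ∀ z ∈ B, g • z ∈ B := by
    intro g y hy hgy z hz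
    have hfix := (mem_fixingSubgroup_iff G).mp g.2
    have hgx : (g : G) • x = x := hfix x (by simp [hs])
    have hgn : (g : G) * n * (g : G)⁻¹ = n := semiregular_inj' hreg
      (Subgroup.Normal.conj_mem ‹_› n hn g) hn
      (by rw [← smul_smul_of_fix hgx]; exact hfix _ (by simp [hs]))
    set c := (g : G) * m * (g : G)⁻¹ with hc
    have hcN : c ∈ N := Subgroup.Normal.conj_mem ‹_› m hm g
    have hgm : (g : G) • m • x = c • x := smul_smul_of_fix hgx
    have hgmn : (g : G) • (m * n) • x = (c * n) • x := by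
      rw [smul_smul_of_fix hgx]
      congr 1
      calc (g : G) * (m * n) * (g : G)⁻¹
          = ((g : G) * m * (g : G)⁻¹) * ((g : G) * n * (g : G)⁻¹) := by group
        _ = c * n := by rw [hgn]
    have hnn : n * n = 1 := by rw [← sq]; exact he n hn
    have hcases : c = m ∨ c = m * n := by
      have hgy' : (g : G) • (y : X) = m • x ∨ (g : G) • (y : X) = (m * n) • x := hgy
      rcases hy with hy | hy <;> rw [hy] at hgy'
      · rw [hgm] at hgy'
        exact hgy'.imp (semiregular_inj' hreg hcN hm)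
          (semiregular_inj' hreg hcN (N.mul_mem hm hn))
      · rw [hgmn] at hgy'
        rcases hgy' with h | h
        · right
          have := semiregular_inj' hreg (N.mul_mem hcN hn) hm h
          rw [← this, mul_assoc, hnn, mul_one]
        · left
          exact mul_right_cancel (semiregular_inj' hreg (N.mul_mem hcN hn) (N.mul_mem hm hn) h)
    show (g : G) • (z : X) = m • x ∨ (g : G) • (z : X) = (m * n) • x
    rcases hz with hz | hz <;> rw [hz]
    · rw [hgm]; rcases hcases with h | h <;> rw [h] <;> simp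
    · rw [hgmn]; rcases hcases with h | h <;> rw [h]
      · exact Or.inr rfl
      · exact Or.inl (by rw [mul_assoc, hnn, mul_one])
  have hblock : IsBlock (fixingSubgroup G s) B := by
    rw [isBlock_iff_smul_eq_of_nonempty]
    rintro g ⟨w, hw1, hw2⟩
    obtain ⟨y, hy, rfl⟩ := hw1
    have hsub : g • B ⊆ B := by
      rintro _ ⟨z, hz, rfl⟩; exact key g y hy hw2 z hz
    exact Set.eq_of_subset_of_ncard_le hsub (by rw [Set.ncard_smul_set]) (Set.toFinite B)
  have hmem : ∀ a ∈ N, a ≠ 1 → a ≠ n → a • x ∉ s := by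
    intro a ha h1 h2 h
    rcases h with h | h
    · exact h1 (semiregular_eq_one' hreg ha h)
    · exact h2 (semiregular_inj' hreg ha hn h)
  rcases IsPreprimitive.isTrivialBlock_of_isBlock hblock with h | h
  · exfalso
    have h1 := congrArg Subtype.val (h (x := ⟨m • x, hmem m hm hm1 hmn⟩) (Or.inl rfl)
      (y := ⟨(m * n) • x, hmem _ (N.mul_mem hm hn) hmn1 hmnn⟩) (Or.inr rfl))
    exact hn1 (mul_eq_left.mp (semiregular_inj' hreg hm (N.mul_mem hm hn) h1).symm)
  · have hu : (Set.univ : Set X) = {x, n • x, m • x, (m * n) • x} := by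
      ext y
      simp only [Set.mem_univ, true_iff, Set.mem_insert_iff, Set.mem_singleton_iff]
      by_cases hy : y = x
      · exact Or.inl hy
      by_cases hy' : y = n • x
      · exact Or.inr (Or.inl hy')
      · have : (⟨y, by rintro (h | h) <;> contradiction⟩ :
            SubMulAction.ofFixingSubgroup G s) ∈ B := by rw [h]; trivial
        exact Or.inr (Or.inr this)
    rw [← Set.ncard_univ, hu, Set.ncard_eq_four]
    refine ⟨_, _, _, _, fun h => hy h.symm, fun h => hz.1 h.symm, fun h => hmn1 ?_,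
      fun h => hz.2 h.symm, fun h => hmnn ?_, fun h => hn1 ?_, rfl⟩
    · exact semiregular_eq_one' hreg (N.mul_mem hm hn) h.symm
    · exact (semiregular_inj' hreg hn (N.mul_mem hm hn) h).symm
    · exact mul_eq_left.mp (semiregular_inj' hreg hm (N.mul_mem hm hn) h).symm

end CfsgLib.PermGroup
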