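import Cfsg.Prelude.Def_Perm
import Cfsg.Agent.Lib.Maximal.Derangement
import Cfsg.Agent.Lib.PermGroup.Basic

/-! The permutation module in characteristic `p`. -/

open MulAction
open scoped Classical

namespace CfsgLib.PermGroup

variable {G : Type*} [Group G] {K : Type*} [Field K] {Ω : Type*} [MulAction G Ω]

theorem permRep_apply (g : G) (f : Ω → K) (x : Ω) :
    Cfsg.permRep K G Ω g f x = f (g⁻¹ • x) := rfl

theorem mem_permConstants_iff {f : Ω → K} :
    f ∈ (Cfsg.permConstants K G Ω).toSubmodule ↔ ∃ c : K, ∀ x, f x = c := by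
  rw [show (Cfsg.permConstants K G Ω).toSubmodule = Submodule.span K {fun _ => 1} from rfl,
    Submodule.mem_span_singleton]
  constructor
  · rintro ⟨c, rfl⟩; exact ⟨c, fun x => by simp⟩
  · rintro ⟨c, hc⟩; exact ⟨c, funext fun x => by simp [hc]⟩

theorem mem_permSumZero_iff [Fintype Ω] {f : Ω → K} :
    f ∈ (Cfsg.permSumZero K G Ω).toSubmodule ↔ ∑ x, f x = 0 := Iff.rfl

theorem permRep_single (g : G) (x : Ω) :
    Cfsg.permRep K G Ω g (Pi.single x 1) = Pi.single (g • x) (1 : K) := by
  funext y
  rw [permRep_apply]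
  simp only [Pi.single_apply, inv_smul_eq_iff]

theorem permRep_sub_mem_sumZero [Fintype Ω] (g : G) (v : Ω → K) :
    Cfsg.permRep K G Ω g v - v ∈ (Cfsg.permSumZero K G Ω).toSubmodule := by
  rw [mem_permSumZero_iff]
  simp only [Pi.sub_apply, permRep_apply, Finset.sum_sub_distrib]
  rw [Fintype.sum_equiv (MulAction.toPerm g⁻¹) (fun x => v (g⁻¹ • x)) v (fun _ => rfl), sub_self]

/-- In characteristic `p`, a `p`-group fixes a non-zero vector in any non-zero invariant subspace
of functions. -/
theorem exists_fixed_vector {p : ℕ} [Fact p.Prime] [CharP K p] (P : Subgroup G) [Finite P]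
    (hP : IsPGroup p P) (W : Submodule K (Ω → K))
    (hW : ∀ g : P, ∀ v ∈ W, Cfsg.permRep K G Ω g v ∈ W) (hne : W ≠ ⊥) :
    ∃ v ∈ W, v ≠ 0 ∧ ∀ g : P, Cfsg.permRep K G Ω g v = v := by
  obtain ⟨w, hw, hw0⟩ := Submodule.exists_mem_ne_zero_of_ne_bot hne
  have := Fintype.ofFinite P
  let φ : (P → ZMod p) →+ (Ω → K) :=
    { toFun := fun c => ∑ g : P, ZMod.castHom (dvd_refl p) K (c g) • Cfsg.permRep K G Ω g w
      map_zero' := by simp
      map_add' := fun c d => by simp only [Pi.add_apply, map_add, add_smul, Finset.sum_add_distrib] }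
  have hinv : ∀ (g : P) (v : Ω → K), v ∈ φ.range → Cfsg.permRep K G Ω g v ∈ φ.range := by
    rintro g _ ⟨c, rfl⟩
    refine ⟨fun h => c (g⁻¹ * h), ?_⟩
    show ∑ h : P, _ = Cfsg.permRep K G Ω g (∑ h : P, _)
    rw [map_sum]
    refine Fintype.sum_equiv (Equiv.mulLeft g⁻¹) _ _ fun h => ?_
    rw [map_smul]
    congr 1
    simp only [Equiv.coe_mulLeft, Subgroup.coe_mul, Subgroup.coe_inv]
    rw [← Module.End.mul_apply, ← map_mul, mul_inv_cancel_left]
  let S := ↥φ.range
  let inst : MulAction P S :=
    { smul := fun g v => ⟨Cfsg.permRep K G Ω g v, hinv g v v.2⟩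
      one_smul := fun v => Subtype.ext (by
        show Cfsg.permRep K G Ω ((1 : P) : G) v = v
        simp)
      mul_smul := fun g h v => Subtype.ext (by
        show Cfsg.permRep K G Ω ((g * h : P) : G) v =
          Cfsg.permRep K G Ω g (Cfsg.permRep K G Ω h v)
        simp) }
  have : Finite S := Finite.of_surjective φ.rangeRestrict φ.rangeRestrict_surjective
  have hdvd : Nat.card S ∣ p ^ Nat.card P := by
    have h := AddSubgroup.card_dvd_of_surjective φ.rangeRestrict φ.rangeRestrict_surjective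
    rwa [Nat.card_fun, Nat.card_zmod] at h
  obtain ⟨k, -, hk⟩ := (Nat.dvd_prime_pow Fact.out).mp hdvd
  have hwS : w ∈ φ.range := ⟨Pi.single 1 1, by
    show ∑ g : P, _ = w
    rw [Finset.sum_eq_single (1 : P)]
    · simp
    · intro g _ hg
      rw [Pi.single_eq_of_ne hg, map_zero, zero_smul]
    · simp⟩
  have hk0 : k ≠ 0 := by
    rintro rfl
    rw [pow_zero] at hk
    have := (Nat.card_eq_one_iff_unique.mp hk).1
    exact hw0 (congrArg Subtype.val (Subsingleton.elim (⟨w, hwS⟩ : S) 0))
  have h0 : (0 : S) ∈ fixedPoints P S := fun g => Subtype.ext (by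
    show Cfsg.permRep K G Ω g (0 : Ω → K) = 0
    rw [map_zero])
  obtain ⟨v, hv, hv0⟩ :=
    hP.exists_fixed_point_of_prime_dvd_card_of_fixed_point S (hk ▸ dvd_pow_self p hk0) h0
  refine ⟨v, ?_, fun h => hv0 (Subtype.ext h.symm), fun g => congrArg Subtype.val (hv g)⟩
  obtain ⟨c, hc⟩ := v.2
  rw [← hc]
  exact W.sum_mem fun g _ => W.smul_mem _ (hW g w hw)

/-- For a transitive action of prime-power degree, the constants lie in every non-zero invariant
subspace. -/
theorem constants_le [Finite G] [Fintype Ω] {p f : ℕ} [Fact p.Prime] [CharP K p]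
    [IsPretransitive G Ω] (hcard : Fintype.card Ω = p ^ f) (W : Submodule K (Ω → K))
    (hW : ∀ g : G, ∀ v ∈ W, Cfsg.permRep K G Ω g v ∈ W) (hne : W ≠ ⊥) :
    (Cfsg.permConstants K G Ω).toSubmodule ≤ W := by
  obtain ⟨P⟩ := (inferInstance : Nonempty (Sylow p G))
  obtain ⟨v, hv, hv0, hfix⟩ :=
    exists_fixed_vector (P : Subgroup G) P.isPGroup' W (fun g => hW g) hne
  obtain ⟨ω, hω⟩ := Function.ne_iff.mp hv0
  have horb : orbit (P : Subgroup G) ω = Set.univ := by
    refine Set.eq_univ_of_forall fun x => ?_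
    by_contra hx
    have hdvd := CfsgLib.Maximal.sylow_orbit_dvd (inferInstance : IsPretransitive G Ω) (k := f)
      (p := p) (by rw [Nat.card_eq_fintype_card, hcard]) P ω
    have hlt : Nat.card (orbit (P : Subgroup G) ω) < Nat.card Ω := by
      rw [Nat.card_coe_set_eq, ← Set.ncard_univ]
      exact Set.ncard_lt_ncard (Set.ssubset_univ_iff.mpr fun h => hx (h ▸ Set.mem_univ x))
        Set.finite_univ
    have hpos : 0 < Nat.card (orbit (P : Subgroup G) ω) := by
      rw [Nat.card_coe_set_eq, Set.ncard_pos (Set.toFinite _)]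
      exact ⟨ω, mem_orbit_self ω⟩
    rw [Nat.card_eq_fintype_card (α := Ω), hcard] at hlt
    exact absurd (Nat.le_of_dvd hpos hdvd) (by omega)
  intro u hu
  obtain ⟨c, hc⟩ := mem_permConstants_iff.mp hu
  have hconst : ∀ x, v x = v ω := by
    intro x
    obtain ⟨g, rfl⟩ := mem_orbit_iff.mp (horb ▸ Set.mem_univ x : x ∈ orbit (P : Subgroup G) ω)
    have h := congrFun (hfix g) (g • ω)
    rw [permRep_apply] at h
    rw [← h]
    exact congrArg v (inv_smul_smul g ω)
  have : u = (c * (v ω)⁻¹) • v := by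
    funext x
    rw [Pi.smul_apply, smul_eq_mul, hc, mul_assoc, hconst x,
      inv_mul_cancel₀ (show v ω ≠ 0 from hω), mul_one]
  rw [this]
  exact W.smul_mem _ hv

/-- For a transitive action of prime-power degree, every proper invariant subspace has sum zero. -/
theorem le_sumZero [Finite G] [Fintype Ω] {p f : ℕ} [Fact p.Prime] [CharP K p]
    [IsPretransitive G Ω] (hcard : Fintype.card Ω = p ^ f) (W : Submodule K (Ω → K))
    (hW : ∀ g : G, ∀ v ∈ W, Cfsg.permRep K G Ω g v ∈ W) (hne : W ≠ ⊤) :
    W ≤ (Cfsg.permSumZero K G Ω).toSubmodule := by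
  obtain ⟨ℓ, hℓ0, hℓ⟩ := Submodule.exists_le_ker_of_lt_top W (lt_top_iff_ne_top.mpr hne)
  let U : Submodule K (Ω → K) :=
    { carrier := {u | ∀ v ∈ W, ∑ x, v x * u x = 0}
      zero_mem' := fun v _ => by simp
      add_mem' := fun {a b} ha hb v hv => by
        simp only [Pi.add_apply, mul_add, Finset.sum_add_distrib, ha v hv, hb v hv, add_zero]
      smul_mem' := fun c {a} ha v hv => by
        simp only [Pi.smul_apply, smul_eq_mul, mul_left_comm, ← Finset.mul_sum, ha v hv, mul_zero] }
  have hUne : U ≠ ⊥ := by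
    intro h
    have hu : (fun x => ℓ (Pi.single x 1)) ∈ U := by
      intro v hv
      have h1 : ℓ v = 0 := hℓ hv
      rw [← h1]
      conv_rhs => rw [pi_eq_sum_univ' v, map_sum]
      refine Finset.sum_congr rfl fun x _ => ?_
      rw [map_smul, smul_eq_mul]
    rw [h, Submodule.mem_bot] at hu
    apply hℓ0
    refine LinearMap.ext fun v => ?_
    rw [pi_eq_sum_univ' v, map_sum, LinearMap.zero_apply]
    refine Finset.sum_eq_zero fun x _ => ?_
    rw [map_smul, show ℓ (Pi.single x 1) = 0 from congrFun hu x, smul_zero]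
  have hUinv : ∀ g : G, ∀ u ∈ U, Cfsg.permRep K G Ω g u ∈ U := by
    intro g u hu v hv
    rw [← hu _ (hW g⁻¹ v hv)]
    refine Fintype.sum_equiv (MulAction.toPerm g⁻¹) _ _ fun x => ?_
    simp [permRep_apply]
  have h1 : (fun _ => (1 : K)) ∈ U :=
    constants_le hcard U hUinv hUne (mem_permConstants_iff.mpr ⟨1, fun _ => rfl⟩)
  intro w hw
  rw [mem_permSumZero_iff, ← h1 w hw]
  exact Finset.sum_congr rfl fun x _ => (mul_one _).symm

variable {Θ : Type*} [MulAction G Θ]

/-- The map of permutation modules with an invariant kernel. -/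
noncomputable def kernelMap [Fintype Ω] (A : Θ → Ω → K) : (Ω → K) →ₗ[K] (Θ → K) where
  toFun f s := ∑ x, A s x * f x
  map_add' f g := by funext s; simp [mul_add, Finset.sum_add_distrib]
  map_smul' c f := by funext s; simp [Finset.mul_sum, mul_left_comm]

theorem kernelMap_apply [Fintype Ω] (A : Θ → Ω → K) (f : Ω → K) (s : Θ) :
    kernelMap A f s = ∑ x, A s x * f x := rfl

theorem kernelMap_single [Fintype Ω] (A : Θ → Ω → K) (x : Ω) (s : Θ) :
    kernelMap A (Pi.single x 1) s = A s x := by
  rw [kernelMap_apply, Finset.sum_eq_single x]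
  · simp
  · intro y _ hy; simp [Pi.single_eq_of_ne hy]
  · simp

theorem kernelMap_equivariant [Fintype Ω] (A : Θ → Ω → K)
    (hA : ∀ (g : G) s x, A (g • s) (g • x) = A s x) (g : G) (f : Ω → K) :
    kernelMap A (Cfsg.permRep K G Ω g f) = Cfsg.permRep K G Θ g (kernelMap A f) := by
  funext s
  rw [permRep_apply, kernelMap_apply, kernelMap_apply]
  refine Fintype.sum_equiv (MulAction.toPerm g⁻¹) _ _ fun x => ?_
  rw [permRep_apply, MulAction.toPerm_apply, hA]

/-- If no factor of the heart of the permutation module is trivial then the group is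
2-transitive. -/
theorem two_transitive_of_heart [Finite G] [Fintype Ω] {p f : ℕ} [Fact p.Prime] [CharP K p]
    [IsPretransitive G Ω] (hcard : Fintype.card Ω = p ^ f)
    (h : ∀ W W' : Subrepresentation (Cfsg.permRep K G Ω),
      (Cfsg.permConstants K G Ω).toSubmodule ≤ W.toSubmodule → W.toSubmodule < W'.toSubmodule →
      W'.toSubmodule ≤ (Cfsg.permSumZero K G Ω).toSubmodule →
      ∃ g : G, ∃ v ∈ W'.toSubmodule, Cfsg.permRep K G Ω g v - v ∉ W.toSubmodule) :
    IsMultiplyPretransitive G Ω 2 := by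
  have key : ∀ a b c : Ω, b ≠ a → c ≠ a → ∃ g : G, g • a = a ∧ g • b = c := by
    intro a b c hba hca
    let A : Ω → Ω → K := fun y x =>
      if ((x, y) : Ω × Ω) ∈ orbit G ((a, b) : Ω × Ω) then 1 else 0
    have hA : ∀ (g : G) y x, A (g • y) (g • x) = A y x := by
      intro g y x
      have : (g • x, g • y) ∈ orbit G ((a, b) : Ω × Ω) ↔ (x, y) ∈ orbit G ((a, b) : Ω × Ω) := by
        rw [show ((g • x, g • y) : Ω × Ω) = g • (x, y) from rfl]
        constructor
        · rintro ⟨u, hu⟩
          exact ⟨g⁻¹ * u, by simp only [mul_smul]; rw [show u • ((a, b) : Ω × Ω) = g • (x, y) from hu,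
            inv_smul_smul]⟩
        · rintro ⟨u, hu⟩
          exact ⟨g * u, by simp only [mul_smul]; rw [show u • ((a, b) : Ω × Ω) = (x, y) from hu]⟩
      simp only [A, this]
    set φ := kernelMap A with hφ
    set Δ : Finset Ω := Finset.univ.filter (fun y => ((a, y) : Ω × Ω) ∈ orbit G ((a, b) : Ω × Ω))
      with hΔ
    set d : K := (Δ.card : K) with hd
    set ψ : (Ω → K) →ₗ[K] (Ω → K) := φ - d • LinearMap.id with hψ
    have hψeq : ∀ (g : G) v, ψ (Cfsg.permRep K G Ω g v) = Cfsg.permRep K G Ω g (ψ v) := by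
      intro g v
      simp only [hψ, LinearMap.sub_apply, LinearMap.smul_apply, LinearMap.id_apply, map_sub,
        map_smul, hφ, kernelMap_equivariant A hA]
    let J : Subrepresentation (Cfsg.permRep K G Ω) :=
      { toSubmodule := (Cfsg.permSumZero K G Ω).toSubmodule.map ψ
        apply_mem_toSubmodule := by
          rintro g _ ⟨v, hv, rfl⟩
          exact ⟨_, (Cfsg.permSumZero K G Ω).apply_mem_toSubmodule g hv, hψeq g v⟩ }
    let I : Subrepresentation (Cfsg.permRep K G Ω) :=
      { toSubmodule := LinearMap.range ψ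
        apply_mem_toSubmodule := by
          rintro g _ ⟨v, rfl⟩
          exact ⟨_, hψeq g v⟩ }
    have hcol : ∀ y, ψ (Pi.single a 1) y =
        (if y ∈ Δ then 1 else 0) - d * (if y = a then 1 else 0) := by
      intro y
      simp only [hψ, LinearMap.sub_apply, LinearMap.smul_apply, LinearMap.id_apply, Pi.sub_apply,
        hφ, kernelMap_single, Pi.smul_apply, smul_eq_mul, Pi.single_apply, hΔ, Finset.mem_filter,
        Finset.mem_univ, true_and, A]
    have hIS : I.toSubmodule ≤ (Cfsg.permSumZero K G Ω).toSubmodule := by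
      rintro _ ⟨v, rfl⟩
      rw [mem_permSumZero_iff]
      have h0 : ∑ y, ψ (Pi.single a 1) y = 0 := by
        simp only [hcol, Finset.sum_sub_distrib, ← Finset.mul_sum, Finset.sum_ite_mem,
          Finset.univ_inter, Finset.sum_const, nsmul_eq_mul, mul_one, Finset.sum_ite_eq',
          Finset.mem_univ, if_true, hd, sub_self]
      have h1 : ∀ x, ∑ y, ψ (Pi.single x 1) y = 0 := by
        intro x
        obtain ⟨g, rfl⟩ := exists_smul_eq G a x
        rw [← permRep_single, hψeq]
        exact (Cfsg.permSumZero K G Ω).apply_mem_toSubmodule g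
          (mem_permSumZero_iff.mpr h0)
      rw [pi_eq_sum_univ' v, map_sum]
      simp only [map_smul, Finset.sum_apply, Pi.smul_apply]
      rw [Finset.sum_comm]
      exact Finset.sum_eq_zero fun x _ => by rw [← Finset.smul_sum, h1, smul_zero]
    have hconst : ψ (Pi.single a 1) ∈ (Cfsg.permConstants K G Ω).toSubmodule := by
      by_cases hJ : J.toSubmodule = ⊥
      · rw [mem_permConstants_iff]
        refine ⟨ψ (Pi.single a 1) a, fun y => ?_⟩
        obtain ⟨g, hg⟩ := exists_smul_eq G y a
        have hfix : Cfsg.permRep K G Ω g (ψ (Pi.single a 1)) = ψ (Pi.single a 1) := by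
          rw [← hψeq]
          have : ψ (Cfsg.permRep K G Ω g (Pi.single a 1) - Pi.single a 1) ∈ J.toSubmodule :=
            Submodule.mem_map_of_mem (permRep_sub_mem_sumZero g _)
          rw [hJ, Submodule.mem_bot, map_sub, sub_eq_zero] at this
          exact this
        conv_rhs => rw [← hfix, permRep_apply, show g⁻¹ • a = y by rw [← hg, inv_smul_smul]]
      · have hCJ : (Cfsg.permConstants K G Ω).toSubmodule ≤ J.toSubmodule :=
          constants_le hcard _ (fun g v hv => J.apply_mem_toSubmodule g hv) hJ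
        have hJI : J.toSubmodule ≤ I.toSubmodule := by
          rintro _ ⟨v, -, rfl⟩; exact ⟨v, rfl⟩
        rcases eq_or_lt_of_le hJI with he | hlt
        · have hker : LinearMap.ker ψ = ⊤ := by
            by_contra hne
            have hkS := le_sumZero hcard (LinearMap.ker ψ) (fun g v hv => by
              rw [LinearMap.mem_ker] at hv ⊢
              rw [hψeq, hv, map_zero]) hne
            obtain ⟨s, hs, hse⟩ : ψ (Pi.single a 1) ∈ J.toSubmodule := by
              rw [he]; exact ⟨_, rfl⟩
            have h3 := hkS (show Pi.single a 1 - s ∈ LinearMap.ker ψ by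
              rw [LinearMap.mem_ker, map_sub, hse, sub_self])
            have h4 := (Cfsg.permSumZero K G Ω).toSubmodule.add_mem h3 hs
            rw [sub_add_cancel, mem_permSumZero_iff, Finset.sum_pi_single'] at h4
            simp at h4
          rw [show ψ (Pi.single a 1) = 0 from LinearMap.mem_ker.mp (hker ▸ Submodule.mem_top)]
          exact Submodule.zero_mem _
        · obtain ⟨g, v, ⟨m, rfl⟩, hgv⟩ := h J I hCJ hlt hIS
          exact absurd (by rw [← hψeq, ← map_sub]
                           exact Submodule.mem_map_of_mem (permRep_sub_mem_sumZero g m)) hgv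
    obtain ⟨k, hk⟩ := mem_permConstants_iff.mp hconst
    have hb : b ∈ Δ := by simp [hΔ, mem_orbit_self]
    have h1 : k = 1 := by rw [← hk b, hcol, if_pos hb, if_neg hba, mul_zero, sub_zero]
    have hc : c ∈ Δ := by
      by_contra hc
      have := hk c
      rw [hcol, if_neg hc, if_neg hca, mul_zero, sub_zero, h1] at this
      exact zero_ne_one this
    obtain ⟨u, hu⟩ := mem_orbit_iff.mp (Finset.mem_filter.mp hc).2
    exact ⟨u, congrArg Prod.fst hu, congrArg Prod.snd hu⟩
  rw [is_two_pretransitive_iff]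
  intro a b c d hab hcd
  obtain ⟨g, hg⟩ := exists_smul_eq G a c
  have hgb : g • b ≠ c := fun h => hab (smul_left_cancel g (hg.trans h.symm))
  obtain ⟨u, huc, hud⟩ := key c (g • b) d hgb (Ne.symm hcd)
  exact ⟨u * g, by rw [mul_smul, hg, huc], by rw [mul_smul, hud]⟩

end CfsgLib.PermGroup
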