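import Cfsg.Agent.Lib.PermGroup.Basic
import Mathlib.GroupTheory.Sylow
import Mathlib.GroupTheory.Subgroup.Centralizer
import Mathlib.GroupTheory.GroupAction.Quotient
import Mathlib.GroupTheory.GroupAction.ConjAct

/-! A finite sharply 2-transitive group has a regular elementary abelian normal subgroup. -/

open MulAction
open scoped Classical

namespace CfsgLib.PermGroup

variable {G α : Type*} [Group G] [MulAction G α]

theorem sharpTwo_of_stabilizer_embedding (h : ∀ x : Fin 2 ↪ α, stabilizer G x = ⊥)
    (g : G) (a b : α) (hab : a ≠ b) (ha : g • a = a) (hb : g • b = b) : g = 1 := by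
  have hg : g ∈ stabilizer G (Function.Embedding.embFinTwo hab) := by
    rw [mem_stabilizer_iff]
    ext i
    rw [Function.Embedding.smul_apply]
    fin_cases i
    · show g • Function.Embedding.embFinTwo hab 0 = _
      rw [Function.Embedding.embFinTwo_apply_zero]; exact ha
    · show g • Function.Embedding.embFinTwo hab 1 = _
      rw [Function.Embedding.embFinTwo_apply_one]; exact hb
  rwa [h, Subgroup.mem_bot] at hg

/-- The order of a sharply 2-transitive group and of its point stabilizers. -/
theorem sharpTwo_card [Finite α] (h2 : IsMultiplyPretransitive G α 2)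
    (hs : ∀ g : G, ∀ a b : α, a ≠ b → g • a = a → g • b = b → g = 1) (hn : 2 ≤ Nat.card α) :
    Finite G ∧ Nat.card G = Nat.card α * (Nat.card α - 1) ∧
      ∀ a : α, Nat.card (stabilizer G a) = Nat.card α - 1 := by
  have htr : IsPretransitive G α := isPretransitive_of_two_le h2 (by norm_num) hn
  have hfin : Finite α := inferInstance
  have hst : ∀ a : α, Nat.card (stabilizer G a) = Nat.card α - 1 := by
    intro a
    have : Nontrivial α := Finite.one_lt_card_iff_nontrivial.mp (by omega)
    obtain ⟨b, hb⟩ := exists_ne a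
    have h := Nat.card_congr (Equiv.ofBijective
      (fun g : stabilizer G a => (⟨(g : G) • b, fun he => hb (by
        have h1 : (g : G) • b = (g : G) • a := he.trans g.2.symm
        exact smul_left_cancel _ h1)⟩ : {x : α // x ≠ a})) ⟨fun g g' h => by
          have h' : (g : G) • b = (g' : G) • b := congrArg Subtype.val h
          have := hs ((g' : G)⁻¹ * g) a b (Ne.symm hb)
            (by rw [mul_smul, inv_smul_eq_iff]; exact g.2.trans g'.2.symm)
            (by rw [mul_smul, h', inv_smul_smul])
          exact Subtype.ext (inv_mul_eq_one.mp this).symm, fun x => by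
          obtain ⟨g, hga, hgb⟩ := is_two_pretransitive_iff.mp h2 (Ne.symm hb) (Ne.symm x.2)
          exact ⟨⟨g, hga⟩, Subtype.ext hgb⟩⟩)
    rw [h]
    have := Fintype.ofFinite α
    rw [Nat.card_eq_fintype_card, Nat.card_eq_fintype_card, Fintype.card_subtype_compl,
      Fintype.card_subtype_eq]
  have : Nonempty α := Finite.card_pos_iff.mp (by omega)
  obtain ⟨a⟩ := this
  have hG : Nat.card G = Nat.card α * (Nat.card α - 1) := by
    rw [← (stabilizer G a).card_mul_index, index_stabilizer_of_transitive, hst a, mul_comm]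
  refine ⟨Nat.finite_of_card_ne_zero ?_, hG, hst⟩
  rw [hG]
  exact Nat.mul_ne_zero (by omega) (by omega)

/-- The elements of a finite sharply 2-transitive group moving every point, together with 1, form
a regular elementary abelian normal subgroup, the Sylow subgroup for its prime. -/
theorem sharpTwo_kernel [Finite α] (h2 : IsMultiplyPretransitive G α 2)
    (hs : ∀ g : G, ∀ a b : α, a ≠ b → g • a = a → g • b = b → g = 1) (hn : 2 ≤ Nat.card α) :
    ∃ K : Subgroup G, K.Normal ∧ IsMulCommutative K ∧
      (∀ g : G, g ∈ K ↔ g = 1 ∨ ∀ a : α, g • a ≠ a) ∧ IsPretransitive K α ∧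
      (∀ a : α, stabilizer K a = ⊥) ∧
      ∃ p j : ℕ, p.Prime ∧ 1 ≤ j ∧ Nat.card α = p ^ j ∧ (∀ x ∈ K, x ^ p = 1) ∧
        ∀ (_ : Fact p.Prime) (P : Sylow p G), (P : Subgroup G) = K := by
  obtain ⟨hfinG, hG, hst⟩ := sharpTwo_card h2 hs hn
  have htr : IsPretransitive G α := isPretransitive_of_two_le h2 (by norm_num) hn
  have := Fintype.ofFinite α
  have := Fintype.ofFinite G
  set n := Nat.card α with hndef
  set D : Finset G := Finset.univ.filter (fun g => ∀ a : α, g • a ≠ a) with hD
  have hDc : D.card = n - 1 := by
    have h1 : (Finset.univ.filter (fun g : G => g ≠ 1 ∧ ∃ a : α, g • a = a)).card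
        = n * (n - 2) := by
      have : Finset.univ.filter (fun g : G => g ≠ 1 ∧ ∃ a : α, g • a = a) =
          Finset.univ.biUnion (fun a : α => Finset.univ.filter (fun g : G => g ≠ 1 ∧ g • a = a)) := by
        ext g; simp
      rw [this, Finset.card_biUnion]
      · rw [Finset.sum_const_nat (m := n - 2)]
        · rw [Finset.card_univ, hndef, Nat.card_eq_fintype_card]
        · intro a _
          have h3 : (Finset.univ.filter (fun g : G => g ≠ 1 ∧ g • a = a)) =
              (Finset.univ.filter (fun g : G => g • a = a)).erase 1 := by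
            ext g; simp
          rw [h3, Finset.card_erase_of_mem (by simp)]
          have h4 := hst a
          rw [Nat.card_eq_fintype_card, Fintype.card_subtype] at h4
          simp only [mem_stabilizer_iff] at h4
          omega
      · intro a _ b _ hab
        simp only [Function.onFun, Finset.disjoint_left, Finset.mem_filter]
        rintro g ⟨-, hg, hga⟩ ⟨-, -, hgb⟩
        exact hg (hs g a b hab hga hgb)
    have h2' : Finset.univ.filter (fun g : G => g ≠ 1 ∧ ∃ a : α, g • a = a) = (insert 1 D)ᶜ := by
      ext g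
      simp [hD, not_or]
    rw [h2', Finset.card_compl, Finset.card_insert_of_notMem, ← Nat.card_eq_fintype_card, hG] at h1
    · have hle : D.card + 1 ≤ n * (n - 1) := by
        rw [← hG, Nat.card_eq_fintype_card, ← Finset.card_insert_of_notMem (a := (1 : G)) (s := D)]
        · exact Finset.card_le_univ _
        · simp only [hD, Finset.mem_filter, not_and, not_forall, not_not]
          intro _
          obtain ⟨a⟩ : Nonempty α := Finite.card_pos_iff.mp (by omega)
          exact ⟨a, one_smul G a⟩
      obtain ⟨k, hk⟩ : ∃ k, n = k + 2 := ⟨n - 2, by omega⟩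
      rw [hk] at h1 hle ⊢
      simp only [Nat.add_sub_cancel, show k + 2 - 1 = k + 1 by omega] at h1 hle ⊢
      have : (k + 2) * (k + 1) = (k + 2) * k + (k + 2) := by ring
      omega
    · simp only [hD, Finset.mem_filter, not_and, not_forall, not_not]
      intro _
      obtain ⟨a⟩ : Nonempty α := Finite.card_pos_iff.mp (by omega)
      exact ⟨a, one_smul G a⟩
  have h1D : (1 : G) ∉ D := by
    simp only [hD, Finset.mem_filter, not_and, not_forall, not_not]
    intro _
    obtain ⟨a⟩ : Nonempty α := Finite.card_pos_iff.mp (by omega)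
    exact ⟨a, one_smul G a⟩
  -- every centralizer of an element of `D` is `insert 1 D`
  have key : ∀ x ∈ D, (∀ g : G, g * x = x * g ↔ g ∈ insert 1 D) ∧
      ∀ y ∈ D, ∃ g : G, g * x * g⁻¹ = y := by
    intro x hx
    have hx' : ∀ a : α, x • a ≠ a := (Finset.mem_filter.mp hx).2
    set C : Finset G := Finset.univ.filter (fun g => g * x = x * g) with hC
    have hsub : C ⊆ insert 1 D := by
      intro g hg
      rw [Finset.mem_insert]
      by_contra hcon
      simp only [not_or, hD, Finset.mem_filter, Finset.mem_univ, true_and, not_forall, not_not]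
        at hcon
      obtain ⟨hg1, a, hga⟩ := hcon
      exact hg1 (hs g a (x • a) (Ne.symm (hx' a)) hga (by
        rw [← mul_smul, (Finset.mem_filter.mp hg).2, mul_smul, hga]))
    set cl : Finset G := Finset.univ.image (fun g : G => g * x * g⁻¹) with hcl
    have hsub2 : cl ⊆ D := by
      intro y hy
      obtain ⟨g, -, rfl⟩ := Finset.mem_image.mp hy
      simp only [hD, Finset.mem_filter, Finset.mem_univ, true_and]
      intro a ha
      rw [mul_smul, mul_smul, smul_eq_iff_eq_inv_smul] at ha
      exact hx' _ ha
    have hmul : Nat.card G = cl.card * C.card := by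
      have h := Finset.card_eq_sum_card_image (fun g : G => g * x * g⁻¹) (Finset.univ : Finset G)
      rw [Finset.card_univ, ← Nat.card_eq_fintype_card, ← hcl] at h
      rw [h]
      refine Finset.sum_const_nat fun y hy => ?_
      obtain ⟨u, -, rfl⟩ := Finset.mem_image.mp hy
      refine Finset.card_bij (fun g _ => u⁻¹ * g) ?_ ?_ ?_
      · intro g hg
        simp only [Finset.mem_filter, Finset.mem_univ, true_and, hC] at hg ⊢
        calc u⁻¹ * g * x = u⁻¹ * (g * x * g⁻¹) * g := by group
          _ = u⁻¹ * (u * x * u⁻¹) * g := by rw [hg]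
          _ = x * (u⁻¹ * g) := by group
      · intro g _ g' _ h; exact mul_left_cancel h
      · intro c hc
        refine ⟨u * c, ?_, by group⟩
        simp only [Finset.mem_filter, Finset.mem_univ, true_and, hC] at hc ⊢
        calc u * c * x * (u * c)⁻¹ = u * (c * x) * c⁻¹ * u⁻¹ := by group
          _ = u * (x * c) * c⁻¹ * u⁻¹ := by rw [hc]
          _ = u * x * u⁻¹ := by group
    have hCle : C.card ≤ n := by
      refine (Finset.card_le_card hsub).trans ?_
      rw [Finset.card_insert_of_notMem h1D, hDc]; omega
    have hclle : cl.card ≤ n - 1 := hDc ▸ Finset.card_le_card hsub2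
    rw [hG, mul_comm n] at hmul
    have hC' : C = insert 1 D := by
      refine Finset.eq_of_subset_of_card_le hsub ?_
      rw [Finset.card_insert_of_notMem h1D, hDc]
      by_contra hlt
      have : cl.card * C.card < (n - 1) * n :=
        calc cl.card * C.card ≤ (n - 1) * C.card := Nat.mul_le_mul_right _ hclle
          _ < (n - 1) * n := Nat.mul_lt_mul_of_pos_left (by omega) (by omega)
      omega
    have hcl' : cl = D := by
      refine Finset.eq_of_subset_of_card_le hsub2 ?_
      rw [hDc]
      by_contra hlt
      have : cl.card * C.card < (n - 1) * n :=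
        calc cl.card * C.card ≤ cl.card * n := Nat.mul_le_mul_left _ hCle
          _ < (n - 1) * n := Nat.mul_lt_mul_of_pos_right (by omega) (by omega)
      omega
    refine ⟨fun g => ?_, fun y hy => ?_⟩
    · rw [← hC', hC]; simp
    · rw [← hcl', hcl] at hy
      obtain ⟨g, -, hg⟩ := Finset.mem_image.mp hy
      exact ⟨g, hg⟩
  obtain ⟨x, hx⟩ : D.Nonempty := Finset.card_pos.mp (by omega)
  let K : Subgroup G :=
    { carrier := {g | g * x = x * g}
      one_mem' := by simp
      mul_mem' := fun {a b} ha hb => (Commute.mul_left (a := a) (b := b) ha hb :)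
      inv_mem' := fun {a} ha => (Commute.inv_left (a := a) ha :) }
  have hmem : ∀ g : G, g ∈ K ↔ g = 1 ∨ ∀ a : α, g • a ≠ a := by
    intro g
    show g * x = x * g ↔ _
    rw [(key x hx).1 g, Finset.mem_insert, hD, Finset.mem_filter]
    simp
  have hKD : ∀ g : G, g ∈ K → g ≠ 1 → g ∈ D := fun g hg h1 => by
    rw [hD, Finset.mem_filter]
    exact ⟨Finset.mem_univ _, ((hmem g).mp hg).resolve_left h1⟩
  have hnorm : K.Normal := ⟨fun a ha g => by
    rw [hmem] at ha ⊢
    rcases ha with rfl | ha
    · left; group
    · right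
      intro b hb
      rw [mul_smul, mul_smul, smul_eq_iff_eq_inv_smul] at hb
      exact ha _ hb⟩
  have hsemi : ∀ a : α, stabilizer K a = ⊥ := by
    intro a
    rw [eq_bot_iff]
    intro g hg
    rw [Subgroup.mem_bot]
    rcases (hmem g).mp g.2 with h | h
    · exact Subtype.ext h
    · exact absurd hg (h a)
  have hKc : Nat.card K = n := by
    rw [Nat.card_eq_fintype_card, Fintype.card_subtype]
    rw [show (Finset.univ.filter fun g => g ∈ K) = insert 1 D by
      ext g
      simp only [Finset.mem_filter, Finset.mem_univ, true_and]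
      exact (key x hx).1 g]
    rw [Finset.card_insert_of_notMem h1D, hDc]; omega
  have htrK : IsPretransitive K α := by
    obtain ⟨a⟩ : Nonempty α := Finite.card_pos_iff.mp (by omega)
    have hb : Function.Bijective (fun k : K => k • a) :=
      (Nat.bijective_iff_injective_and_card _).mpr ⟨fun _ _ h => semiregular_inj hsemi h, hKc⟩
    refine ⟨fun u v => ?_⟩
    obtain ⟨k, rfl⟩ := hb.2 u
    obtain ⟨l, rfl⟩ := hb.2 v
    exact ⟨l * k⁻¹, by simp [mul_smul]⟩
  have hKne : K ≠ ⊥ := fun h => by
    rw [h, Subgroup.card_bot] at hKc; omega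
  obtain ⟨hab, p, hp, hexp⟩ := elementary_abelian_of_conj K (fun a ha b hb ha1 hb1 => by
    obtain ⟨g, hg⟩ := (key a (hKD a ha ha1)).2 b (hKD b hb hb1)
    exact ⟨g, by rw [Subgroup.normalizer_eq_top]; trivial, hg⟩) hKne
  have : Fact p.Prime := ⟨hp⟩
  have hKp : IsPGroup p K := fun k => ⟨1, by
    rw [pow_one]; exact Subtype.ext (by simpa using hexp k k.2)⟩
  obtain ⟨j, hj⟩ := IsPGroup.iff_card.mp hKp
  rw [hKc] at hj
  have hj1 : 1 ≤ j := by
    rcases Nat.eq_zero_or_pos j with rfl | h
    · rw [pow_zero] at hj; omega
    · exact h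
  refine ⟨K, hnorm, hab, hmem, htrK, hsemi, p, j, hp, hj1, hj, hexp, fun _ P => ?_⟩
  have hcop : ¬ p ∣ n - 1 := by
    intro h
    have h1 : p ∣ n := hj ▸ dvd_pow_self p (by omega)
    have h2 : p ∣ n - (n - 1) := Nat.dvd_sub h1 h
    rw [show n - (n - 1) = 1 by omega] at h2
    exact hp.not_dvd_one h2
  have hfac : (Nat.card G).factorization p = j := by
    rw [hG, Nat.factorization_mul (by omega) (by omega), Finsupp.add_apply,
      Nat.factorization_eq_zero_of_not_dvd hcop, hj, hp.factorization_pow, Finsupp.single_eq_same,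
      add_zero]
  symm
  refine Subgroup.eq_of_le_of_card_ge ?_ ?_
  · exact le_sup_left.trans
      (P.is_maximal' (IsPGroup.to_sup_of_normal_left hKp P.isPGroup') le_sup_right).le
  · rw [P.card_eq_multiplicity, hfac, hKc, hj]

end CfsgLib.PermGroup
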