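import Mathlib
import Cfsg.Agent.S0713
import Cfsg.Agent.Lib.Involutions.Transfer
import Cfsg.Agent.Lib.Small.Basic

/-!
# Even permutations of prime orders `p < q` close to the degree generate an alternating group
-/

namespace CfsgLib.PrimeCycleGen

open Equiv MulAction
open scoped Pointwise

variable {α : Type*} [Fintype α] [DecidableEq α]

theorem cycle_or_two {x : Perm α} {p : ℕ} (hp : p.Prime) (ox : orderOf x = p)
    (hn : Fintype.card α ≤ 2 * p) :
    (x.IsCycle ∧ x.support.card = p) ∨ (Fintype.card α = 2 * p ∧ x.support = Finset.univ) := by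
  obtain ⟨k, hk⟩ := Perm.cycleType_prime_order (σ := x) (ox ▸ hp)
  have hs : x.support.card = (k + 1) * p := by
    rw [← Perm.sum_cycleType, hk, Multiset.sum_replicate, smul_eq_mul, ox]
  have hle := Finset.card_le_univ x.support
  rw [hs] at hle
  have hk1 : k + 1 ≤ 2 := Nat.le_of_mul_le_mul_right (hle.trans hn) hp.pos
  rcases Nat.eq_zero_or_pos k with rfl | hk0
  · exact Or.inl ⟨Perm.card_cycleType_eq_one.1 (by rw [hk, Multiset.card_replicate]),
      by simpa using hs⟩
  · obtain rfl : k = 1 := by omega
    refine Or.inr ⟨by omega, Finset.eq_univ_of_card _ (by omega)⟩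

theorem isCycle_of_lt {y : Perm α} {q : ℕ} (hq : q.Prime) (oy : orderOf y = q)
    (hn : Fintype.card α < 2 * q) : y.IsCycle ∧ y.support.card = q := by
  have h := Perm.isCycle_of_prime_order' (σ := y) (oy ▸ hq) (oy ▸ hn)
  exact ⟨h, by rw [← h.orderOf, oy]⟩

theorem isPretransitive {p q : ℕ} (hp : p.Prime) (hqn : Fintype.card α < p + q) {x y : Perm α}
    (ox : orderOf x = p) (hy : y.IsCycle) (hys : y.support.card = q)
    (hmove : ∀ z, x z ≠ z ∨ y z ≠ z) {G : Subgroup (Perm α)} (hxG : x ∈ G) (hyG : y ∈ G) :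
    IsPretransitive G α := by
  obtain ⟨w, hw, hsame⟩ := id hy
  have hys' : ∀ z, y z ≠ z → ∃ g : G, g • w = z := fun z hz => by
    obtain ⟨i, hi⟩ := hsame hz
    exact ⟨⟨y ^ i, G.zpow_mem hyG i⟩, hi⟩
  have hall : ∀ z, ∃ g : G, g • w = z := by
    intro z
    by_cases hz : y z ≠ z
    · exact hys' z hz
    have hxz : x z ≠ z := (hmove z).resolve_right hz
    -- the cycle of `x` through `z` meets the support of `y`
    by_contra hno
    let f : Fin p → {a : α // a ∉ y.support} := fun i => ⟨(x ^ (i : ℕ)) z, fun hmem => hno (by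
      obtain ⟨g, hg⟩ := hys' _ (Perm.mem_support.1 hmem)
      refine ⟨(⟨x ^ (i : ℕ), G.pow_mem hxG _⟩ : G)⁻¹ * g, ?_⟩
      rw [mul_smul, hg, inv_smul_eq_iff]
      rfl)⟩
    have hf : Function.Injective f := by
      intro i j hij
      have h : (x ^ (i : ℕ)) z = (x ^ (j : ℕ)) z := congrArg Subtype.val hij
      rw [← Perm.smul_def, ← Perm.smul_def] at h
      have hper : MulAction.period x z = p := by
        rcases (Nat.dvd_prime hp).1 (ox ▸ MulAction.period_dvd_orderOf x z) with h1 | h1
        · exfalso
          rw [MulAction.period_eq_one_iff] at h1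
          exact hxz h1
        · exact h1
      have key : ∀ e : ℕ, (x ^ e) • z = z → p ∣ e := fun e he =>
        hper ▸ MulAction.pow_smul_eq_iff_period_dvd.1 he
      have main : ∀ u v : ℕ, u ≤ v → (x ^ u) • z = (x ^ v) • z → u ≡ v [MOD p] := by
        intro u v huv he
        refine (Nat.modEq_iff_dvd' huv).2 (key _ (MulAction.injective (x ^ u) ?_))
        change x ^ u • (x ^ (v - u) • z) = x ^ u • z
        rw [← mul_smul, ← pow_add, Nat.add_sub_cancel' huv, he]
      refine Fin.ext (Nat.ModEq.eq_of_lt_of_lt (m := p) ?_ i.2 j.2)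
      rcases le_total (i : ℕ) (j : ℕ) with hle | hle
      · exact main _ _ hle h
      · exact (main _ _ hle h.symm).symm
    have := hp.pos
    have := Fintype.card_le_of_injective f hf
    rw [Fintype.card_fin, Fintype.card_subtype_compl, Fintype.card_coe, hys] at this
    omega
  refine ⟨fun a b => ?_⟩
  obtain ⟨g, hg⟩ := hall a
  obtain ⟨g', hg'⟩ := hall b
  exact ⟨g' * g⁻¹, by rw [mul_smul, ← hg, inv_smul_smul, hg']⟩

theorem isPreprimitive {q : ℕ} (hq : q.Prime) (hqn : Fintype.card α < 2 * q) {y : Perm α}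
    (hy : y.IsCycle) (hys : y.support.card = q) {G : Subgroup (Perm α)} (hyG : y ∈ G)
    [IsPretransitive G α] : IsPreprimitive G α := by
  obtain ⟨w, hw, hsame⟩ := id hy
  refine IsPreprimitive.of_isTrivialBlock_base w fun {B} hwB hB => ?_
  by_cases hB1 : B.Subsingleton
  · exact Or.inl hB1
  right
  have hne : B.Nonempty := ⟨w, hwB⟩
  have h2 : 2 ≤ B.ncard := by
    rw [Set.not_subsingleton_iff] at hB1
    obtain ⟨c, hc, d, hd, hcd⟩ := hB1
    exact (Set.one_lt_ncard (Set.toFinite B)).2 ⟨c, hc, d, hd, hcd⟩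
  refine hB.eq_univ_of_card_lt ?_
  -- `y` fixes the block, so the block contains the support of `y`
  have horb := hB.ncard_block_mul_ncard_orbit_eq hne
  rw [Nat.card_eq_fintype_card] at horb
  have hr : (orbit G B).ncard < q := by
    have := Nat.mul_le_mul_right (orbit G B).ncard h2
    omega
  have hyB : (⟨y, hyG⟩ : G) • B = B := by
    have hdvd : MulAction.period (⟨y, hyG⟩ : G) B ∣ q := by
      have h := MulAction.period_dvd_orderOf (⟨y, hyG⟩ : G) B
      rwa [Subgroup.orderOf_mk, hy.orderOf, hys] at h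
    rcases (Nat.dvd_prime hq).1 hdvd with h1 | h1
    · exact MulAction.period_eq_one_iff.1 h1
    · exfalso
      -- an orbit of length `q` does not fit
      have hinj : Set.InjOn (fun i : ℕ => (⟨y, hyG⟩ : G) ^ i • B) (Finset.range q) := by
        intro i hi j hj hij
        simp only [Finset.coe_range, Set.mem_Iio] at hi hj
        refine Nat.ModEq.eq_of_lt_of_lt (m := q) ?_ hi hj
        rcases le_total i j with hle | hle
        · rw [Nat.modEq_iff_dvd' hle, ← h1, ← MulAction.pow_smul_eq_iff_period_dvd]
          have h3 : (⟨y, hyG⟩ : G) ^ i • ((⟨y, hyG⟩ : G) ^ (j - i) • B) = (⟨y, hyG⟩ : G) ^ i • B := by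
            rw [← mul_smul, ← pow_add, Nat.add_sub_cancel' hle]; exact hij.symm
          exact MulAction.injective _ h3
        · refine ((Nat.modEq_iff_dvd' hle).2 ?_).symm
          rw [← h1, ← MulAction.pow_smul_eq_iff_period_dvd]
          have h3 : (⟨y, hyG⟩ : G) ^ j • ((⟨y, hyG⟩ : G) ^ (i - j) • B) = (⟨y, hyG⟩ : G) ^ j • B := by
            rw [← mul_smul, ← pow_add, Nat.add_sub_cancel' hle]; exact hij
          exact MulAction.injective _ h3
      have := Set.ncard_le_ncard (s := (fun i : ℕ => (⟨y, hyG⟩ : G) ^ i • B) '' (Finset.range q))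
        (t := orbit G B) (by rintro _ ⟨i, -, rfl⟩; exact mem_orbit _ _)
        (Set.toFinite _)
      rw [Set.ncard_image_of_injOn hinj, Set.ncard_coe_finset, Finset.card_range] at this
      omega
  have hsub : (y.support : Set α) ⊆ B := by
    intro z hz
    obtain ⟨i, rfl⟩ := hsame (Perm.mem_support.1 hz)
    exact smul_mem_of_zpow (i := i) hyB hwB
  have := Set.ncard_le_ncard hsub (Set.toFinite B)
  rw [Set.ncard_coe_finset, hys] at this
  rw [Nat.card_eq_fintype_card]
  omega
where
  smul_mem_of_zpow {G : Subgroup (Perm α)} {g : G} {B : Set α} {i : ℤ} (h : g • B = B) {w : α}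
      (hw : w ∈ B) : (g : Perm α) ^ i • w ∈ B := by
    have h1 : g ^ i • B = B := MulAction.mem_stabilizer_iff.1
      ((MulAction.stabilizer G B).zpow_mem (MulAction.mem_stabilizer_iff.2 h) i)
    have h2 := Set.smul_mem_smul_set (a := g ^ i) hw
    rw [h1] at h2
    simpa [Subgroup.smul_def] using h2

theorem nonempty_alt_fin (hd : 5 ≤ Fintype.card α) {K : Type*} [Group K]
    (e : K ≃* alternatingGroup α) : ∃ d : ℕ, 5 ≤ d ∧ Nonempty (K ≃* alternatingGroup (Fin d)) :=
  ⟨Fintype.card α, hd, ⟨e.trans (Equiv.altCongrHom (Fintype.equivFin α))⟩⟩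

/-- A subgroup generated by two elements of odd order does not have order `2 * odd`. -/
theorem card_ne_two_mul_odd {G : Type*} [Group G] [Finite G] {x y : G}
    (hgen : Subgroup.closure {x, y} = ⊤) (hx : Odd (orderOf x)) (hy : Odd (orderOf y)) {m : ℕ}
    (hm : Odd m) : Nat.card G ≠ 2 * m := by
  intro h
  obtain ⟨H, hH⟩ := CfsgLib.Involutions.exists_index_two_of_card_eq_two_mul_odd hm h
  have hmem : ∀ g : G, Odd (orderOf g) → g ∈ H := by
    intro g hg
    obtain ⟨k, hk⟩ := hg
    have h2 : g ^ (2 * (k + 1)) = g := by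
      rw [show 2 * (k + 1) = (2 * k + 1) + 1 by ring, pow_succ, ← hk, pow_orderOf_eq_one, one_mul]
    rw [← h2, pow_mul]
    exact H.pow_mem (Subgroup.sq_mem_of_index_two hH g) _
  have hle : Subgroup.closure {x, y} ≤ H := (Subgroup.closure_le _).2 (by
    rintro g (rfl | rfl)
    · exact hmem _ hx
    · exact hmem _ hy)
  rw [hgen, top_le_iff] at hle
  rw [hle, Subgroup.index_top] at hH
  omega

theorem index_alt_large (h5 : 5 ≤ Fintype.card α) {G : Subgroup (Perm α)} (hG : G ≤ alternatingGroup α)
    (hne : G ≠ alternatingGroup α) :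
    2 * Nat.card (alternatingGroup α) ∣ Nat.factorial (G.relIndex (alternatingGroup α)) := by
  have : IsSimpleGroup (alternatingGroup α) :=
    alternatingGroup.isSimpleGroup (by rwa [Nat.card_eq_fintype_card])
  have hnc : ¬ IsMulCommutative (alternatingGroup α) := by
    intro h
    have h1 := commutator_alternatingGroup_eq_top (α := α) (by rwa [Nat.card_eq_fintype_card])
    rw [commutator_def, Subgroup.commutator_eq_bot_iff_le_centralizer.2 (fun a _ =>
      Subgroup.mem_centralizer_iff.2 fun b _ => h.is_comm.comm b a)] at h1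
    exact bot_ne_top h1
  refine CfsgLib.Small.two_mul_card_dvd_factorial_index hnc (H := G.subgroupOf _) ?_
  rw [Ne, Subgroup.subgroupOf_eq_top]
  exact fun h => hne (le_antisymm hG h)

theorem card_stabilizer_mul {G : Subgroup (Perm α)} [IsPretransitive G α] (a : α) :
    Nat.card (stabilizer G a) * Fintype.card α = Nat.card G := by
  rw [← Nat.card_eq_fintype_card, ← index_stabilizer_of_transitive G a, Subgroup.card_mul_index]

theorem dvd_card_of_mem {G : Subgroup (Perm α)} {x : Perm α} (h : x ∈ G) :
    orderOf x ∣ Nat.card G := G.orderOf_dvd_natCard h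

theorem odd_order_of_prime {x : Perm α} {p : ℕ} (hp : p.Prime) (ox : orderOf x = p) (hp2 : p ≠ 2) :
    Odd (orderOf x) := ox ▸ hp.odd_of_ne_two hp2

theorem closure_pair_eq_top {G : Type*} [Group G] (x y : G) :
    Subgroup.closure ({⟨x, Subgroup.subset_closure (Or.inl rfl)⟩,
      ⟨y, Subgroup.subset_closure (Or.inr rfl)⟩} : Set (Subgroup.closure ({x, y} : Set G))) = ⊤ := by
  refine eq_top_iff.2 fun g _ => ?_
  have h := Subgroup.closure_closure_coe_preimage (k := ({x, y} : Set G))
  refine Subgroup.closure_mono ?_ (h.ge (Subgroup.mem_top g))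
  rintro ⟨z, hz⟩ (h | h)
  · exact Or.inl (Subtype.ext h)
  · exact Or.inr (Subtype.ext h)

/-- Degree six, generators of order 3 and 5: the group is `A₅` or `A₆`. -/
theorem degree_six (hn : Fintype.card α = 6) {x y : Perm α} (ox : orderOf x = 3)
    (oy : orderOf y = 5) [IsPretransitive (Subgroup.closure ({x, y} : Set (Perm α))) α]
    (hG : Subgroup.closure ({x, y} : Set (Perm α)) ≤ alternatingGroup α) :
    ∃ d : ℕ, 5 ≤ d ∧
      Nonempty (Subgroup.closure ({x, y} : Set (Perm α)) ≃* alternatingGroup (Fin d)) := by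
  classical
  set G := Subgroup.closure ({x, y} : Set (Perm α)) with hGdef
  have hxG : x ∈ G := Subgroup.subset_closure (Or.inl rfl)
  have hyG : y ∈ G := Subgroup.subset_closure (Or.inr rfl)
  by_cases hall : G = alternatingGroup α
  · exact nonempty_alt_fin (by omega) (MulEquiv.subgroupCongr hall)
  have : Nontrivial α := Fintype.one_lt_card_iff_nontrivial.1 (by omega)
  have hA : Nat.card (alternatingGroup α) = 360 := by
    rw [nat_card_alternatingGroup, Nat.card_eq_fintype_card, hn]; rfl
  obtain ⟨a⟩ : Nonempty α := Fintype.card_pos_iff.1 (by omega)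
  have h30 : 30 ∣ Nat.card G := by
    have h6 : 6 ∣ Nat.card G := ⟨_, by rw [← card_stabilizer_mul (G := G) a, hn, mul_comm]⟩
    have h5 : 5 ∣ Nat.card G := oy ▸ dvd_card_of_mem hyG
    exact Nat.Coprime.mul_dvd_of_dvd_of_dvd (by norm_num : Nat.Coprime 6 5) h6 h5
  have hmul : Nat.card G * G.relIndex (alternatingGroup α) = 360 := by
    rw [← hA, ← Nat.card_congr (Subgroup.subgroupOfEquivOfLe hG).toEquiv]
    exact (G.subgroupOf (alternatingGroup α)).card_mul_index
  have hfac := index_alt_large (by omega) hG hall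
  rw [hA] at hfac
  set i := G.relIndex (alternatingGroup α) with hi
  obtain ⟨j, hj⟩ := h30
  rw [hj] at hmul
  have hji : j * i = 12 := by
    have : 30 * (j * i) = 30 * 12 := by rw [← mul_assoc, hmul]
    omega
  have hi6 : 6 ≤ i := by
    by_contra hlt
    push Not at hlt
    have hi12 : i ∣ 12 := ⟨j, by rw [← hji, mul_comm]⟩
    have : Nat.factorial i ≤ Nat.factorial 5 := Nat.factorial_le (by omega)
    have := Nat.le_of_dvd (Nat.factorial_pos i) hfac
    simp [Nat.factorial] at *
    omega
  have hile : i ≤ 12 := Nat.le_of_dvd (by norm_num) ⟨j, by rw [← hji, mul_comm]⟩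
  have hGcard : Nat.card G = 60 := by
    have hj2 : j ≤ 2 := by
      by_contra hj3
      have := Nat.mul_le_mul (show 3 ≤ j by omega) hi6
      omega
    have hj1 : j ≠ 1 := by
      rintro rfl
      refine card_ne_two_mul_odd (closure_pair_eq_top x y) ?_ ?_ (m := 15) (by decide) (by rw [← hGdef, hj])
      · rw [Subgroup.orderOf_mk, ox]; decide
      · rw [Subgroup.orderOf_mk, oy]; decide
    have : j ≠ 0 := by rintro rfl; omega
    omega
  have hi' : i = 6 := by
    have : j = 2 := by omega
    subst this
    omega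
  -- the action of `A_6` on the cosets of `G`
  have : IsSimpleGroup (alternatingGroup α) :=
    alternatingGroup.isSimpleGroup (by rw [Nat.card_eq_fintype_card]; omega)
  set A := alternatingGroup α
  set H := G.subgroupOf A
  have hcard : Nat.card (A ⧸ H) = 6 := by rw [← Subgroup.index_eq_card, ← hi']; rfl
  have : Fintype (A ⧸ H) := Fintype.ofFinite _
  have hnc : ¬ IsMulCommutative A := by
    intro h
    have h1 := commutator_alternatingGroup_eq_top (α := α) (by rw [Nat.card_eq_fintype_card]; omega)
    rw [commutator_def, Subgroup.commutator_eq_bot_iff_le_centralizer.2 (fun a _ =>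
      Subgroup.mem_centralizer_iff.2 fun b _ => h.is_comm.comm b a)] at h1
    exact bot_ne_top h1
  have hinj : Function.Injective (MulAction.toPermHom A (A ⧸ H)) :=
    CfsgLib.Small.toPermHom_injective (by
      rw [Ne, Subgroup.subgroupOf_eq_top]
      exact fun h => hall (le_antisymm hG h))
  let c : A ⧸ H := ((1 : A) : A ⧸ H)
  let P := {z : A ⧸ H // z ≠ c}
  have hfix : ∀ g : H, ∀ z : A ⧸ H, (MulAction.toPermHom A (A ⧸ H) (g : A)) z ≠ c ↔ z ≠ c := by
    intro g z
    have hc : (g : A) • c = c := by
      change ((((g : A) * 1 : A)) : A ⧸ H) = ((1 : A) : A ⧸ H)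
      rw [mul_one, QuotientGroup.eq]
      simpa using H.inv_mem g.2
    constructor
    · intro h hz; subst hz; exact h hc
    · intro h hz; exact h (smul_left_cancel (g : A) (hz.trans hc.symm))
  let φ : H →* Perm P :=
    { toFun := fun g => (MulAction.toPermHom A (A ⧸ H) (g : A)).subtypePerm (hfix g)
      map_one' := Equiv.ext fun z => Subtype.ext (one_smul A (z : A ⧸ H))
      map_mul' := fun g h => Equiv.ext fun z => Subtype.ext (mul_smul (g : A) (h : A) (z : A ⧸ H)) }
  have hφA : ∀ g, φ g ∈ alternatingGroup P := by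
    intro g
    rw [Perm.mem_alternatingGroup]
    change Perm.sign (Perm.subtypePerm (MulAction.toPermHom A (A ⧸ H) (g : A)) (hfix g)) = 1
    rw [Perm.sign_subtypePerm]
    · exact CfsgLib.Small.sign_toPerm hnc (g : A)
    · intro z hz hzc
      apply hz
      rw [hzc]
      change ((((g : A) * 1 : A)) : A ⧸ H) = ((1 : A) : A ⧸ H)
      rw [mul_one, QuotientGroup.eq]
      simpa using H.inv_mem g.2
  let ψ : H →* alternatingGroup P := φ.codRestrict _ hφA
  have hψ : Function.Injective ψ := by
    intro g h hgh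
    refine Subtype.ext (hinj (Equiv.ext fun z => ?_))
    by_cases hz : z = c
    · subst hz
      change ((((g : A) * 1 : A)) : A ⧸ H) = ((((h : A) * 1 : A)) : A ⧸ H)
      rw [mul_one, mul_one, QuotientGroup.eq]
      exact H.mul_mem (H.inv_mem g.2) h.2
    · exact congrArg Subtype.val (Equiv.congr_fun (congrArg Subtype.val hgh) ⟨z, hz⟩)
  have hP : Fintype.card P = 5 := by
    rw [Fintype.card_subtype_compl, Fintype.card_subtype_eq, ← Nat.card_eq_fintype_card, hcard]
  have : Nontrivial P := Fintype.one_lt_card_iff_nontrivial.1 (by omega)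
  have hbij : Function.Bijective ψ := hψ.bijective_of_nat_card_le (by
    rw [nat_card_alternatingGroup, Nat.card_eq_fintype_card, hP,
      Nat.card_congr (Subgroup.subgroupOfEquivOfLe hG).toEquiv, hGcard]
    rfl)
  exact nonempty_alt_fin (α := P) hP.ge
    ((Subgroup.subgroupOfEquivOfLe hG).symm.trans (MulEquiv.ofBijective ψ hbij))

/-- Degree seven, generators of order 5 and 7. -/
theorem degree_seven (hn : Fintype.card α = 7) {x y : Perm α} (hx : x.IsCycle)
    (hxs : x.support.card = 5) (oy : orderOf y = 7)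
    [hprim : IsPreprimitive (Subgroup.closure ({x, y} : Set (Perm α))) α]
    (hG : Subgroup.closure ({x, y} : Set (Perm α)) ≤ alternatingGroup α) :
    Subgroup.closure ({x, y} : Set (Perm α)) = alternatingGroup α := by
  classical
  set G := Subgroup.closure ({x, y} : Set (Perm α)) with hGdef
  have hxG : x ∈ G := Subgroup.subset_closure (Or.inl rfl)
  have hyG : y ∈ G := Subgroup.subset_closure (Or.inr rfl)
  by_contra hall
  have : Nontrivial α := Fintype.one_lt_card_iff_nontrivial.1 (by omega)
  have hA : Nat.card (alternatingGroup α) = 2520 := by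
    rw [nat_card_alternatingGroup, Nat.card_eq_fintype_card, hn]; rfl
  have h2 : IsMultiplyPretransitive G α 2 := by
    refine hprim.is_two_pretransitive (s := (x.support : Set α)ᶜ) (n := 1) ?_ ?_
      (Perm.isPretransitive_of_isCycle_mem hx hxG)
    · rw [Set.ncard_compl, Set.ncard_coe_finset, hxs, Nat.card_eq_fintype_card, hn]
    · rw [Nat.card_eq_fintype_card, hn]; norm_num
  obtain ⟨a⟩ : Nonempty α := Fintype.card_pos_iff.1 (by omega)
  obtain ⟨b, hb⟩ := exists_ne a
  have h42 : 6 ∣ Nat.card (stabilizer G a) := by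
    have horb : orbit (stabilizer G a) b = {z | z ≠ a} := by
      ext z
      constructor
      · rintro ⟨g, rfl⟩ h
        exact hb (smul_left_cancel (g : G) (h.trans g.2.symm))
      · intro hz
        obtain ⟨g, hg1, hg2⟩ := (MulAction.is_two_pretransitive_iff.1 h2) hb.symm (Ne.symm hz)
        exact ⟨⟨g, hg1⟩, hg2⟩
    have h1 := index_stabilizer (stabilizer G a) b
    rw [horb] at h1
    have h6 : ({z | z ≠ a} : Set α).ncard = 6 := by
      have : ({z | z ≠ a} : Set α) = {a}ᶜ := rfl
      rw [this, Set.ncard_compl, Set.ncard_singleton, Nat.card_eq_fintype_card, hn]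
    exact ⟨_, by rw [← (stabilizer (stabilizer G a) b).card_mul_index, h1, h6, mul_comm]⟩
  have h210 : 210 ∣ Nat.card G := by
    have h1 : 42 ∣ Nat.card G := by
      rw [← card_stabilizer_mul (G := G) a, hn]
      exact Nat.mul_dvd_mul h42 dvd_rfl
    have h5 : 5 ∣ Nat.card G := (hx.orderOf.trans hxs) ▸ dvd_card_of_mem hxG
    exact Nat.Coprime.mul_dvd_of_dvd_of_dvd (by norm_num : Nat.Coprime 42 5) h1 h5
  have hmul : Nat.card G * G.relIndex (alternatingGroup α) = 2520 := by
    rw [← hA, ← Nat.card_congr (Subgroup.subgroupOfEquivOfLe hG).toEquiv]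
    exact (G.subgroupOf (alternatingGroup α)).card_mul_index
  have hfac := index_alt_large (by omega) hG hall
  rw [hA] at hfac
  set i := G.relIndex (alternatingGroup α)
  obtain ⟨j, hj⟩ := h210
  rw [hj] at hmul
  have hji : j * i = 12 := by
    have : 210 * (j * i) = 210 * 12 := by rw [← mul_assoc, hmul]
    omega
  have hi7 : 7 ≤ i := by
    by_contra hlt
    have : Nat.factorial i ≤ Nat.factorial 6 := Nat.factorial_le (by omega)
    have := Nat.le_of_dvd (Nat.factorial_pos i) hfac
    simp [Nat.factorial] at *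
    omega
  have hj1 : j = 1 := by
    have : j ≠ 0 := by rintro rfl; omega
    by_contra hj1
    have := Nat.mul_le_mul (show 2 ≤ j by omega) hi7
    omega
  subst hj1
  refine card_ne_two_mul_odd (closure_pair_eq_top x y) ?_ ?_ (m := 105) (by decide) (by rw [← hGdef, hj])
  · rw [Subgroup.orderOf_mk, hx.orderOf, hxs]; decide
  · rw [Subgroup.orderOf_mk, oy]; decide

/-- Cycle-type facts for an element of prime order `5` in degree `13`. -/
theorem five_cycles (hn : Fintype.card α = 13) {f : Perm α} (of : orderOf f = 5) :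
    (f.IsCycle ∧ f.support.card = 5) ∨ (f.cycleType = {5, 5} ∧ f.support.card = 10) := by
  obtain ⟨k, hk⟩ := Perm.cycleType_prime_order (σ := f) (of ▸ Nat.prime_five)
  have hs : f.support.card = (k + 1) * 5 := by
    rw [← Perm.sum_cycleType, hk, Multiset.sum_replicate, smul_eq_mul, of]
  have hle := Finset.card_le_univ f.support
  rcases Nat.eq_zero_or_pos k with rfl | hk0
  · exact Or.inl ⟨Perm.card_cycleType_eq_one.1 (by rw [hk, Multiset.card_replicate]), by simpa using hs⟩
  · obtain rfl : k = 1 := by omega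
    exact Or.inr ⟨by rw [hk, of]; rfl, by simpa using hs⟩

/-- Degree thirteen: no primitive group of even permutations other than `A₁₃` has an `11`-cycle. -/
theorem degree_thirteen (hn : Fintype.card α = 13) {x : Perm α} (hx : x.IsCycle)
    (hxs : x.support.card = 11) {G : Subgroup (Perm α)} [hprim : IsPreprimitive G α]
    (hxG : x ∈ G) (hG : G ≤ alternatingGroup α) : alternatingGroup α ≤ G := by
  classical
  have hox : orderOf x = 11 := hx.orderOf.trans hxs
  have hev : ∀ g ∈ G, Perm.sign g = 1 := fun g hg => Perm.mem_alternatingGroup.1 (hG hg)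
  have h3 : IsMultiplyPretransitive G α 3 := by
    have hprim' : IsPreprimitive (fixingSubgroup G ((x.support : Set α)ᶜ))
        (SubMulAction.ofFixingSubgroup G ((x.support : Set α)ᶜ)) := by
      have := Perm.isPretransitive_of_isCycle_mem hx hxG
      apply IsPreprimitive.of_prime_card
      convert! (by norm_num : Nat.Prime 11)
      rw [Nat.card_eq_fintype_card, Fintype.card_subtype, ← hxs]
      congr 1
      ext z
      simp [SubMulAction.mem_ofFixingSubgroup_iff]
    have := hprim.isMultiplyPreprimitive (s := (x.support : Set α)ᶜ) (n := 1)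
      (by rw [Set.ncard_compl, Set.ncard_coe_finset, hxs, Nat.card_eq_fintype_card, hn])
      (by rw [Nat.card_eq_fintype_card, hn]; norm_num) hprim'
    exact IsMultiplyPreprimitive.isMultiplyPretransitive ..
  have h5pos : Fact (Nat.Prime 5) := ⟨Nat.prime_five⟩
  have h11 : Fact (Nat.Prime 11) := ⟨by norm_num⟩
  have jordan : ∀ c : Perm α, c.IsCycle → c.support.card = 5 → c ∈ G → alternatingGroup α ≤ G :=
    fun c hc hcs hcG => Cfsg.Agent.S0713.result G hprim Nat.prime_five (by omega) (by omega) hc hcs hcG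
  by_cases h5 : 5 ∣ Nat.card G
  · by_cases h25 : 25 ∣ Nat.card G
    · -- a Sylow `5`-subgroup of `G` is one of the symmetric group, so contains a `5`-cycle
      obtain ⟨P⟩ : Nonempty (Sylow 5 G) := inferInstance
      obtain ⟨e, he⟩ := IsPGroup.iff_card.1 P.isPGroup'
      have he2 : 2 ≤ e := by
        have h := P.dvd_card_of_dvd_card
        have h' := P.pow_dvd_card_of_pow_dvd_card (n := 2) (show 5 ^ 2 ∣ _ by rw [← Nat.card_eq_fintype_card] at *; simpa using h25)
        rw [he] at h'
        exact (Nat.pow_dvd_pow_iff_le_right (by norm_num)).1 h'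
      obtain ⟨Q, hQ⟩ := (P.isPGroup'.map G.subtype).exists_le_sylow
      have hQcard : Nat.card (Q : Subgroup (Perm α)) ∣ 25 := by
        obtain ⟨k, hk⟩ := IsPGroup.iff_card.1 Q.isPGroup'
        have h := (Q : Subgroup (Perm α)).card_subgroup_dvd_card
        rw [hk, Nat.card_perm, Nat.card_eq_fintype_card, hn] at h
        rw [hk, show 25 = 5 ^ 2 from rfl, Nat.pow_dvd_pow_iff_le_right (by norm_num)]
        by_contra hk2
        exact absurd ((pow_dvd_pow 5 (show 3 ≤ k by omega)).trans h) (by decide)
      have hPQ : (Q : Subgroup (Perm α)) ≤ (P : Subgroup G).map G.subtype := by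
        refine (Subgroup.eq_of_le_of_card_ge hQ ?_).ge
        rw [Subgroup.card_map_of_injective G.subtype_injective, he]
        calc Nat.card (Q : Subgroup (Perm α)) ≤ 25 := Nat.le_of_dvd (by norm_num) hQcard
          _ = 5 ^ 2 := rfl
          _ ≤ 5 ^ e := Nat.pow_le_pow_right (by norm_num) he2
      -- some five-cycle lies in `Q`
      obtain ⟨S, hS⟩ := Finset.exists_subset_card_eq (s := (Finset.univ : Finset α)) (n := 5)
        (by rw [Finset.card_univ, hn]; norm_num)
      have hl : S.toList.Nodup := S.nodup_toList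
      have hlen : S.toList.length = 5 := by rw [Finset.length_toList, hS.2]
      have hc : S.toList.formPerm.IsCycle := List.isCycle_formPerm hl (by omega)
      have hcs : S.toList.formPerm.support.card = 5 := by
        rw [List.support_formPerm_of_nodup _ hl (fun z h => by simp [h] at hlen), Finset.toList_toFinset,
          hS.2]
      have hcp : IsPGroup 5 (Subgroup.zpowers S.toList.formPerm) :=
        IsPGroup.of_card (n := 1) (by rw [Nat.card_zpowers, hc.orderOf, hcs, pow_one])
      obtain ⟨Q', hQ'⟩ := hcp.exists_le_sylow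
      obtain ⟨g, rfl⟩ := MulAction.exists_smul_eq (Perm α) Q' Q
      have hmem : g * S.toList.formPerm * g⁻¹ ∈ G :=
        Subgroup.map_subtype_le _ (hPQ ⟨_, hQ' (Subgroup.mem_zpowers _), rfl⟩)
      exact jordan _ hc.conj (by rw [Perm.card_support_conj, hcs]) hmem
    · obtain ⟨f, hf⟩ := exists_prime_orderOf_dvd_card' 5 h5
      have hf' : orderOf (f : Perm α) = 5 := by rw [Subgroup.orderOf_coe, hf]
      rcases five_cycles hn hf' with ⟨hc, hcs⟩ | ⟨htype, hsupp⟩
      · exact jordan _ hc hcs f.2
      -- `f` fixes three points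
      set F := (f : Perm α).supportᶜ with hFdef
      have hF : F.card = 3 := by rw [hFdef, Finset.card_compl, hsupp, hn]
      obtain ⟨a, b, c, hab, hac, hbc, hFabc⟩ := Finset.card_eq_three.1 hF
      have hffix : ∀ z ∈ ({a, b, c} : Finset α), (f : Perm α) z = z := fun z hz => by
        rw [← hFabc, hFdef, Finset.mem_compl, Perm.notMem_support] at hz
        exact hz
      obtain ⟨s0, hs0⟩ : ∃ s0 : G, s0 • a = b ∧ s0 • b = c ∧ s0 • c = a := by
        have hinj : ∀ u v w : α, u ≠ v → u ≠ w → v ≠ w → Function.Injective ![u, v, w] := by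
          intro u v w huv huw hvw i j hij
          fin_cases i <;> fin_cases j <;> first
            | rfl
            | simp [huv, huw, hvw, huv.symm, huw.symm, hvw.symm] at hij
        obtain ⟨g, hg⟩ := MulAction.exists_smul_eq G
          (⟨![a, b, c], hinj a b c hab hac hbc⟩ : Fin 3 ↪ α)
          ⟨![b, c, a], hinj b c a hbc hab.symm hac.symm⟩
        exact ⟨g, congrArg (fun e : Fin 3 ↪ α => e 0) hg, congrArg (fun e : Fin 3 ↪ α => e 1) hg,
          congrArg (fun e : Fin 3 ↪ α => e 2) hg⟩
      obtain ⟨hsa, hsb, hsc⟩ := hs0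
      set K := fixingSubgroup G (({a, b, c} : Finset α) : Set α) with hK
      have hmemK : ∀ g : G, g ∈ K ↔ ∀ z ∈ ({a, b, c} : Finset α), g • z = z := fun g => by
        rw [hK, mem_fixingSubgroup_iff]; rfl
      have hfK : f ∈ K := (hmemK f).2 hffix
      have hf₁K : s0 * f * s0⁻¹ ∈ K := by
        rw [hmemK]
        intro z hz
        have hfa : f • a = a := hffix a (by simp)
        have hfb : f • b = b := hffix b (by simp)
        have hfc : f • c = c := hffix c (by simp)
        rw [Finset.mem_insert, Finset.mem_insert, Finset.mem_singleton] at hz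
        rcases hz with rfl | rfl | rfl
        · rw [mul_smul, mul_smul, inv_smul_eq_iff.2 hsc.symm, hfc, hsc]
        · rw [mul_smul, mul_smul, inv_smul_eq_iff.2 hsa.symm, hfa, hsa]
        · rw [mul_smul, mul_smul, inv_smul_eq_iff.2 hsb.symm, hfb, hsb]
      -- a Sylow subgroup of `K` generated by `f`
      have hzK : IsPGroup 5 (Subgroup.zpowers (⟨f, hfK⟩ : K)) :=
        IsPGroup.of_card (n := 1) (by rw [Nat.card_zpowers, Subgroup.orderOf_mk, hf, pow_one])
      let P : Sylow 5 K := hzK.toSylow fun hd => h25 (by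
        have h := Subgroup.card_mul_index (Subgroup.zpowers (⟨f, hfK⟩ : K))
        rw [Nat.card_zpowers, Subgroup.orderOf_mk, hf] at h
        refine dvd_trans ?_ K.card_subgroup_dvd_card
        rw [← h]
        exact Nat.mul_dvd_mul_left 5 hd)
      have hz1 : IsPGroup 5 (Subgroup.zpowers (⟨_, hf₁K⟩ : K)) := IsPGroup.of_card (n := 1) (by
        rw [Nat.card_zpowers, Subgroup.orderOf_mk, pow_one, ← hf]
        exact orderOf_injective (MulAut.conj s0).toMonoidHom (MulEquiv.injective _) f)
      obtain ⟨Q, hQ⟩ := hz1.exists_le_sylow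
      obtain ⟨k, hk⟩ := MulAction.exists_smul_eq K Q P
      have hmem : k * ⟨_, hf₁K⟩ * k⁻¹ ∈ Subgroup.zpowers (⟨f, hfK⟩ : K) := by
        change _ ∈ (P : Subgroup K)
        rw [← hk]
        exact ⟨_, hQ (Subgroup.mem_zpowers _), rfl⟩
      obtain ⟨i, hi⟩ := Subgroup.mem_zpowers_iff.1 hmem
      set s : G := (k : G) * s0 with hs
      have hsf : s * f * s⁻¹ = f ^ i := by
        rw [hs]
        have h := congrArg (fun z : K => (z : G)) hi
        simp only [SubgroupClass.coe_zpow, Subgroup.coe_mul, Subgroup.coe_inv] at h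
        rw [h]; group
      have hka : (k : G) • b = b := (hmemK k).1 k.2 b (by simp)
      have hkb : (k : G) • c = c := (hmemK k).1 k.2 c (by simp)
      have hkc : (k : G) • a = a := (hmemK k).1 k.2 a (by simp)
      have hta : s • a = b := by rw [hs, mul_smul, hsa, hka]
      have htb : s • b = c := by rw [hs, mul_smul, hsb, hkb]
      have htc : s • c = a := by rw [hs, mul_smul, hsc, hkc]
      -- the fourth power centralizes `f`
      have hi5 : ¬ (5 : ℤ) ∣ i := by
        rintro ⟨d, rfl⟩
        rw [zpow_mul, show (5 : ℤ) = ((5 : ℕ) : ℤ) from rfl, zpow_natCast, ← hf, pow_orderOf_eq_one,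
          one_zpow, conj_eq_one_iff] at hsf
        rw [hsf, orderOf_one] at hf
        omega
      have hiter : ∀ e : ℕ, s ^ e * f * (s ^ e)⁻¹ = f ^ (i ^ e) := by
        intro e
        induction e with
        | zero => simp
        | succ e ih =>
          calc s ^ (e + 1) * f * (s ^ (e + 1))⁻¹ = s * (s ^ e * f * (s ^ e)⁻¹) * s⁻¹ := by group
            _ = f ^ (i ^ (e + 1)) := by rw [ih, ← conj_zpow, hsf, ← zpow_mul]; ring_nf
      have h4 : s ^ 4 * f * (s ^ 4)⁻¹ = f := by
        rw [hiter]
        have h : i ^ 4 ≡ 1 [ZMOD ((5 : ℕ) : ℤ)] := by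
          have := Int.ModEq.pow_card_sub_one_eq_one Nat.prime_five (n := i)
            (((Nat.prime_iff_prime_int.1 Nat.prime_five).coprime_iff_not_dvd.2
              (by exact_mod_cast hi5)).symm)
          simpa using this
        rw [← hf, ← zpow_eq_zpow_iff_modEq, zpow_one] at h
        exact h
      set t : Perm α := ((s : G) : Perm α) ^ 4 with ht
      have htf : t * (f : Perm α) = (f : Perm α) * t := by
        have h := congrArg (fun z : G => (z : Perm α)) (mul_inv_eq_iff_eq_mul.1 h4)
        simpa [ht] using h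
      have ht_a : t a = b := by
        rw [ht]; change ((s : Perm α) ^ 4) a = b
        simp only [pow_succ, pow_zero, one_mul, Perm.mul_apply]
        change s • s • s • s • a = b
        rw [hta, htb, htc, hta]
      have ht_b : t b = c := by
        rw [ht]; change ((s : Perm α) ^ 4) b = c
        simp only [pow_succ, pow_zero, one_mul, Perm.mul_apply]
        change s • s • s • s • b = c
        rw [htb, htc, hta, htb]
      have ht_c : t c = a := by
        rw [ht]; change ((s : Perm α) ^ 4) c = a
        simp only [pow_succ, pow_zero, one_mul, Perm.mul_apply]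
        change s • s • s • s • c = a
        rw [htc, hta, htb, htc]
      -- restrict to the ten moved points
      have hsupp' : ∀ z, (f : Perm α) z ≠ z ↔ (f : Perm α) (t z) ≠ t z := by
        intro z
        rw [← Perm.mul_apply, ← htf, Perm.mul_apply]
        exact ⟨fun h h' => h (t.injective h'), fun h h' => h (by rw [h'])⟩
      let D := {z : α // (f : Perm α) z ≠ z}
      let f' : Perm D := (f : Perm α).subtypePerm (fun z => (f : Perm α).injective.ne_iff)
      let t' : Perm D := t.subtypePerm (fun z => (hsupp' z).symm)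
      have hcomm : t' ∈ Subgroup.centralizer ({f'} : Set (Perm D)) := by
        rw [Subgroup.mem_centralizer_singleton_iff]
        ext z
        exact congrArg (fun g : Perm α => g (z : α)) htf
      have hcard : Nat.card (Subgroup.centralizer ({f'} : Set (Perm D))) = 50 := by
        have hct : f'.cycleType = {5, 5} := by
          rw [← htype, ← Perm.cycleType_ofSubtype (g := f')]
          congr 1
          exact Perm.ofSubtype_subtypePerm _ (fun z hz => hz)
        have hD : Fintype.card D = 10 := by
          rw [← hsupp, Fintype.card_subtype]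
          congr 1
        rw [Perm.nat_card_centralizer, hct, hD]
        rfl
      have ht50 : t' ^ 50 = 1 := by
        rw [← orderOf_dvd_iff_pow_eq_one, ← hcard]
        exact Subgroup.orderOf_dvd_natCard _ hcomm
      set u : Perm α := t ^ 50 with hu
      have hu_supp : u.support ⊆ {a, b, c} := by
        intro z hz
        rw [Perm.mem_support] at hz
        by_contra hzF
        rw [← hFabc, hFdef, Finset.mem_compl, not_not, Perm.mem_support] at hzF
        apply hz
        have h := congrArg Subtype.val (Perm.ext_iff.1 ht50 ⟨z, hzF⟩)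
        rwa [Perm.subtypePerm_pow, Perm.subtypePerm_apply] at h
      have hu_a : u a = c := by
        have h3 : ∀ e : ℕ, (t ^ (3 * e)) a = a := by
          intro e
          induction e with
          | zero => rfl
          | succ e ih =>
            rw [mul_add, pow_add, Perm.mul_apply]
            have : (t ^ (3 * 1)) a = a := by
              simp only [mul_one, pow_succ, pow_zero, one_mul, Perm.mul_apply, ht_a, ht_b, ht_c]
            rw [this, ih]
        rw [hu, show 50 = 2 + 3 * 16 from rfl, pow_add, Perm.mul_apply, h3, pow_two, Perm.mul_apply,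
          ht_a, ht_b]
      have huG : u ∈ G := G.pow_mem (G.pow_mem s.2 4) 50
      have hu3 : u.support.card = 3 := by
        have hle : u.support.card ≤ 3 := (Finset.card_le_card hu_supp).trans (by
          rw [← hFabc, hF])
        have hne1 : u.support.card ≠ 1 := Perm.card_support_ne_one _
        have hne0 : u.support.card ≠ 0 := by
          intro h0
          rw [Finset.card_eq_zero, Perm.support_eq_empty_iff] at h0
          rw [h0] at hu_a
          exact hac hu_a
        have hne2 : u.support.card ≠ 2 := fun h2 => by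
          have h := hev u huG
          rw [(Perm.card_support_eq_two.1 h2).sign_eq] at h
          exact absurd h (by decide)
        omega
      exact Perm.alternatingGroup_le_of_isPreprimitive_of_isThreeCycle_mem hprim
        (card_support_eq_three_iff.1 hu3) huG
  · exfalso
    have hC : ((x.support : Set α)ᶜ).ncard = 2 := by
      rw [Set.ncard_compl, Set.ncard_coe_finset, hxs, Nat.card_eq_fintype_card, hn]
    obtain ⟨a, b, hab, hCab⟩ := Set.ncard_eq_two.1 hC
    have hxfix : ∀ z, x z = z ↔ z = a ∨ z = b := by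
      intro z
      rw [← Perm.notMem_support, ← Finset.mem_coe, ← Set.mem_compl_iff, hCab]
      simp
    set A := stabilizer G a with hA
    set xG : G := ⟨x, hxG⟩ with hxGdef
    have hxA : xG ∈ A := (hxfix a).2 (Or.inl rfl)
    set xA : A := ⟨xG, hxA⟩ with hxAdef
    set H := stabilizer A b with hH
    have hxH : xA ∈ H := (hxfix b).2 (Or.inr rfl)
    -- an element of `G` normalizing `⟨x⟩` and fixing `a`, `b` is a power of `x`
    have hnorm : ∀ h : G, h • a = a → h • b = b → (∃ i : ℤ, h * xG * h⁻¹ = xG ^ i) →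
        Commute h xG := by
      rintro h ha hb ⟨i, hi⟩
      have hi11 : ¬ (11 : ℤ) ∣ i := by
        rintro ⟨d, rfl⟩
        have h1 : xG ^ (11 : ℕ) = 1 := by rw [← hox, ← Subgroup.orderOf_mk x hxG, pow_orderOf_eq_one]
        rw [zpow_mul, show (11 : ℤ) = ((11 : ℕ) : ℤ) from rfl, zpow_natCast, h1, one_zpow,
          conj_eq_one_iff] at hi
        have := congrArg orderOf (congrArg Subtype.val hi)
        rw [hxGdef, hox] at this
        simp at this
      have hiter : ∀ (g : G) (j : ℤ), g * xG * g⁻¹ = xG ^ j →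
          ∀ e : ℕ, g ^ e * xG * (g ^ e)⁻¹ = xG ^ (j ^ e) := by
        intro g j hj e
        induction e with
        | zero => simp
        | succ e ih =>
          calc g ^ (e + 1) * xG * (g ^ (e + 1))⁻¹ = g * (g ^ e * xG * (g ^ e)⁻¹) * g⁻¹ := by group
            _ = xG ^ (j ^ (e + 1)) := by rw [ih, ← conj_zpow, hj, ← zpow_mul]; ring_nf
      have hord : orderOf xG = 11 := by rw [hxGdef, Subgroup.orderOf_mk, hox]
      have hmod : ∀ u v : ℤ, xG ^ u = xG ^ v ↔ u ≡ v [ZMOD ((11 : ℕ) : ℤ)] := fun u v => by
        rw [zpow_eq_zpow_iff_modEq, hord]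
      have hm : i ^ orderOf h ≡ 1 [ZMOD ((11 : ℕ) : ℤ)] := by
        rw [← hmod, ← hiter h i hi, pow_orderOf_eq_one, one_mul, inv_one, mul_one, zpow_one]
      have h10 : i ^ 10 ≡ 1 [ZMOD ((11 : ℕ) : ℤ)] := by
        have := Int.ModEq.pow_card_sub_one_eq_one (p := 11) (by norm_num) (n := i)
          (((Nat.prime_iff_prime_int.1 (by norm_num : Nat.Prime 11)).coprime_iff_not_dvd.2
            (by exact_mod_cast hi11)).symm)
        simpa using this
      have h2 : i ^ 2 ≡ 1 [ZMOD ((11 : ℕ) : ℤ)] := by
        have hc : ∀ e : ℕ, i ^ e ≡ 1 [ZMOD ((11 : ℕ) : ℤ)] ↔ (i : ZMod 11) ^ e = 1 := fun e => by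
          rw [← ZMod.intCast_eq_intCast_iff]; push_cast; rfl
        rw [hc] at hm h10 ⊢
        rw [← orderOf_dvd_iff_pow_eq_one] at hm h10 ⊢
        have hcop : Nat.Coprime (orderOf h) 5 := by
          refine (Nat.Coprime.symm (Nat.prime_five.coprime_iff_not_dvd.2 fun h5' => h5 ?_))
          exact h5'.trans (orderOf_dvd_natCard h)
        have h5' : Nat.Coprime (orderOf (i : ZMod 11)) 5 := hcop.coprime_dvd_left hm
        exact h5'.dvd_of_dvd_mul_left (by simpa using h10)
      have hfac : (11 : ℤ) ∣ (i - 1) * (i + 1) := by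
        have := (Int.modEq_iff_dvd.1 h2.symm)
        rw [show (i - 1) * (i + 1) = i ^ 2 - 1 by ring]
        exact_mod_cast this
      rcases (Nat.prime_iff_prime_int.1 (by norm_num : Nat.Prime 11)).dvd_mul.1 hfac with hd | hd
      · have : xG ^ i = xG ^ (1 : ℤ) := (hmod _ _).2 (Int.modEq_iff_dvd.2 (by
          rw [show (1 : ℤ) - i = -(i - 1) by ring]; exact (dvd_neg).2 hd))
        rw [this, zpow_one] at hi
        exact mul_inv_eq_iff_eq_mul.1 hi
      -- otherwise some odd power of `h` is an involution inverting `x`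
      exfalso
      have hinv : h * xG * h⁻¹ = xG ^ (-1 : ℤ) := by
        rw [hi, hmod, Int.modEq_iff_dvd]
        rw [show (-1 : ℤ) - i = -(i + 1) by ring]; exact (dvd_neg).2 hd
      have heven : 2 ∣ orderOf h := by
        by_contra hodd
        have h' := hiter h (-1) hinv (orderOf h)
        rw [pow_orderOf_eq_one, one_mul, inv_one, mul_one, (Nat.odd_iff.2 (by omega : orderOf h % 2 = 1)).neg_one_pow,
          ← zpow_one xG, ← zpow_mul, hmod] at h'
        norm_num [Int.modEq_iff_dvd] at h'
      -- `h ^ 2` centralizes `x` and fixes `a`, so is a power of `x`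
      have hxa : xG • a = a := (hxfix a).2 (Or.inl rfl)
      obtain ⟨z, hz⟩ := hx.nonempty_support
      have hsame := fun w (hw : x w ≠ w) => hx.exists_pow_eq (Perm.mem_support.1 hz) hw
      have hcen : ∀ g : G, g • a = a → g • b = b → Commute g xG → g ^ 11 = 1 := by
        intro g ga gb gc
        have gc' : Commute (g : Perm α) x := congrArg Subtype.val gc.eq
        have hgz : x ((g : Perm α) z) ≠ (g : Perm α) z := by
          rw [← Perm.mul_apply, ← gc'.eq, Perm.mul_apply]
          exact fun h' => Perm.mem_support.1 hz ((g : Perm α).injective h')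
        obtain ⟨e, he⟩ := hsame _ hgz
        have heq : (g : Perm α) = x ^ e := by
          ext w
          by_cases hw : x w = w
          · rw [Perm.pow_apply_eq_self_of_apply_eq_self hw]
            rcases (hxfix w).1 hw with rfl | rfl
            · exact ga
            · exact gb
          · obtain ⟨d, rfl⟩ := hsame w hw
            rw [← Perm.mul_apply, (gc'.pow_right d).eq, Perm.mul_apply, ← he, ← Perm.mul_apply,
              ← Perm.mul_apply, (Commute.pow_pow_self x d e).eq]
        refine Subtype.ext ?_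
        rw [SubgroupClass.coe_pow, heq, ← pow_mul, mul_comm, pow_mul, ← hox, pow_orderOf_eq_one,
          one_pow]
        rfl
      have hsq := hcen (h ^ 2) (by rw [pow_two, mul_smul, ha, ha]) (by rw [pow_two, mul_smul, hb, hb])
        (by
          refine mul_inv_eq_iff_eq_mul.1 ?_
          rw [hiter h (-1) hinv 2]
          norm_num)
      set w : G := h ^ 11 with hw
      have hw2 : w ^ 2 = 1 := by rw [hw, ← pow_mul, mul_comm, pow_mul, hsq]
      have hwinv : w * xG * w⁻¹ = xG ^ (-1 : ℤ) := by
        rw [hw, hiter h (-1) hinv 11]; norm_num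
      have hwa : w • a = a := (stabilizer G a).pow_mem (ha : h ∈ stabilizer G a) 11
      have hwb : w • b = b := (stabilizer G b).pow_mem (hb : h ∈ stabilizer G b) 11
      have hwne : (w : Perm α) ≠ 1 := by
        intro h1
        have h1' : w = 1 := Subtype.ext h1
        rw [h1', one_mul, inv_one, mul_one, ← zpow_one xG, ← zpow_mul, hmod] at hwinv
        norm_num [Int.modEq_iff_dvd] at hwinv
      have how : orderOf (w : Perm α) = 2 :=
        orderOf_eq_prime (by rw [← SubgroupClass.coe_pow, hw2]; rfl) hwne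
      obtain ⟨k, hk⟩ := Perm.cycleType_prime_order (σ := (w : Perm α)) (how ▸ Nat.prime_two)
      have hws : (w : Perm α).support.card = 2 * (k + 1) := by
        rw [← Perm.sum_cycleType, hk, Multiset.sum_replicate, smul_eq_mul, how, mul_comm]
      have hsgn := hev _ w.2
      rw [Perm.sign_of_cycleType, hk, how, Multiset.sum_replicate, Multiset.card_replicate,
        smul_eq_mul, show (k + 1) * 2 + (k + 1) = 2 * (k + 1) + (k + 1) by ring, pow_add, pow_mul,
        neg_one_sq, one_pow, one_mul] at hsgn
      have hkodd : Even (k + 1) := (neg_one_pow_eq_one_iff_even (by decide)).1 hsgn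
      -- a unique point of the cycle is fixed by `w`
      have hle : (w : Perm α).support.card ≤ 8 := by
        have h1 : (w : Perm α).support.card ≤ 11 := by
          rw [← hxs]
          refine Finset.card_le_card fun v hv => ?_
          rw [Perm.mem_support] at hv ⊢
          intro hxv
          rcases (hxfix v).1 hxv with rfl | rfl
          · exact hv hwa
          · exact hv hwb
        obtain ⟨d, hd⟩ := hkodd
        omega
      have hfix2 : 1 < (x.support \ (w : Perm α).support).card := by
        have := Finset.le_card_sdiff (w : Perm α).support x.support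
        omega
      obtain ⟨v, hv, v', hv', hvv⟩ := Finset.one_lt_card.1 hfix2
      rw [Finset.mem_sdiff, Perm.mem_support, Perm.notMem_support] at hv hv'
      obtain ⟨d, hd⟩ := hx.exists_pow_eq hv.1 hv'.1
      -- `w` maps `x ^ d v` to `x ^ (-d) v`
      have hconj : (w : Perm α) * x ^ d = (x ^ d)⁻¹ * (w : Perm α) := by
        have h1 := congrArg (fun g : G => (g : Perm α)) hwinv
        simp only [Subgroup.coe_mul, Subgroup.coe_inv, zpow_neg, zpow_one] at h1
        have h2 : (w : Perm α) * x ^ d * (w : Perm α)⁻¹ = (x ^ d)⁻¹ := by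
          rw [← conj_pow, h1, inv_pow]
        rw [← h2]; group
      have h1 : (x ^ d)⁻¹ v = v' := by
        have := Perm.ext_iff.1 hconj v
        rw [Perm.mul_apply, Perm.mul_apply, hd, hv'.2, hv.2] at this
        exact this.symm
      have h2 : (x ^ (2 * d)) v = v := by
        rw [two_mul, pow_add, Perm.mul_apply, hd, ← h1]
        simp
      have hper : x ^ (2 * d) = 1 := hx.pow_eq_one_iff.2 ⟨v, hv.1, h2⟩
      rw [← orderOf_dvd_iff_pow_eq_one, hox] at hper
      have hd11 : 11 ∣ d := (show Nat.Coprime 11 2 by norm_num).dvd_of_dvd_mul_left hper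
      obtain ⟨d', rfl⟩ := hd11
      rw [pow_mul, ← hox, pow_orderOf_eq_one, one_pow] at hd
      exact hvv hd
    have hordA : orderOf xA = 11 := by
      rw [hxAdef, Subgroup.orderOf_mk, hxGdef, Subgroup.orderOf_mk, hox]
    have hordH : orderOf (⟨xA, hxH⟩ : H) = 11 := by rw [Subgroup.orderOf_mk, hordA]
    -- so `⟨x⟩` is a Sylow subgroup of `H` centralized by its normalizer
    have hzH : IsPGroup 11 (Subgroup.zpowers (⟨xA, hxH⟩ : H)) :=
      IsPGroup.of_card (n := 1) (by
        rw [Nat.card_zpowers, hordH, pow_one])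
    have h121 : ¬ 121 ∣ Nat.card G := fun hd => by
      have := hd.trans G.card_subgroup_dvd_card
      rw [Nat.card_perm, Nat.card_eq_fintype_card, hn] at this
      exact absurd this (by decide)
    let P : Sylow 11 H := hzH.toSylow fun hd => h121 (by
      have h := Subgroup.card_mul_index (Subgroup.zpowers (⟨xA, hxH⟩ : H))
      rw [Nat.card_zpowers, hordH] at h
      refine dvd_trans ?_ (H.card_subgroup_dvd_card.trans A.card_subgroup_dvd_card)
      rw [← h]
      exact Nat.mul_dvd_mul_left 11 hd)
    have hcommH : ∀ h : H, (∃ i : ℤ, h * ⟨xA, hxH⟩ * h⁻¹ = (⟨xA, hxH⟩ : H) ^ i) →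
        h * ⟨xA, hxH⟩ = ⟨xA, hxH⟩ * h := by
      rintro h ⟨i, hi⟩
      have hi' := congrArg (fun g : H => (((g : A) : G))) hi
      simp only [Subgroup.coe_mul, Subgroup.coe_inv, SubgroupClass.coe_zpow] at hi'
      exact Subtype.ext (Subtype.ext (hnorm _ (h : A).2 h.2 ⟨i, hi'⟩).eq)
    have hPN : Subgroup.normalizer ((P : Subgroup H) : Set H) ≤
        Subgroup.centralizer ((P : Subgroup H) : Set H) := by
      intro h hh
      rw [Subgroup.mem_centralizer_iff]
      intro g hg
      obtain ⟨j, rfl⟩ := Subgroup.mem_zpowers_iff.1 hg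
      have hmem := (Subgroup.mem_normalizer_iff.1 hh ⟨xA, hxH⟩).1 (Subgroup.mem_zpowers _)
      obtain ⟨i, hi⟩ := Subgroup.mem_zpowers_iff.1 hmem
      exact ((Commute.zpow_right (hcommH h ⟨i, hi.symm⟩) j).eq).symm
    set K := (MonoidHom.transferSylow P hPN).ker with hK
    have hKc := MonoidHom.ker_transferSylow_isComplement' P hPN
    -- the complement fixes every point of the cycle
    obtain ⟨z, hz⟩ := hx.nonempty_support
    have hKtriv : K = ⊥ := by
      refine (Subgroup.eq_bot_iff_forall _).2 fun g hgK => ?_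
      refine Subtype.ext (Subtype.ext (Subtype.ext (Perm.ext fun v => ?_)))
      by_cases hv : x v = v
      · rcases (hxfix v).1 hv with rfl | rfl
        · exact (g : A).2
        · exact g.2
      -- the `K`-orbit of `v` has size prime to `11`, and `x` permutes these orbits
      by_contra hne
      have hper : ∀ (d : ℕ), (x ^ d) v ∈ orbit K v → ∀ e : ℕ, (x ^ (d * e)) v ∈ orbit K v := by
        rintro d ⟨k, hk⟩ e
        induction e with
        | zero => simpa using mem_orbit_self v
        | succ e ih =>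
          obtain ⟨l, hl⟩ := ih
          have hnk : (⟨xA, hxH⟩ : H) ^ d * (l : H) * ((⟨xA, hxH⟩ : H) ^ d)⁻¹ ∈ K :=
            (MonoidHom.normal_ker _).conj_mem _ l.2 _
          refine ⟨⟨_, hnk⟩ * k, ?_⟩
          change (⟨_, hnk⟩ * k : K) • v = _
          rw [mul_smul, show k • v = (x ^ d) v from hk]
          change (((x ^ d) * ((((l : H) : A) : G) : Perm α) * (x ^ d)⁻¹) ((x ^ d) v)) = (x ^ (d * (e + 1))) v
          rw [Perm.mul_apply, Perm.mul_apply, Perm.coe_inv, Equiv.symm_apply_apply, mul_add, mul_one, add_comm,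
            pow_add, Perm.mul_apply]
          exact congrArg (x ^ d) hl
      have hgv : ((((g : A) : G) : Perm α) v) ∈ x.support := by
        rw [Perm.mem_support]
        intro h'
        rcases (hxfix _).1 h' with h'' | h''
        · have := ((((g : A) : G) : Perm α)).injective (h''.trans ((g : A).2 : _ = a).symm)
          exact hv ((hxfix v).2 (Or.inl this))
        · have := ((((g : A) : G) : Perm α)).injective (h''.trans (g.2 : _ = b).symm)
          exact hv ((hxfix v).2 (Or.inr this))
      obtain ⟨d, hd⟩ := hx.exists_pow_eq hv (Perm.mem_support.1 hgv)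
      have hd11 : ¬ 11 ∣ d := by
        rintro ⟨d', rfl⟩
        rw [pow_mul, ← hox, pow_orderOf_eq_one, one_pow] at hd
        exact hne hd.symm
      have hall : (x.support : Set α) ⊆ orbit K v := by
        intro w hw
        obtain ⟨e, rfl⟩ := hx.exists_pow_eq hv (Perm.mem_support.1 hw)
        obtain ⟨m, hm⟩ : ∃ m, d * m % 11 = 1 := ⟨d ^ 9, by
          rw [← pow_succ']
          exact Nat.ModEq.pow_card_sub_one_eq_one (Fact.out : Nat.Prime 11)
            (((Fact.out : Nat.Prime 11).coprime_iff_not_dvd.2 hd11).symm)⟩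
        have heq : x ^ (d * (m * e)) = x ^ e := by
          rw [pow_eq_pow_iff_modEq, hox, ← mul_assoc]
          calc d * m * e ≡ 1 * e [MOD 11] := Nat.ModEq.mul_right e (by simpa [Nat.ModEq] using hm)
            _ = e := one_mul e
        rw [← heq]
        exact hper d ⟨⟨g, hgK⟩, hd.symm⟩ _
      have horb : orbit K v = (x.support : Set α) := by
        refine Set.Subset.antisymm ?_ hall
        rintro _ ⟨k, rfl⟩
        rw [Finset.mem_coe, Perm.mem_support]
        intro h'
        rcases (hxfix _).1 h' with h'' | h''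
        · exact hv ((hxfix v).2 (Or.inl ((((((k : H) : A) : G) : Perm α)).injective
            (h''.trans (((k : H) : A).2 : _ = a).symm))))
        · exact hv ((hxfix v).2 (Or.inr ((((((k : H) : A) : G) : Perm α)).injective
            (h''.trans ((k : H).2 : _ = b).symm))))
      have h1 := index_stabilizer K v
      rw [horb, Set.ncard_coe_finset, hxs] at h1
      have h2 : 11 ∣ Nat.card K := h1 ▸ Subgroup.index_dvd_card _
      exact MonoidHom.not_dvd_card_ker_transferSylow P hPN h2
    have hHP : ∀ g : H, g ∈ Subgroup.zpowers (⟨xA, hxH⟩ : H) := by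
      rw [hKtriv] at hK
      rw [← hK] at hKc
      have := Subgroup.isComplement'_bot_left.1 hKc
      intro g
      change g ∈ (P : Subgroup H)
      rw [this]
      exact Subgroup.mem_top g
    have hHcard : Nat.card H = 11 := by
      rw [← Subgroup.card_top (G := H), ← (eq_top_iff.2 fun g _ => hHP g :
        Subgroup.zpowers (⟨xA, hxH⟩ : H) = ⊤), Nat.card_zpowers, hordH]
    have hA132 : Nat.card A = 132 := by
      have hb' : b ≠ a := hab.symm
      have horb : orbit A b = {z | z ≠ a} := by
        ext z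
        constructor
        · rintro ⟨g, rfl⟩ h
          exact hb' (smul_left_cancel (g : G) (h.trans g.2.symm))
        · intro hz
          obtain ⟨g, hg1, hg2⟩ := (MulAction.is_two_pretransitive_iff.1
            (isMultiplyPretransitive_of_le (G := G) (α := α) (m := 2) (n := 3) (by norm_num)
              (by rw [Nat.card_eq_fintype_card, hn]; norm_num))) hb'.symm (Ne.symm hz)
          exact ⟨⟨g, hg1⟩, hg2⟩
      have h1 := index_stabilizer A b
      rw [horb] at h1
      have h12 : ({z | z ≠ a} : Set α).ncard = 12 := by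
        have : ({z | z ≠ a} : Set α) = {a}ᶜ := rfl
        rw [this, Set.ncard_compl, Set.ncard_singleton, Nat.card_eq_fintype_card, hn]
      rw [← H.card_mul_index, hH, h1, h12, ← hH, hHcard]
    -- `A` has order 132; let `K` be its normal `11`-complement
    have hzA : IsPGroup 11 (Subgroup.zpowers xA) := IsPGroup.of_card (n := 1) (by
      rw [Nat.card_zpowers, hordA, pow_one])
    let PA : Sylow 11 A := hzA.toSylow (by
      intro hd
      have h := Subgroup.card_mul_index (Subgroup.zpowers xA)
      rw [Nat.card_zpowers, hordA, hA132] at h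
      omega)
    have hfixb : ∀ g : A, (∃ i : ℤ, g * xA * g⁻¹ = xA ^ i) → g ∈ H := by
      rintro g ⟨i, hi⟩
      have hi' := congrArg (fun u : A => (((u : G) : Perm α))) hi
      simp only [Subgroup.coe_mul, Subgroup.coe_inv, SubgroupClass.coe_zpow] at hi'
      have hgb : x ^ i = ((g : G) : Perm α) * x * ((g : G) : Perm α)⁻¹ := hi'.symm
      -- `g` maps `b` to a fixed point of a nontrivial power of `x`
      have hxi : (x ^ i) (((g : G) : Perm α) b) = ((g : G) : Perm α) b := by
        rw [hgb, Perm.mul_apply, Perm.mul_apply, Perm.coe_inv, Equiv.symm_apply_apply, (hxfix b).2 (Or.inr rfl)]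
      have hne1 : x ^ i ≠ 1 := by
        rw [hgb, Ne, conj_eq_one_iff]
        exact hx.ne_one
      by_contra hgH
      have hmov : x (((g : G) : Perm α) b) ≠ ((g : G) : Perm α) b := by
        intro h'
        rcases (hxfix _).1 h' with h'' | h''
        · exact hab (((g : G) : Perm α).injective ((g.2 : _ = a).trans h''.symm))
        · exact hgH h''
      obtain ⟨e, he⟩ : ∃ e : ℕ, x ^ e = x ^ i := by
        have h := (isOfFinOrder_of_finite x).mem_powers_iff_mem_zpowers.2
          (Subgroup.zpow_mem_zpowers x i)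
        exact Submonoid.mem_powers_iff _ _ |>.1 h
      exact hne1 (he ▸ hx.pow_eq_one_iff.2 ⟨_, hmov, he.symm ▸ hxi⟩)
    have hPAN : Subgroup.normalizer ((PA : Subgroup A) : Set A) ≤
        Subgroup.centralizer ((PA : Subgroup A) : Set A) := by
      intro g hg
      have hmem := (Subgroup.mem_normalizer_iff.1 hg xA).1 (Subgroup.mem_zpowers _)
      obtain ⟨i, hi⟩ := Subgroup.mem_zpowers_iff.1 hmem
      obtain ⟨j, hj⟩ := Subgroup.mem_zpowers_iff.1 (hHP ⟨g, hfixb g ⟨i, hi.symm⟩⟩)
      have hj' : xA ^ j = g := congrArg Subtype.val hj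
      rw [Subgroup.mem_centralizer_iff]
      intro u hu
      obtain ⟨l, rfl⟩ := Subgroup.mem_zpowers_iff.1 hu
      rw [← hj']
      exact ((Commute.refl xA).zpow_left l).zpow_right j |>.eq
    set K2 := (MonoidHom.transferSylow PA hPAN).ker with hK2
    have hK2c := (MonoidHom.ker_transferSylow_isComplement' PA hPAN).card_mul_card
    have hK2card : Nat.card K2 = 12 := by
      change Nat.card K2 * Nat.card (Subgroup.zpowers xA) = _ at hK2c
      rw [Nat.card_zpowers, hordA, hA132] at hK2c
      omega
    -- conjugation by `x` permutes the eleven nontrivial elements transitively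
    have hconjK : ∀ (d : ℕ) (k : A), k ∈ K2 → xA ^ d * k * (xA ^ d)⁻¹ ∈ K2 := fun d k hk =>
      (MonoidHom.normal_ker _).conj_mem _ hk _
    obtain ⟨u2, hu2⟩ := exists_prime_orderOf_dvd_card' (G := K2) 2 (by rw [hK2card]; norm_num)
    have : Fact (Nat.Prime 3) := ⟨Nat.prime_three⟩
    obtain ⟨u3, hu3⟩ := exists_prime_orderOf_dvd_card' (G := K2) 3 (by rw [hK2card]; norm_num)
    let φ : Fin 11 → {k : K2 // k ≠ 1} := fun d =>
      ⟨⟨xA ^ (d : ℕ) * (u2 : A) * (xA ^ (d : ℕ))⁻¹, hconjK _ _ u2.2⟩, fun h => by
        have h' : xA ^ (d : ℕ) * (u2 : A) * (xA ^ (d : ℕ))⁻¹ = 1 := congrArg Subtype.val h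
        rw [conj_eq_one_iff, OneMemClass.coe_eq_one] at h'
        rw [h', orderOf_one] at hu2
        omega⟩
    have hfixpt : ∀ d : ℕ, ¬ 11 ∣ d → xA ^ d * (u2 : A) * (xA ^ d)⁻¹ ≠ (u2 : A) := by
      intro d hd he
      have hu2ne : (u2 : A) ≠ 1 := by
        rw [Ne, OneMemClass.coe_eq_one]
        rintro rfl
        rw [orderOf_one] at hu2
        omega
      -- `u2` then normalizes `⟨x⟩`, hence lies in it
      obtain ⟨m, hm⟩ : ∃ m, d * m % 11 = 1 := ⟨d ^ 9, by
          rw [← pow_succ']
          exact Nat.ModEq.pow_card_sub_one_eq_one (Fact.out : Nat.Prime 11)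
            (((Fact.out : Nat.Prime 11).coprime_iff_not_dvd.2 hd).symm)⟩
      have hxA11 : orderOf xA = 11 := hordA
      have hpow : (xA ^ d) ^ m = xA := by
        conv_rhs => rw [← pow_one xA]
        rw [← pow_mul, pow_eq_pow_iff_modEq, hxA11]
        simpa [Nat.ModEq] using hm
      have hc : Commute (xA ^ d) (u2 : A) := mul_inv_eq_iff_eq_mul.1 he
      have hc' : Commute xA (u2 : A) := hpow ▸ hc.pow_left m
      have hgH := hfixb (u2 : A) ⟨1, by rw [zpow_one, ← hc'.eq, mul_inv_cancel_right]⟩
      obtain ⟨j, hj⟩ := Subgroup.mem_zpowers_iff.1 (hHP ⟨_, hgH⟩)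
      have hj' : xA ^ j = (u2 : A) := congrArg Subtype.val hj
      have h11 : orderOf (u2 : A) ∣ 11 := by
        rw [← hxA11, ← hj']
        exact orderOf_dvd_of_mem_zpowers (Subgroup.zpow_mem_zpowers xA j)
      rw [Subgroup.orderOf_coe, hu2] at h11
      omega
    have hφ : Function.Injective φ := by
      intro d e hde
      have h : xA ^ (d : ℕ) * (u2 : A) * (xA ^ (d : ℕ))⁻¹ = xA ^ (e : ℕ) * (u2 : A) * (xA ^ (e : ℕ))⁻¹ :=
        congrArg (fun k : {k : K2 // k ≠ 1} => ((k : K2) : A)) hde
      have key : ∀ d e : ℕ, e ≤ d → d < 11 →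
          xA ^ d * (u2 : A) * (xA ^ d)⁻¹ = xA ^ e * (u2 : A) * (xA ^ e)⁻¹ → d = e := by
        intro d e hle hd h
        by_contra hne
        refine hfixpt (d - e) (fun hdv => ?_) ?_
        · have := Nat.le_of_dvd (by omega) hdv
          omega
        · have hs : xA ^ d = xA ^ e * xA ^ (d - e) := by rw [← pow_add, Nat.add_sub_cancel' hle]
          rw [hs] at h
          have h2 := congrArg (fun z => (xA ^ e)⁻¹ * z * xA ^ e) h
          simp only [mul_inv_rev, mul_assoc, inv_mul_cancel_left, inv_mul_cancel, mul_one] at h2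
          rwa [mul_assoc]
      rcases le_total (e : ℕ) (d : ℕ) with hle | hle
      · exact Fin.ext (key _ _ hle d.2 h)
      · exact Fin.ext (key _ _ hle e.2 h.symm).symm
    have hbij : Function.Bijective φ := by
      refine hφ.bijective_of_nat_card_le ?_
      have : Fintype K2 := Fintype.ofFinite K2
      rw [Nat.card_fin, Nat.card_eq_fintype_card, Fintype.card_subtype_compl,
        Fintype.card_subtype_eq, ← Nat.card_eq_fintype_card, hK2card]
    obtain ⟨d, hd⟩ := hbij.2 ⟨u3, fun h => by rw [h, orderOf_one] at hu3; omega⟩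
    have h3' : xA ^ (d : ℕ) * (u2 : A) * (xA ^ (d : ℕ))⁻¹ = (u3 : A) :=
      congrArg (fun k : {k : K2 // k ≠ 1} => ((k : K2) : A)) hd
    have h4 : orderOf (u3 : A) = orderOf (u2 : A) := by
      rw [← h3']
      exact orderOf_injective (MulAut.conj (xA ^ (d : ℕ))).toMonoidHom (MulEquiv.injective _) _
    rw [Subgroup.orderOf_coe, Subgroup.orderOf_coe, hu2, hu3] at h4
    omega

/-- Even permutations `x`, `y` of prime orders `p < q`, together moving all points, with `p` at
least half and `q` more than half the degree, generate an alternating group. -/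
theorem gen_alternating {p q : ℕ} (hp : p.Prime) (hq : q.Prime) (hp3 : 3 ≤ p) (hpq : p < q)
    (hpn : Fintype.card α ≤ 2 * p) {x y : Perm α} (ox : orderOf x = p) (oy : orderOf y = q)
    (sx : Perm.sign x = 1) (sy : Perm.sign y = 1) (hmove : ∀ z, x z ≠ z ∨ y z ≠ z)
    (hcase : (p + 4 ≤ q ∧ (Fintype.card α = 2 * p → q + 3 ≤ 2 * p)) ∨ (p = 3 ∧ q = 5) ∨
      (p = 5 ∧ q = 7) ∨ (p = 11 ∧ q = 13 ∧ Fintype.card α < 22)) :
    ∃ d : ℕ, 5 ≤ d ∧
      Nonempty (Subgroup.closure ({x, y} : Set (Perm α)) ≃* alternatingGroup (Fin d)) := by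
  classical
  set G := Subgroup.closure ({x, y} : Set (Perm α)) with hGdef
  have hxG : x ∈ G := Subgroup.subset_closure (Or.inl rfl)
  have hyG : y ∈ G := Subgroup.subset_closure (Or.inr rfl)
  have hG : G ≤ alternatingGroup α := (Subgroup.closure_le _).2 (by
    rintro g (rfl | rfl)
    · exact Perm.mem_alternatingGroup.2 sx
    · exact Perm.mem_alternatingGroup.2 sy)
  obtain ⟨hyc, hys⟩ := isCycle_of_lt hq oy (by omega)
  have hqn : q ≤ Fintype.card α := hys ▸ Finset.card_le_univ _
  have htr : IsPretransitive G α := isPretransitive hp (by omega) ox hyc hys hmove hxG hyG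
  have hprim : IsPreprimitive G α := isPreprimitive hq (by omega) hyc hys hyG
  suffices h : alternatingGroup α ≤ G ∨ (∃ d : ℕ, 5 ≤ d ∧ Nonempty (G ≃* alternatingGroup (Fin d))) by
    rcases h with h | h
    · exact nonempty_alt_fin (by omega) (MulEquiv.subgroupCongr (le_antisymm hG h))
    · exact h
  have jordanX : x.IsCycle → x.support.card = p → p + 3 ≤ Fintype.card α → alternatingGroup α ≤ G :=
    fun hc hs hle => Cfsg.Agent.S0713.result G hprim hp (by omega) hle hc hs hxG
  have jordanY : q + 3 ≤ Fintype.card α → alternatingGroup α ≤ G :=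
    fun hle => Cfsg.Agent.S0713.result G hprim hq (by omega) hle hyc hys hyG
  rcases cycle_or_two hp ox hpn with ⟨hxc, hxs⟩ | ⟨hn2, -⟩
  · rcases hcase with ⟨h4, -⟩ | ⟨rfl, rfl⟩ | ⟨rfl, rfl⟩ | ⟨rfl, rfl, hlt⟩
    · exact Or.inl (jordanX hxc hxs (by omega))
    · exact Or.inl (Perm.alternatingGroup_le_of_isPreprimitive_of_isThreeCycle_mem hprim
        (card_support_eq_three_iff.1 hxs) hxG)
    · rcases le_or_gt 8 (Fintype.card α) with h8 | h8
      · exact Or.inl (jordanX hxc hxs h8)
      · exact Or.inl (degree_seven (by omega) hxc hxs oy hG).ge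
    · rcases le_or_gt 14 (Fintype.card α) with h14 | h14
      · exact Or.inl (jordanX hxc hxs h14)
      · exact Or.inl (degree_thirteen (by omega) hxc hxs hxG hG)
  · rcases hcase with ⟨-, h4⟩ | ⟨rfl, rfl⟩ | ⟨rfl, rfl⟩ | ⟨rfl, rfl, hlt⟩
    · exact Or.inl (jordanY (hn2 ▸ h4 hn2))
    · exact Or.inr (degree_six hn2 ox oy hG)
    · exact Or.inl (jordanY (by omega))
    · omega

/-- The same, for a permutation of the moved points only. -/
theorem gen_alternating_fin {n p q : ℕ} (hp : p.Prime) (hq : q.Prime) (hp3 : 3 ≤ p) (hpq : p < q)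
    (hpn : n ≤ 2 * p)
    (hcase : (p + 4 ≤ q ∧ (n = 2 * p → q + 3 ≤ 2 * p)) ∨ (p = 3 ∧ q = 5) ∨ (p = 5 ∧ q = 7) ∨
      (p = 11 ∧ q = 13 ∧ n < 22))
    (x y : alternatingGroup (Fin n)) (ox : orderOf x = p) (oy : orderOf y = q) :
    ∃ d : ℕ, 5 ≤ d ∧ Nonempty
      (Subgroup.closure ({x, y} : Set (alternatingGroup (Fin n))) ≃* alternatingGroup (Fin d)) := by
  classical
  let P : Fin n → Prop := fun z => (x : Perm (Fin n)) z ≠ z ∨ (y : Perm (Fin n)) z ≠ z
  have hinv : ∀ g : Perm (Fin n), (g = (x : Perm (Fin n)) ∨ g = (y : Perm (Fin n))) →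
      (∀ z, P (g z) ↔ P z) ∧ (∀ z, g z ≠ z → P z) := by
    intro g hg
    have h2 : ∀ z, g z ≠ z → P z := by
      rcases hg with rfl | rfl
      · exact fun z hz => Or.inl hz
      · exact fun z hz => Or.inr hz
    refine ⟨fun z => ?_, h2⟩
    by_cases hz : g z = z
    · rw [hz]
    · exact iff_of_true (h2 _ fun h => hz (g.injective h)) (h2 z hz)
  let D := {z : Fin n // P z}
  let x' : Perm D := (x : Perm (Fin n)).subtypePerm (hinv _ (Or.inl rfl)).1
  let y' : Perm D := (y : Perm (Fin n)).subtypePerm (hinv _ (Or.inr rfl)).1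
  let E : Perm D →* Perm (Fin n) := Perm.ofSubtype
  have hE : Function.Injective E := Perm.ofSubtype_injective
  have hx' : E x' = (x : Perm (Fin n)) :=
    Perm.ofSubtype_subtypePerm (hinv _ (Or.inl rfl)).1 (hinv _ (Or.inl rfl)).2
  have hy' : E y' = (y : Perm (Fin n)) :=
    Perm.ofSubtype_subtypePerm (hinv _ (Or.inr rfl)).1 (hinv _ (Or.inr rfl)).2
  have hsx : Perm.sign x' = 1 :=
    (Perm.sign_subtypePerm _ _ (hinv _ (Or.inl rfl)).2).trans (Perm.mem_alternatingGroup.1 x.2)
  have hsy : Perm.sign y' = 1 :=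
    (Perm.sign_subtypePerm _ _ (hinv _ (Or.inr rfl)).2).trans (Perm.mem_alternatingGroup.1 y.2)
  have ox' : orderOf x' = p := by rw [← orderOf_injective E hE, hx', Subgroup.orderOf_coe, ox]
  have oy' : orderOf y' = q := by rw [← orderOf_injective E hE, hy', Subgroup.orderOf_coe, oy]
  have hD : Fintype.card D ≤ n := (Fintype.card_subtype_le P).trans_eq (Fintype.card_fin n)
  have hcase' : (p + 4 ≤ q ∧ (Fintype.card D = 2 * p → q + 3 ≤ 2 * p)) ∨ (p = 3 ∧ q = 5) ∨
      (p = 5 ∧ q = 7) ∨ (p = 11 ∧ q = 13 ∧ Fintype.card D < 22) := by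
    rcases hcase with ⟨h, h'⟩ | h | h | ⟨h, h', h''⟩
    · exact Or.inl ⟨h, fun he => h' (by omega)⟩
    · exact Or.inr (Or.inl h)
    · exact Or.inr (Or.inr (Or.inl h))
    · exact Or.inr (Or.inr (Or.inr ⟨h, h', by omega⟩))
  obtain ⟨d, hd, ⟨e⟩⟩ := gen_alternating hp hq hp3 hpq (by omega) ox' oy' hsx hsy
    (fun z => z.2.imp (fun h h' => h (congrArg Subtype.val h')) (fun h h' => h (congrArg Subtype.val h')))
    hcase'
  refine ⟨d, hd, ⟨MulEquiv.trans ?_ e⟩⟩
  refine ((Subgroup.closure ({x, y} : Set (alternatingGroup (Fin n)))).equivMapOfInjective _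
    (alternatingGroup (Fin n)).subtype_injective).trans ?_
  refine (MulEquiv.subgroupCongr ?_).trans ((Subgroup.closure ({x', y'} : Set (Perm D))).equivMapOfInjective E hE).symm
  rw [MonoidHom.map_closure, MonoidHom.map_closure, Set.image_pair, Set.image_pair, hx', hy']
  rfl

end CfsgLib.PrimeCycleGen
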