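import Cfsg.Agent.Lib.PermGroup.ThreeTrans
import Mathlib.GroupTheory.Transfer
import Mathlib.GroupTheory.SpecificGroups.Cyclic

/-! Sylow `p`-subgroups of transitive groups of prime degree `p`. -/

namespace CfsgLib.PermGroup

open MulAction Subgroup

variable {α : Type*} [Fintype α] [DecidableEq α] {p : ℕ} [Fact p.Prime]

theorem card_sylow_eq (hα : Fintype.card α = p) (R : Subgroup (Equiv.Perm α))
    [IsPretransitive R α] (P : Sylow p R) : Nat.card (P : Subgroup R) = p := by
  obtain ⟨n, hn⟩ := IsPGroup.iff_card.mp P.isPGroup'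
  have h1 : p ^ n ∣ Nat.card R := hn ▸ Subgroup.card_subgroup_dvd_card _
  have hn1 : n ≤ 1 := by
    by_contra h
    exact sq_not_dvd_card hα R ((sq p ▸ pow_dvd_pow p (by omega : 2 ≤ n)).trans h1)
  have hn0 : n ≠ 0 := by
    rintro rfl
    have h3 : p ∣ Nat.card R := prime_dvd_card hα R
    rw [← (P : Subgroup R).card_mul_index, hn, pow_zero, one_mul] at h3
    exact P.not_dvd_index h3
  rw [hn, show n = 1 by omega, pow_one]

/-- A Sylow subgroup is its own centralizer. -/
theorem centralizer_sylow_le (hα : Fintype.card α = p) (R : Subgroup (Equiv.Perm α))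
    [IsPretransitive R α] (P : Sylow p R) :
    centralizer ((P : Subgroup R) : Set R) ≤ (P : Subgroup R) := by
  have hp := (Fact.out : p.Prime)
  obtain ⟨g, hg⟩ := exists_prime_orderOf_dvd_card' (G := (P : Subgroup R)) p
    (by rw [card_sylow_eq hα R P])
  set σ : Equiv.Perm α := ((g : R) : Equiv.Perm α) with hσ
  have hσp : σ ^ p = 1 := by
    have := congrArg (fun x : (P : Subgroup R) => ((x : R) : Equiv.Perm α))
      (orderOf_dvd_iff_pow_eq_one.mp hg.dvd)
    simpa using this
  obtain ⟨a, ha⟩ : ∃ a, σ a ≠ a := by
    by_contra h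
    simp only [not_exists, not_not] at h
    have : g = 1 := Subtype.ext (Subtype.ext (Equiv.ext h))
    rw [this, orderOf_one] at hg
    exact hp.one_lt.ne hg
  obtain ⟨e, -, he⟩ := exists_labelling hα hσp ha
  have hpow : ∀ (k : ℕ) j, (σ ^ k) (e j) = e (j + k) := by
    intro k
    induction k with
    | zero => simp
    | succ k ih => intro j; rw [pow_succ', Equiv.Perm.mul_apply, ih, he]; push_cast; ring_nf
  intro c hc
  have hcg : ((c : R) : Equiv.Perm α) * σ = σ * (c : R) :=
    congrArg Subtype.val (mem_centralizer_iff.mp hc (g : R) g.2).symm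
  set c₀ := e.symm ((c : Equiv.Perm α) (e 0)) with hc₀
  have key : c = ((g ^ c₀.val : (P : Subgroup R)) : R) := by
    refine Subtype.ext (Equiv.ext fun x => ?_)
    obtain ⟨j, rfl⟩ := e.surjective x
    have hj : ((c : R) : Equiv.Perm α) (e j) = (σ ^ j.val) ((c : Equiv.Perm α) (e 0)) := by
      rw [← Equiv.Perm.mul_apply, ← (Commute.pow_right hcg j.val).eq, Equiv.Perm.mul_apply, hpow,
        zero_add, ZMod.natCast_zmod_val]
    rw [hj, show (c : Equiv.Perm α) (e 0) = e c₀ by rw [hc₀, e.apply_symm_apply], hpow,
      ZMod.natCast_zmod_val]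
    show _ = ((((g : R) ^ c₀.val : R)) : Equiv.Perm α) (e j)
    rw [SubgroupClass.coe_pow, ← hσ, hpow, ZMod.natCast_zmod_val, add_comm]
  rw [key]
  exact SetLike.coe_mem _

/-- The order of a transitive group of prime degree. -/
theorem sylow_data (hα : Fintype.card α = p) (R : Subgroup (Equiv.Perm α))
    [IsPretransitive R α] (P : Sylow p R) :
    ∃ d, d ∣ p - 1 ∧ Nat.card (normalizer ((P : Subgroup R) : Set R)) = p * d ∧
      Nat.card R = p * d * Nat.card (Sylow p R) ∧ Nat.card (Sylow p R) ≡ 1 [MOD p] := by
  have hP := card_sylow_eq hα R P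
  set N := normalizer ((P : Subgroup R) : Set R) with hN
  set ψ : N →* MulAut (P : Subgroup R) := (P : Subgroup R).normalizerMonoidHom
  have hker : ψ.ker = (P : Subgroup R).subgroupOf N := by
    rw [Subgroup.normalizerMonoidHom_ker]
    refine le_antisymm (fun x hx => ?_) (fun x hx => ?_)
    · exact centralizer_sylow_le hα R P hx
    · rw [mem_subgroupOf] at hx ⊢
      refine mem_centralizer_iff.mpr fun y hy => ?_
      have := isCyclic_of_prime_card hP
      exact congrArg Subtype.val ((IsCyclic.isMulCommutative (α := (P : Subgroup R))).is_comm.comm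
        (⟨y, hy⟩ : (P : Subgroup R)) ⟨_, hx⟩)
  refine ⟨Nat.card ψ.range, ?_, ?_, ?_, card_sylow_modEq_one p R⟩
  · have := isCyclic_of_prime_card hP
    have h := Subgroup.card_subgroup_dvd_card ψ.range
    rwa [IsCyclic.card_mulAut, hP, Nat.totient_prime Fact.out] at h
  · rw [← ψ.ker.card_mul_index, index_ker, hker,
      Nat.card_congr (subgroupOfEquivOfLe le_normalizer).toEquiv, hP]
  · rw [P.card_eq_index_normalizer, ← N.card_mul_index]
    congr 1
    rw [← ψ.ker.card_mul_index, index_ker, hker,
      Nat.card_congr (subgroupOfEquivOfLe le_normalizer).toEquiv, hP]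

/-- One Sylow subgroup only: solvable. -/
theorem solvable_of_card_sylow_eq_one (hα : Fintype.card α = p) (R : Subgroup (Equiv.Perm α))
    [IsPretransitive R α] (P : Sylow p R) (h : Nat.card (Sylow p R) = 1) :
    Group.IsSolvable R := by
  rw [P.card_eq_index_normalizer, index_eq_one] at h
  have hn : (P : Subgroup R).Normal := normalizer_eq_top_iff.mp h
  have := isCyclic_of_prime_card (card_sylow_eq hα R P)
  have : Group.IsSolvable (MulAut (P : Subgroup R)) :=
    Group.isSolvable_of_isSolvable_injective
      (f := (IsCyclic.mulAutMulEquiv (P : Subgroup R)).toMonoidHom)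
      (IsCyclic.mulAutMulEquiv (P : Subgroup R)).injective
  have : Group.IsSolvable (P : Subgroup R) :=
    Group.isSolvable_of_comm fun a b =>
      (IsCyclic.isMulCommutative (α := (P : Subgroup R))).is_comm.comm a b
  refine Group.isSolvable_of_ker_le_range (P : Subgroup R).subtype
    (MulAut.conjNormal : R →* MulAut (P : Subgroup R)) fun g hg => ?_
  rw [range_subtype]
  refine centralizer_sylow_le hα R P (mem_centralizer_iff.mpr fun y hy => ?_)
  have := congrArg Subtype.val
    (congrArg (fun f : MulAut (P : Subgroup R) => f ⟨y, hy⟩) (MonoidHom.mem_ker.mp hg))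
  simp only [MulAut.conjNormal_apply, MulAut.one_apply] at this
  rw [mul_inv_eq_iff_eq_mul] at this
  exact this.symm

/-- Normal subgroups of a transitive group of prime degree are trivial or transitive. -/
theorem transitive_of_normal (hα : Fintype.card α = p) (R : Subgroup (Equiv.Perm α))
    [IsPretransitive R α] (K : Subgroup R) [K.Normal] (hK : K ≠ ⊥) : IsPretransitive K α := by
  have : IsPreprimitive R α := IsPreprimitive.of_prime_card (by
    rw [Nat.card_eq_fintype_card, hα]; exact Fact.out)
  exact isPretransitive_of_normal hK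

/-- A self-normalizing Sylow subgroup: the group has order `p`. -/
theorem card_eq_of_self_normalizing (hα : Fintype.card α = p) (R : Subgroup (Equiv.Perm α))
    [IsPretransitive R α] (P : Sylow p R)
    (h : Nat.card (normalizer ((P : Subgroup R) : Set R)) = p) : Nat.card R = p := by
  have hP := card_sylow_eq hα R P
  have hN : normalizer ((P : Subgroup R) : Set R) = (P : Subgroup R) :=
    (Subgroup.eq_of_le_of_card_ge le_normalizer (by rw [h, hP])).symm
  have := isCyclic_of_prime_card hP
  have hle : normalizer ((P : Subgroup R) : Set R) ≤ centralizer ((P : Subgroup R) : Set R) := by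
    rw [hN]
    intro x hx
    exact mem_centralizer_iff.mpr fun y hy => congrArg Subtype.val
      ((IsCyclic.isMulCommutative (α := (P : Subgroup R))).is_comm.comm
        (⟨y, hy⟩ : (P : Subgroup R)) ⟨x, hx⟩)
  have hc := MonoidHom.ker_transferSylow_isComplement' P hle
  set K := (MonoidHom.transferSylow P hle).ker with hK
  by_cases hKb : K = ⊥
  · rw [← hc.card_mul, hKb, Subgroup.card_bot, one_mul, hP]
  · exfalso
    have := transitive_of_normal hα R K hKb
    obtain ⟨a⟩ : Nonempty α := Fintype.card_pos_iff.mp (hα ▸ (Fact.out : p.Prime).pos)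
    have h1 : p ∣ Nat.card K := by
      have h2 := index_stabilizer_of_transitive K a
      rw [Nat.card_eq_fintype_card, hα] at h2
      exact h2 ▸ Subgroup.index_dvd_card _
    exact MonoidHom.not_dvd_card_ker_transferSylow P hle h1

end CfsgLib.PermGroup
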