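import Cfsg.Agent.Lib.PermGroup.DoubleSwapData
import Cfsg.Agent.S0713
import Mathlib.GroupTheory.GroupAction.MultipleTransitivity
import Mathlib.GroupTheory.Perm.Cycle.Type

/-! A primitive group of degree 11 with a double transposition contains the alternating group. -/

namespace CfsgLib.PermGroup.DoubleSwap

open MulAction Equiv

variable {α : Type*} [Fintype α] [DecidableEq α]

/-- A map of the labels induced by an element. -/
def InG (G : Subgroup (Perm α)) (π : Fin 11 ≃ α) (f : Pt) : Prop :=
  ∃ x ∈ G, ∀ i, x (π i) = π (f i)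

variable {G : Subgroup (Perm α)} {π : Fin 11 ≃ α}

theorem inG_evalW {gs : List Pt} (h : ∀ f ∈ gs, InG G π f) (w : List ℕ) :
    InG G π (evalW gs w) := by
  induction w with
  | nil => exact ⟨1, G.one_mem, fun i => rfl⟩
  | cons n w ih =>
    obtain ⟨y, hy, hy'⟩ := ih
    by_cases hn : n < gs.length
    · obtain ⟨x, hx, hx'⟩ := h gs[n] (List.getElem_mem hn)
      refine ⟨x * y, G.mul_mem hx hy, fun i => ?_⟩
      rw [Perm.mul_apply, hy', hx']
      simp [evalW, List.getD_eq_getElem?_getD, hn]
    · refine ⟨y, hy, fun i => ?_⟩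
      rw [hy']
      simp [evalW, List.getD_eq_getElem?_getD, List.getElem?_eq_none (Nat.le_of_not_lt hn)]

theorem sw2_symm {p q i j : Fin 11} : sw2 p q i j = sw2 p q j i := by
  funext x
  simp only [sw2]
  split_ifs <;> simp_all

theorem sw2_map (E : Fin 11 → Fin 11) (hE : Function.Injective E) (a b c d z : Fin 11) :
    sw2 (E a) (E b) (E c) (E d) (E z) = E (sw2 a b c d z) := by
  simp only [sw2, hE.eq_iff]
  split_ifs <;> rfl

theorem no_good (hG : IsPreprimitive G α) (hcard : Fintype.card α = 11)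
    (hA : ¬ alternatingGroup α ≤ G) {f : Pt} (hf : InG G π f) : isGood f = false := by
  rw [Bool.eq_false_iff]
  intro hgood
  simp only [isGood, List.any_eq_true, Bool.and_eq_true, List.all_eq_true, beq_iff_eq] at hgood
  obtain ⟨q, hq, hpow, hlen⟩ := hgood
  simp only [List.mem_cons, List.mem_nil_iff, or_false] at hq
  have hqp : q.Prime ∧ q + 3 ≤ 11 ∧ 1 < q := by
    rcases hq with rfl | rfl | rfl <;> norm_num
  obtain ⟨x, hx, hx'⟩ := hf
  have hxpow : ∀ (n : ℕ) i, (x ^ n) (π i) = π (f^[n] i) := by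
    intro n
    induction n with
    | zero => intro i; rfl
    | succ n ih => intro i; rw [pow_succ', Perm.mul_apply, ih, hx', Function.iterate_succ_apply']
  have hxq : x ^ q = 1 := Equiv.ext fun a => by
    obtain ⟨i, rfl⟩ := π.surjective a
    rw [hxpow, hpow i (List.mem_finRange i)]
    rfl
  have hsupp : x.support.card = q := by
    rw [← hlen, ← List.toFinset_card_of_nodup ((List.nodup_finRange 11).filter _),
      ← Finset.card_map π.toEmbedding]
    congr 1
    ext a
    obtain ⟨i, rfl⟩ := π.surjective a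
    simp [Perm.mem_support, hx']
  have hx1 : x ≠ 1 := fun h => by rw [h, Perm.support_one, Finset.card_empty] at hsupp; omega
  have : Fact q.Prime := ⟨hqp.1⟩
  have hord : orderOf x = q := orderOf_eq_prime hxq hx1
  have hc : x.IsCycle := Perm.isCycle_of_prime_order (by rw [hord]; exact hqp.1)
    (by rw [hord, hsupp]; omega)
  exact hA (Cfsg.Agent.S0713.result G hG hqp.1 (by omega) (by omega) hc hsupp hx)

theorem no_state (h2 : IsMultiplyPretransitive G α 2) (hG : IsPreprimitive G α)
    (hcard : Fintype.card α = 11) (hA : ¬ alternatingGroup α ≤ G) {π₀ : Fin 11 ≃ α}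
    (h0 : InG G π₀ (sw2 0 1 2 3)) :
    ∀ m k : ℕ, numStates - k = m → k < numStates → ∀ π : Fin 11 ≃ α,
      ¬ ∀ f ∈ gens k, InG G π f := by
  intro m
  induction m using Nat.strong_induction_on with
  | _ m ih =>
    intro k hkm hk π hgens
    obtain ⟨hpq, hcover⟩ := cover ⟨k, hk⟩
    set p := (pair k).1
    set q := (pair k).2
    obtain ⟨g, hg0, hg1⟩ := is_two_pretransitive_iff.mp h2
      (show π₀ 0 ≠ π₀ 1 from fun h => absurd (π₀.injective h) (by decide))
      (show π p ≠ π q from fun h => hpq (π.injective h))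
    let E : Fin 11 ≃ Fin 11 := (π₀.trans (g : Perm α)).trans π.symm
    have hE : ∀ z, π (E z) = (g : Perm α) (π₀ z) := fun z => π.apply_symm_apply _
    have hE0 : E 0 = p := π.injective ((hE 0).trans hg0)
    have hE1 : E 1 = q := π.injective ((hE 1).trans hg1)
    have hv : InG G π (sw2 p q (E 2) (E 3)) := by
      obtain ⟨u, hu, hu'⟩ := h0
      refine ⟨(g : Perm α) * u * (g : Perm α)⁻¹, G.mul_mem (G.mul_mem g.2 hu) (G.inv_mem g.2),
        fun y => ?_⟩
      obtain ⟨z, rfl⟩ := E.surjective y
      rw [← hE0, ← hE1, sw2_map E E.injective, hE, hE, Perm.mul_apply, Perm.mul_apply,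
        show ((g : Perm α)⁻¹) ((g : Perm α) (π₀ z)) = π₀ z from (g : Perm α).symm_apply_apply _,
        hu']
    have ne : ∀ a b : Fin 11, a ≠ b → E a ≠ E b := fun a b h he => h (E.injective he)
    have hc := hcover (E 2) (E 3) (ne 2 3 (by decide)) (hE0 ▸ ne 2 0 (by decide))
      (hE1 ▸ ne 2 1 (by decide)) (hE0 ▸ ne 3 0 (by decide)) (hE1 ▸ ne 3 1 (by decide))
    rw [List.any_eq_true] at hc
    obtain ⟨c, hcmem, hcij⟩ := hc
    simp only [Bool.or_eq_true, Bool.and_eq_true, beq_iff_eq] at hcij
    have hv' : InG G π (sw2 p q c.i c.j) := by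
      rcases hcij with ⟨h1, h1'⟩ | ⟨h1, h1'⟩
      · rwa [h1, h1']
      · rw [h1, h1', sw2_symm]; exact hv
    have hall := check_all
    rw [List.all_eq_true] at hall
    have hk' := hall k (List.mem_range.mpr hk)
    rw [List.all_eq_true] at hk'
    have hcc := hk' c hcmem
    set gs := gens k ++ [sw2 p q c.i c.j] with hgs
    have hgs' : ∀ f ∈ gs, InG G π f := by
      intro f hf
      rcases List.mem_append.mp hf with hf | hf
      · exact hgens f hf
      · rw [List.mem_singleton] at hf
        exact hf ▸ hv'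
    simp only [checkChild] at hcc
    by_cases hl : c.leaf = true
    · rw [if_pos hl, List.any_eq_true] at hcc
      obtain ⟨w, -, hw⟩ := hcc
      have hbad : isGood (evalW gs w) = false := no_good hG hcard hA (inG_evalW hgs' w)
      exact absurd hw (by rw [hbad]; decide)
    rw [if_neg hl] at hcc
    simp only [Bool.and_eq_true, List.all_eq_true, beq_iff_eq, decide_eq_true_eq] at hcc
    obtain ⟨⟨⟨⟨hlt, hlt'⟩, hinv⟩, hlen⟩, hwords⟩ := hcc
    let ρ : Fin 11 ≃ Fin 11 := ⟨ofList c.rho, ofList c.rhoInv,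
      fun x => (hinv x (List.mem_finRange x)).2, fun x => (hinv x (List.mem_finRange x)).1⟩
    refine ih (numStates - c.next) (by omega) c.next rfl hlt' (ρ.trans π) fun f hf => ?_
    obtain ⟨n, hn, rfl⟩ := List.getElem_of_mem hf
    obtain ⟨x, hx, hx'⟩ := inG_evalW hgs' (c.words.getD n [])
    refine ⟨x, hx, fun i => ?_⟩
    have hw := hwords n (List.mem_range.mpr (hlen ▸ hn)) i (List.mem_finRange i)
    simp only [List.getD_eq_getElem?_getD, List.getElem?_eq_getElem hn, Option.getD_some] at hw
    show x (π (ofList c.rho i)) = π (ofList c.rho _)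
    rw [hx', ← hw]
    simp [List.getD_eq_getElem?_getD, hgs, p, q]

theorem exists_labels (hcard : Fintype.card α = 11) {a b c d : α} (hab : a ≠ b) (hac : a ≠ c)
    (had : a ≠ d) (hbc : b ≠ c) (hbd : b ≠ d) (hcd : c ≠ d) :
    ∃ π : Fin 11 ≃ α, π 0 = a ∧ π 1 = b ∧ π 2 = c ∧ π 3 = d := by
  let π0 : Fin 11 ≃ α := (Fintype.equivFinOfCardEq hcard).symm
  let π1 := π0.trans (swap (π0 0) a)
  have h10 : π1 0 = a := swap_apply_left _ _
  let π2 := π1.trans (swap (π1 1) b)
  have n10 : a ≠ π1 1 := fun h => absurd (π1.injective (h10.trans h)) (by decide)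
  have h20 : π2 0 = a := by
    show swap (π1 1) b (π1 0) = a
    rw [h10, swap_apply_of_ne_of_ne n10 hab]
  have h21 : π2 1 = b := swap_apply_left _ _
  let π3 := π2.trans (swap (π2 2) c)
  have h30 : π3 0 = a := by
    show swap (π2 2) c (π2 0) = a
    rw [h20, swap_apply_of_ne_of_ne (fun h => absurd (π2.injective (h20.trans h)) (by decide)) hac]
  have h31 : π3 1 = b := by
    show swap (π2 2) c (π2 1) = b
    rw [h21, swap_apply_of_ne_of_ne (fun h => absurd (π2.injective (h21.trans h)) (by decide)) hbc]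
  have h32 : π3 2 = c := swap_apply_left _ _
  refine ⟨π3.trans (swap (π3 3) d), ?_, ?_, ?_, swap_apply_left _ _⟩
  · show swap (π3 3) d (π3 0) = a
    rw [h30, swap_apply_of_ne_of_ne (fun h => absurd (π3.injective (h30.trans h)) (by decide)) had]
  · show swap (π3 3) d (π3 1) = b
    rw [h31, swap_apply_of_ne_of_ne (fun h => absurd (π3.injective (h31.trans h)) (by decide)) hbd]
  · show swap (π3 3) d (π3 2) = c
    rw [h32, swap_apply_of_ne_of_ne (fun h => absurd (π3.injective (h32.trans h)) (by decide)) hcd]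

theorem support_ne_four (h2 : IsMultiplyPretransitive G α 2) (hG : IsPreprimitive G α)
    (hcard : Fintype.card α = 11) (hA : ¬ alternatingGroup α ≤ G) {x : Perm α} (hx : x ∈ G)
    (hx2 : x * x = 1) : x.support.card ≠ 4 := by
  intro h4
  have hxx : ∀ y, x (x y) = y := fun y => by rw [← Perm.mul_apply, hx2]; rfl
  obtain ⟨a, ha⟩ := Finset.card_pos.mp (by rw [h4]; norm_num : 0 < x.support.card)
  set b := x a with hb
  have hab : a ≠ b := (Perm.mem_support.mp ha).symm
  have hbs : b ∈ x.support := Perm.apply_mem_support.mpr ha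
  have hlt : ({a, b} : Finset α).card < x.support.card := by rw [Finset.card_pair hab, h4]; norm_num
  obtain ⟨c, hc, hcn⟩ := Finset.exists_mem_notMem_of_card_lt_card hlt
  simp only [Finset.mem_insert, Finset.mem_singleton, not_or] at hcn
  set d := x c with hd
  have hcd : c ≠ d := (Perm.mem_support.mp hc).symm
  have hds : d ∈ x.support := Perm.apply_mem_support.mpr hc
  have had : a ≠ d := fun h => hcn.2 (by rw [hb, h, hd, hxx])
  have hbd : b ≠ d := fun h => hcn.1 (x.injective h).symm
  obtain ⟨π, p0, p1, p2, p3⟩ := exists_labels hcard hab (Ne.symm hcn.1) had (Ne.symm hcn.2) hbd hcd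
  have hsupp : x.support = {a, b, c, d} := by
    refine (Finset.eq_of_subset_of_card_le ?_ ?_).symm
    · intro y hy
      simp only [Finset.mem_insert, Finset.mem_singleton] at hy
      rcases hy with rfl | rfl | rfl | rfl <;> assumption
    · rw [h4, Finset.card_insert_of_notMem (by simp [hab, Ne.symm hcn.1, had]),
        Finset.card_insert_of_notMem (by simp [Ne.symm hcn.2, hbd]), Finset.card_pair hcd]
  have h0 : InG G π (sw2 0 1 2 3) := by
    refine ⟨x, hx, fun i => ?_⟩
    simp only [sw2]
    split_ifs with e1 e2 e3 e4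
    · rw [e1, p0, p1]
    · rw [e2, p1, p0, hb, hxx]
    · rw [e3, p2, p3]
    · rw [e4, p3, p2, hd, hxx]
    · refine Perm.notMem_support.mp ?_
      rw [hsupp]
      simp only [Finset.mem_insert, Finset.mem_singleton, not_or, ← p0, ← p1, ← p2, ← p3,
        π.injective.eq_iff]
      exact ⟨e1, e2, e3, e4⟩
  exact no_state h2 hG hcard hA h0 _ 0 rfl (by decide) π (by
    rw [gens_zero]
    intro f hf
    rw [List.mem_singleton] at hf
    exact hf ▸ h0)

end CfsgLib.PermGroup.DoubleSwap
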