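import Cfsg.Agent.Lib.PermGroup.DegreeSeven
import Cfsg.Agent.Lib.PermGroup.DoubleSwap
import Cfsg.Agent.S0498
import Mathlib.GroupTheory.GroupAction.Jordan

/-! Insoluble transitive groups of degree 11. -/

namespace CfsgLib.PermGroup.Eleven

open MulAction Subgroup

variable {α : Type*} [Fintype α] [DecidableEq α]

theorem sign_neg_eleven : Equiv.Perm.sign (Equiv.neg (ZMod 11)) = -1 := by decide +kernel

theorem sign_negation (e : ZMod 11 ≃ α) {ν : Equiv.Perm α} (h : ∀ j, ν (e j) = e (-j)) :
    Equiv.Perm.sign ν = -1 := by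
  have : ν = e.permCongr (Equiv.neg (ZMod 11)) := Equiv.ext fun x => by
    obtain ⟨j, rfl⟩ := e.surjective x
    rw [h, Equiv.permCongr_apply, e.symm_apply_apply]
    rfl
  rw [this, Equiv.Perm.sign_permCongr, sign_neg_eleven]

/-- A proper insoluble transitive group of degree 11. -/
structure Ctx (G : Subgroup (Equiv.Perm α)) : Prop where
  card : Fintype.card α = 11
  trans : IsPretransitive G α
  insol : ¬ Group.IsSolvable G
  proper : ¬ alternatingGroup α ≤ G

variable {G : Subgroup (Equiv.Perm α)} (hc : Ctx G)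
include hc

theorem Ctx.prim : IsPreprimitive G α := by
  have := hc.trans
  exact IsPreprimitive.of_prime_card (by rw [Nat.card_eq_fintype_card, hc.card]; norm_num)

theorem Ctx.two : IsMultiplyPretransitive G α 2 := by
  have : Fact (Nat.Prime 11) := ⟨by norm_num⟩
  have := hc.trans
  exact two_transitive_of_insoluble (p := 11) hc.card G hc.insol

theorem Ctx.not_small_order {x : Equiv.Perm α} (hx : x ∈ G) {q : ℕ} (hq : q.Prime) (hq8 : q ≤ 8)
    (ho : orderOf x = q) (hs : x.support.card < 2 * q) : False := by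
  have hcyc : x.IsCycle := Equiv.Perm.isCycle_of_prime_order (by rwa [ho]) (by rwa [ho])
  exact hc.proper (Cfsg.Agent.S0713.result G hc.prim hq (by rw [hc.card]; norm_num)
    (by rw [hc.card]; omega) hcyc (by rw [← hcyc.orderOf, ho]) hx)

theorem Ctx.not_seven : ¬ 7 ∣ Nat.card G := by
  intro h
  have : Fact (Nat.Prime 7) := ⟨by norm_num⟩
  obtain ⟨x, hx⟩ := exists_prime_orderOf_dvd_card' 7 h
  refine hc.not_small_order x.2 (q := 7) (by norm_num) (by norm_num) (by rwa [Subgroup.orderOf_coe]) ?_
  have := Finset.card_le_univ ((x : Equiv.Perm α).support)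
  rw [hc.card] at this
  omega

/-- A subgroup of order `q²` fixing the points of `F`. -/
theorem Ctx.no_square {q : ℕ} [hq : Fact q.Prime] (hq8 : q ≤ 8) (T : Subgroup G)
    (hT : Nat.card T = q ^ 2) (F : Finset α) (hfix : ∀ t ∈ T, ∀ x ∈ F, t • x = x)
    (hsmall : 11 - F.card < q * q) (hsupp : 11 - q - F.card < 2 * q) : False := by
  obtain ⟨⟨t, ht⟩, ht1⟩ : ∃ t : T, t ≠ 1 := by
    have : Nontrivial T := Finite.one_lt_card_iff_nontrivial.mp
      (hT ▸ Nat.one_lt_pow two_ne_zero hq.out.one_lt)
    exact exists_ne 1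
  obtain ⟨a, ha⟩ : ∃ a, t • a ≠ a := by
    by_contra h
    simp only [not_exists, not_not] at h
    exact ht1 (Subtype.ext (Subtype.ext (Equiv.ext h)))
  have haF : a ∉ F := fun h => ha (hfix t ht a h)
  set O := MulAction.orbit T a with hO
  have hOF : ∀ y ∈ O, y ∉ F := by
    rintro _ ⟨⟨u, hu⟩, rfl⟩ hy
    exact haF (by
      have := hfix u⁻¹ (inv_mem hu) _ hy
      change u⁻¹ • (u • a) = u • a at this
      rw [inv_smul_smul] at this
      change u • a ∈ F at hy
      rw [this]; exact hy)
  have hidx : (stabilizer T a).index = O.ncard := by rw [index_stabilizer]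
  have hcard := (stabilizer T a).card_mul_index
  rw [hidx, hT] at hcard
  have hOle : O.ncard + F.card ≤ 11 := by
    rw [← Set.ncard_coe_finset F, ← Set.ncard_union_eq (Set.disjoint_left.mpr fun y hy => hOF y hy),
      ← hc.card, ← Nat.card_eq_fintype_card, ← Set.ncard_univ]
    exact Set.ncard_le_ncard (Set.subset_univ _)
  have hOq : q ≤ O.ncard := by
    have hd : O.ncard ∣ q ^ 2 := ⟨_, by rw [← hcard, mul_comm]⟩
    obtain ⟨k, -, hk⟩ := (Nat.dvd_prime_pow hq.out).mp hd
    have h1 : O.ncard ≠ 1 := fun h1 => by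
      obtain ⟨y, hy⟩ := Set.ncard_eq_one.mp h1
      have e1 : a ∈ O := mem_orbit_self a
      have e2 : t • a ∈ O := ⟨⟨t, ht⟩, rfl⟩
      rw [hy, Set.mem_singleton_iff] at e1 e2
      exact ha (e2.trans e1.symm)
    rw [hk] at h1 ⊢
    rcases Nat.eq_zero_or_pos k with rfl | hk0
    · exact absurd (pow_zero q) h1
    · exact Nat.le_self_pow hk0.ne' q
  have hstab : 1 < Nat.card (stabilizer T a) := by
    by_contra hle
    have h1 : Nat.card (stabilizer T a) = 1 := by
      have : 0 < Nat.card (stabilizer T a) := Nat.card_pos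
      omega
    rw [h1, one_mul] at hcard
    rw [pow_two] at hcard
    omega
  have : Nontrivial (stabilizer T a) := Finite.one_lt_card_iff_nontrivial.mp hstab
  obtain ⟨⟨y, hy⟩, hy1⟩ := exists_ne (1 : stabilizer T a)
  rw [mem_stabilizer_iff] at hy
  have hyO : ∀ z ∈ O, y • z = z := by
    rintro _ ⟨u, rfl⟩
    show y • u • a = u • a
    rw [← mul_smul, IsPGroup.commutative_of_card_eq_prime_sq hT y u, mul_smul, hy]
  obtain ⟨k, hk2, hk⟩ := (Nat.dvd_prime_pow hq.out).mp (hT ▸ orderOf_dvd_natCard y)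
  have hk0 : k ≠ 0 := fun h => hy1 (Subtype.ext (orderOf_eq_one_iff.mp (by rw [hk, h, pow_zero])))
  set z := y ^ q ^ (k - 1) with hz
  have hzo : orderOf z = q := by
    rw [hz, orderOf_pow, hk, Nat.gcd_eq_right (pow_dvd_pow q (Nat.sub_le k 1)),
      Nat.pow_div (Nat.sub_le k 1) hq.out.pos, show k - (k - 1) = 1 by omega, pow_one]
  have hzO : ∀ w ∈ O, z • w = w := by
    intro w hw
    rw [hz]
    exact MulAction.mem_stabilizer_iff.mp
      (pow_mem (MulAction.mem_stabilizer_iff.mpr (hyO w hw)) _)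
  have hsub : (((z : G) : Equiv.Perm α).support : Set α) ⊆ (O ∪ ↑F)ᶜ := by
    intro w hw hw'
    rw [Finset.mem_coe, Equiv.Perm.mem_support] at hw
    rcases hw' with h | h
    · exact hw (hzO w h)
    · exact hw (hfix z z.2 w h)
  refine hc.not_small_order (z : G).2 (q := q) hq.out hq8
    (by rw [Subgroup.orderOf_coe, Subgroup.orderOf_coe, hzo]) ?_
  have := Set.ncard_le_ncard hsub
  rw [Set.ncard_coe_finset, Set.ncard_compl,
    Set.ncard_union_eq (Set.disjoint_left.mpr fun y hy => hOF y hy), Set.ncard_coe_finset,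
    Nat.card_eq_fintype_card, hc.card] at this
  omega

theorem Ctx.not_twenty_five : ¬ 25 ∣ Nat.card G := by
  intro h
  have : Fact (Nat.Prime 5) := ⟨by norm_num⟩
  obtain ⟨T, hT⟩ := Sylow.exists_subgroup_card_pow_prime (G := G) 5 (n := 2) (by norm_num; exact h)
  exact hc.no_square (q := 5) (by norm_num) T hT ∅ (by simp) (by simp) (by simp)

theorem Ctx.exists_shift : ∃ σ ∈ G, σ ∈ alternatingGroup α ∧ ∃ e : ZMod 11 ≃ α,
    ∀ j, σ (e j) = e (j + 1) := by
  have : Fact (Nat.Prime 11) := ⟨by norm_num⟩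
  have := hc.trans
  obtain ⟨e, σ, hσ, hstep⟩ := exists_step (p := 11) hc.card G
  have hpow : ∀ (k : ℕ) j, (σ ^ k) (e j) = e (j + k) := by
    intro k
    induction k with
    | zero => simp
    | succ k ih => intro j; rw [pow_succ', Equiv.Perm.mul_apply, ih, hstep]; push_cast; ring_nf
  have hσ11 : σ ^ 11 = 1 := by
    refine Equiv.ext fun x => ?_
    obtain ⟨j, rfl⟩ := e.surjective x
    rw [hpow, show ((11 : ℕ) : ZMod 11) = 0 from rfl, add_zero]; rfl
  refine ⟨σ, hσ, Equiv.Perm.mem_alternatingGroup.mpr ?_, e, hstep⟩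
  have := congrArg Equiv.Perm.sign hσ11
  rw [map_pow, map_one] at this
  rcases Int.units_eq_one_or (Equiv.Perm.sign σ) with h | h
  · exact h
  · rw [h] at this; exact absurd this (by decide)

theorem Ctx.inter : Ctx (G ⊓ alternatingGroup α) := by
  refine ⟨hc.card, ?_, fun hs => hc.insol ?_, fun h => hc.proper (h.trans inf_le_left)⟩
  · obtain ⟨σ, hσ, hσA, e, hstep⟩ := hc.exists_shift
    have hpow : ∀ k : ℕ, (σ ^ k) (e 0) = e k := by
      intro k
      induction k with
      | zero => simp
      | succ k ih => rw [pow_succ', Equiv.Perm.mul_apply, ih, hstep]; push_cast; rfl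
    have hσR : σ ∈ G ⊓ alternatingGroup α := ⟨hσ, hσA⟩
    have hbase : ∀ x, ∃ g : (G ⊓ alternatingGroup α : Subgroup (Equiv.Perm α)), g • e 0 = x := by
      intro x
      obtain ⟨j, rfl⟩ := e.surjective x
      refine ⟨⟨σ, hσR⟩ ^ j.val, ?_⟩
      show (σ ^ j.val) (e 0) = e j
      rw [hpow, ZMod.natCast_zmod_val]
    constructor
    intro x y
    obtain ⟨g, rfl⟩ := hbase x
    obtain ⟨k, rfl⟩ := hbase y
    exact ⟨k * g⁻¹, by rw [mul_smul, inv_smul_smul]⟩
  · exact Group.isSolvable_of_ker_le_range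
      (inclusion (inf_le_left : G ⊓ alternatingGroup α ≤ G))
      (Equiv.Perm.sign.comp G.subtype) fun g hg => ⟨⟨g, g.2, hg⟩, rfl⟩

theorem Ctx.card_data : ∃ c m, c ∣ 10 ∧ c ≠ 1 ∧ m ≠ 1 ∧ m % 11 = 1 ∧ Nat.card G = 11 * c * m ∧
    (2 ∣ c → (990 ∣ Nat.card G ∧ ¬ G ≤ alternatingGroup α)) := by
  have : Fact (Nat.Prime 11) := ⟨by norm_num⟩
  have := hc.trans
  obtain ⟨P⟩ : Nonempty (Sylow 11 G) := inferInstance
  obtain ⟨c, hc10, hN, hG, hm⟩ := sylow_data (p := 11) hc.card G P
  refine ⟨c, _, hc10, ?_, fun h => hc.insol (solvable_of_card_sylow_eq_one hc.card G P h), hm, hG,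
    fun h2 => ?_⟩
  · intro h
    have hcard := card_eq_of_self_normalizing hc.card G P (by rw [hN, h, mul_one])
    have := isCyclic_of_prime_card hcard
    exact hc.insol (Group.isSolvable_of_comm fun a b =>
      (IsCyclic.isMulCommutative (α := G)).is_comm.comm a b)
  · have heven : Even (Nat.card (normalizer ((P : Subgroup G) : Set G))) :=
      even_iff_two_dvd.mpr (hN ▸ h2.mul_left 11)
    refine ⟨?_, ?_⟩
    · have h3 := three_transitive_of_even hc.card G hc.insol P heven
      obtain ⟨t⟩ : Nonempty (Fin 3 ↪ α) :=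
        Function.Embedding.nonempty_of_card_le (by rw [Fintype.card_fin, hc.card]; norm_num)
      have h990 := @index_stabilizer_of_transitive G (Fin 3 ↪ α) _ _ t h3
      have hdiv : Nat.card (Fin 3 ↪ α) ∣ Nat.card G := h990 ▸ Subgroup.index_dvd_card _
      rwa [Nat.card_eq_fintype_card, Fintype.card_embedding_eq, hc.card, Fintype.card_fin,
        show (11 : ℕ).descFactorial 3 = 990 from rfl] at hdiv
    · intro hle
      obtain ⟨e', -, ν, hν, hν'⟩ := exists_negation hc.card (by norm_num) G P heven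
      have h := Equiv.Perm.mem_alternatingGroup.mp (hle hν)
      rw [sign_negation e' hν'] at h
      exact absurd h (by decide)

theorem Ctx.card_even (hle : G ≤ alternatingGroup α) :
    Nat.card G = 660 ∨ Nat.card G = 7920 ∨ Nat.card G = 95040 := by
  obtain ⟨c, m, hc10, hc1, hm1, hm, hG, heven⟩ := hc.card_data
  have hodd : ¬ 2 ∣ c := fun h => (heven h).2 hle
  have hc5 : c = 5 := by
    have := Nat.le_of_dvd (by norm_num) hc10
    interval_cases c <;> simp_all
  subst hc5
  have : Nontrivial α := Fintype.one_lt_card_iff_nontrivial.mp (by rw [hc.card]; norm_num)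
  have hA : Nat.card (alternatingGroup α) = 55 * 362880 := by
    rw [nat_card_alternatingGroup, Nat.card_eq_fintype_card, hc.card]; rfl
  have h1 : m ∣ 362880 := Nat.dvd_of_mul_dvd_mul_left (show 0 < 55 by norm_num)
    (by have := Subgroup.card_dvd_of_le hle; rwa [hA, hG] at this)
  have h5 : ¬ 5 ∣ m := fun h => hc.not_twenty_five (by
    rw [hG]; exact (show 25 ∣ 11 * 5 * m by
      obtain ⟨t, rfl⟩ := h; exact ⟨11 * t, by ring⟩))
  have h7 : ¬ 7 ∣ m := fun h => hc.not_seven (by rw [hG]; exact h.mul_left _)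
  have hcop : Nat.Coprime m (5 * 7) := Nat.Coprime.mul_right
    ((Nat.Prime.coprime_iff_not_dvd (by norm_num)).mpr h5).symm
    ((Nat.Prime.coprime_iff_not_dvd (by norm_num)).mpr h7).symm
  have h2 : m ∣ 2 ^ 7 * 3 ^ 4 := hcop.dvd_of_dvd_mul_right (by
    rw [show 2 ^ 7 * 3 ^ 4 * (5 * 7) = 362880 by norm_num]; exact h1)
  obtain ⟨⟨u, hu⟩, ⟨v, hv⟩, rfl⟩ : ∃ (u : {u // u ∣ 2 ^ 7}) (v : {v // v ∣ 3 ^ 4}), m = (u : ℕ) * (v : ℕ) := by
    obtain ⟨u, v, hu, hv, huv⟩ := Nat.dvd_mul.mp h2
    exact ⟨⟨u, hu⟩, ⟨v, hv⟩, huv.symm⟩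
  have he : 2 ∣ Nat.card G := even_card_of_two_transitive G hc.two (by rw [hc.card]; norm_num)
  obtain ⟨i, hi, rfl⟩ := (Nat.dvd_prime_pow Nat.prime_two).mp hu
  obtain ⟨j, hj, rfl⟩ := (Nat.dvd_prime_pow Nat.prime_three).mp hv
  rw [hG] at he ⊢
  simp only at hm hm1 he ⊢
  interval_cases i <;> interval_cases j <;> norm_num at *

theorem Ctx.even_support {z : Equiv.Perm α} (hz : z ∈ G) (hzA : z ∈ alternatingGroup α)
    (hz2 : z * z = 1) (hz1 : z ≠ 1) : z.support.card = 8 := by
  have : Fact (Nat.Prime 2) := ⟨Nat.prime_two⟩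
  have ho : orderOf z = 2 := orderOf_eq_prime (by rw [pow_two, hz2]) hz1
  obtain ⟨k, hk⟩ := Equiv.Perm.cycleType_prime_order (σ := z) (by rw [ho]; exact Nat.prime_two)
  have hs : z.support.card = 2 * (k + 1) := by
    rw [← Equiv.Perm.sum_cycleType, hk, Multiset.sum_replicate, ho, smul_eq_mul, mul_comm]
  have hsign := Equiv.Perm.mem_alternatingGroup.mp hzA
  rw [Equiv.Perm.sign_of_cycleType, hk, Multiset.sum_replicate, Multiset.card_replicate, ho,
    smul_eq_mul] at hsign
  have hle := Finset.card_le_univ z.support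
  rw [hc.card] at hle
  have hne := DoubleSwap.support_ne_four hc.two hc.prim hc.card hc.proper hz hz2
  have hk5 : k ≤ 4 := by omega
  interval_cases k <;> simp_all (config := { decide := true })

/-- A 2-subgroup fixing two points fixes one more and is semiregular on the others. -/
theorem Ctx.two_subgroup (hle : G ≤ alternatingGroup α) {a b : α} (hab : a ≠ b) (T : Subgroup G)
    (hT : IsPGroup 2 T) (hfix : ∀ t ∈ T, t • a = a ∧ t • b = b) :
    ∃ c, c ≠ a ∧ c ≠ b ∧ (∀ t ∈ T, t • c = c) ∧
      ∀ d, d ≠ a → d ≠ b → d ≠ c → ∀ t ∈ T, t • d = d → t = 1 := by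
  have : Fact (Nat.Prime 2) := ⟨Nat.prime_two⟩
  have hmod := hT.card_modEq_card_fixedPoints (α := α)
  rw [Nat.card_eq_fintype_card, hc.card] at hmod
  obtain ⟨c, hcT, hca, hcb⟩ : ∃ c ∈ fixedPoints T α, c ≠ a ∧ c ≠ b := by
    by_contra hcon
    simp only [not_exists, not_and, not_not] at hcon
    have : fixedPoints T α = {a, b} := by
      ext x
      constructor
      · intro hx
        by_cases h : x = a
        · exact Or.inl h
        · exact Or.inr (hcon x hx h)
      · rintro (rfl | rfl) ⟨t, ht⟩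
        · exact (hfix t ht).1
        · exact (hfix t ht).2
    rw [Nat.card_coe_set_eq, this, Set.ncard_pair hab] at hmod
    exact absurd hmod (by decide)
  refine ⟨c, hca, hcb, fun t ht => hcT ⟨t, ht⟩, fun d hda hdb hdc t ht htd => ?_⟩
  by_contra ht1
  obtain ⟨k, hk⟩ := IsPGroup.iff_orderOf.mp hT ⟨t, ht⟩
  rw [Subgroup.orderOf_mk] at hk
  have hk0 : k ≠ 0 := fun h => ht1 (orderOf_eq_one_iff.mp (by rw [hk, h, pow_zero]))
  set z := t ^ 2 ^ (k - 1) with hz
  have hzo : orderOf z = 2 := by
    rw [hz, orderOf_pow, hk, Nat.gcd_eq_right (pow_dvd_pow 2 (Nat.sub_le k 1)),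
      Nat.pow_div (Nat.sub_le k 1) two_pos, show k - (k - 1) = 1 by omega, pow_one]
  have hz1 : z ≠ 1 := fun h => by rw [h, orderOf_one] at hzo; exact absurd hzo (by norm_num)
  have hz2 : z * z = 1 := by rw [← pow_two, ← hzo, pow_orderOf_eq_one]
  have h8 := hc.even_support z.2 (hle z.2) (congrArg Subtype.val hz2) (fun h => hz1 (Subtype.ext h))
  have hzfix : ∀ x : α, t • x = x → ((z : Equiv.Perm α)) x = x := fun x hx =>
    MulAction.mem_stabilizer_iff.mp (pow_mem (MulAction.mem_stabilizer_iff.mpr hx) (2 ^ (k - 1)))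
  have hsub : (z : Equiv.Perm α).support ⊆ ({a, b, c, d} : Finset α)ᶜ := by
    intro w hw
    rw [Equiv.Perm.mem_support] at hw
    simp only [Finset.mem_compl, Finset.mem_insert, Finset.mem_singleton, not_or]
    exact ⟨fun h => hw (hzfix w (h ▸ (hfix t ht).1)), fun h => hw (hzfix w (h ▸ (hfix t ht).2)),
      fun h => hw (hzfix w (h ▸ hcT ⟨t, ht⟩)), fun h => hw (hzfix w (h ▸ htd))⟩
  have := Finset.card_le_card hsub
  rw [h8, Finset.card_compl, hc.card, Finset.card_insert_of_notMem (by simp [hab, Ne.symm hca, Ne.symm hda]),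
    Finset.card_insert_of_notMem (by simp [Ne.symm hcb, Ne.symm hdb]), Finset.card_pair (Ne.symm hdc)]
    at this
  omega

theorem Ctx.card_pair_stab {a b : α} (hab : a ≠ b) :
    Nat.card (stabilizer G a ⊓ stabilizer G b : Subgroup G) * 110 = Nat.card G := by
  let t : Fin 2 ↪ α := ⟨![a, b], by intro i j; fin_cases i <;> fin_cases j <;> simp [hab, Ne.symm hab]⟩
  have hst : stabilizer G t = stabilizer G a ⊓ stabilizer G b := by
    ext g
    simp only [mem_inf, mem_stabilizer_iff]
    constructor
    · intro h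
      exact ⟨congrArg (fun f : Fin 2 ↪ α => f 0) h, congrArg (fun f : Fin 2 ↪ α => f 1) h⟩
    · rintro ⟨h1, h2⟩
      refine Function.Embedding.ext fun i => ?_
      fin_cases i
      · exact h1
      · exact h2
  have hidx := @index_stabilizer_of_transitive G (Fin 2 ↪ α) _ _ t hc.two
  rw [← hst, ← (stabilizer G t).card_mul_index, hidx]
  congr 1
  rw [Nat.card_eq_fintype_card, Fintype.card_embedding_eq, hc.card, Fintype.card_fin]
  rfl

theorem Ctx.not_m12 (hle : G ≤ alternatingGroup α) : Nat.card G ≠ 95040 := by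
  intro h
  have : Nontrivial α := Fintype.one_lt_card_iff_nontrivial.mp (by rw [hc.card]; norm_num)
  obtain ⟨a, b, hab⟩ := exists_pair_ne α
  have hS := hc.card_pair_stab hab
  rw [h] at hS
  set S : Subgroup G := stabilizer G a ⊓ stabilizer G b
  have : Fact (Nat.Prime 2) := ⟨Nat.prime_two⟩
  obtain ⟨T₀, hT₀⟩ := Sylow.exists_subgroup_card_pow_prime (G := S) 2 (n := 5)
    (by rw [show Nat.card S = 864 by omega]; norm_num)
  set T := T₀.map S.subtype with hT
  have hTc : Nat.card T = 2 ^ 5 := by rw [hT, card_map_of_injective S.subtype_injective, hT₀]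
  have hfix : ∀ t ∈ T, t • a = a ∧ t • b = b := by
    rintro _ ⟨t, -, rfl⟩
    exact ⟨t.2.1, t.2.2⟩
  obtain ⟨c, hca, hcb, -, hsemi⟩ := hc.two_subgroup hle hab T (IsPGroup.of_card hTc) hfix
  obtain ⟨d, -, hd⟩ : ∃ d ∈ (Finset.univ : Finset α), d ∉ ({a, b, c} : Finset α) :=
    Finset.exists_mem_notMem_of_card_lt_card (by
      calc ({a, b, c} : Finset α).card ≤ 3 := Finset.card_le_three
        _ < (Finset.univ : Finset α).card := by rw [Finset.card_univ, hc.card]; norm_num)
  simp only [Finset.mem_insert, Finset.mem_singleton, not_or] at hd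
  have hinj : Function.Injective fun t : T => t • d := fun s t hst => by
    have : (t⁻¹ * s : T) • d = d := by rw [mul_smul]; simp only at hst; rw [hst, inv_smul_smul]
    exact (inv_mul_eq_one.mp (Subtype.ext (hsemi d hd.1 hd.2.1 hd.2.2 _ (t⁻¹ * s).2 this))).symm
  have := Nat.card_le_card_of_injective _ hinj
  rw [hTc, Nat.card_eq_fintype_card, hc.card] at this
  norm_num at this

/-- The case of order 7920. -/
theorem Ctx.four_transitive (hle : G ≤ alternatingGroup α) (hG : Nat.card G = 7920) :
    IsMultiplyPretransitive G α 4 ∧ ∀ x : Fin 4 ↪ α, stabilizer G x = ⊥ := by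
  have : Nontrivial α := Fintype.one_lt_card_iff_nontrivial.mp (by rw [hc.card]; norm_num)
  obtain ⟨a, b, hab⟩ := exists_pair_ne α
  have hS := hc.card_pair_stab hab
  rw [hG] at hS
  set S : Subgroup G := stabilizer G a ⊓ stabilizer G b with hSdef
  have hS72 : Nat.card S = 72 := by omega
  have : Fact (Nat.Prime 2) := ⟨Nat.prime_two⟩
  have : Fact (Nat.Prime 3) := ⟨Nat.prime_three⟩
  obtain ⟨T₀, hT₀⟩ := Sylow.exists_subgroup_card_pow_prime (G := S) 2 (n := 3)
    (by rw [hS72]; norm_num)
  set T := T₀.map S.subtype with hT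
  have hTc : Nat.card T = 2 ^ 3 := by rw [hT, card_map_of_injective S.subtype_injective, hT₀]
  have hTS : T ≤ S := map_subtype_le _
  obtain ⟨c, hca, hcb, hTfix, hsemi⟩ :=
    hc.two_subgroup hle hab T (IsPGroup.of_card hTc) fun t ht => hTS ht
  have hTorb : ∀ d e, d ≠ a → d ≠ b → d ≠ c → e ≠ a → e ≠ b → e ≠ c → ∃ t ∈ T, t • d = e := by
    intro d e hda hdb hdc hea heb hec
    let f : T → {x : α // x ∉ ({a, b, c} : Finset α)} := fun t => ⟨t • d, by
      simp only [Finset.mem_insert, Finset.mem_singleton, not_or]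
      refine ⟨fun h => hda ?_, fun h => hdb ?_, fun h => hdc ?_⟩
      · rw [show (t • d : α) = (t : G) • d from rfl] at h
        exact smul_left_cancel (t : G) (h.trans (hTS t.2).1.symm)
      · rw [show (t • d : α) = (t : G) • d from rfl] at h
        exact smul_left_cancel (t : G) (h.trans (hTS t.2).2.symm)
      · rw [show (t • d : α) = (t : G) • d from rfl] at h
        exact smul_left_cancel (t : G) (h.trans (hTfix t t.2).symm)⟩
    have hf : Function.Injective f := fun s t hst => by
      have : (t⁻¹ * s : T) • d = d := by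
        rw [mul_smul, show s • d = t • d from congrArg Subtype.val hst, inv_smul_smul]
      exact (inv_mul_eq_one.mp (Subtype.ext (hsemi d hda hdb hdc _ (t⁻¹ * s).2 this))).symm
    have hb := hf.bijective_of_nat_card_le (by
      rw [hTc, Nat.card_eq_fintype_card, Fintype.card_subtype_compl, Fintype.card_coe, hc.card,
        Finset.card_insert_of_notMem (by simp [hab, Ne.symm hca]), Finset.card_pair (Ne.symm hcb)]
      norm_num)
    obtain ⟨t, ht⟩ := hb.2 ⟨e, by simp [hea, heb, hec]⟩
    exact ⟨t, t.2, congrArg Subtype.val ht⟩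
  obtain ⟨k, hkS, hkc⟩ : ∃ k ∈ S, k • c ≠ c := by
    by_contra hcon
    simp only [not_exists, not_and, not_not] at hcon
    obtain ⟨P₀, hP₀⟩ := Sylow.exists_subgroup_card_pow_prime (G := S) 3 (n := 2)
      (by rw [hS72]; norm_num)
    have hPS : P₀.map S.subtype ≤ S := map_subtype_le _
    refine hc.no_square (q := 3) (by norm_num) (P₀.map S.subtype)
      (by rw [card_map_of_injective S.subtype_injective, hP₀]) {a, b, c} (fun t ht x hx => ?_) ?_ ?_
    · simp only [Finset.mem_insert, Finset.mem_singleton] at hx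
      rcases hx with rfl | rfl | rfl
      · exact (hPS ht).1
      · exact (hPS ht).2
      · exact hcon t (hPS ht)
    all_goals
      rw [Finset.card_insert_of_notMem (by simp [hab, Ne.symm hca]), Finset.card_pair (Ne.symm hcb)]
      norm_num
  have hSorb : ∀ e, e ≠ a → e ≠ b → ∃ k ∈ S, k • c = e := by
    intro e hea heb
    by_cases hec : e = c
    · exact ⟨1, one_mem _, by rw [one_smul, hec]⟩
    obtain ⟨t, ht, hte⟩ := hTorb (k • c) e
      (fun h => hca (smul_left_cancel k (h.trans hkS.1.symm)))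
      (fun h => hcb (smul_left_cancel k (h.trans hkS.2.symm))) hkc hea heb hec
    exact ⟨t * k, mul_mem (hTS ht) hkS, by rw [mul_smul, hte]⟩
  obtain ⟨d, -, hd⟩ : ∃ d ∈ (Finset.univ : Finset α), d ∉ ({a, b, c} : Finset α) :=
    Finset.exists_mem_notMem_of_card_lt_card (by
      calc ({a, b, c} : Finset α).card ≤ 3 := Finset.card_le_three
        _ < (Finset.univ : Finset α).card := by rw [Finset.card_univ, hc.card]; norm_num)
  simp only [Finset.mem_insert, Finset.mem_singleton, not_or] at hd
  let base : Fin 4 ↪ α := ⟨![a, b, c, d], by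
    intro i j
    fin_cases i <;> fin_cases j <;>
      simp [hab, Ne.symm hab, hca, Ne.symm hca, hcb, Ne.symm hcb, hd.1, Ne.symm hd.1, hd.2.1,
        Ne.symm hd.2.1, hd.2.2, Ne.symm hd.2.2]⟩
  have hbase : ∀ y : Fin 4 ↪ α, ∃ g : G, g • base = y := by
    intro y
    have ne : ∀ i j : Fin 4, i ≠ j → y i ≠ y j := fun i j h he => h (y.injective he)
    obtain ⟨g₁, h0, h1⟩ := is_two_pretransitive_iff.mp hc.two hab (ne 0 1 (by decide))
    obtain ⟨k, hk, hk2⟩ := hSorb (g₁⁻¹ • y 2)
      (fun h => ne 2 0 (by decide) (by rw [← h0, ← h, smul_inv_smul]))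
      (fun h => ne 2 1 (by decide) (by rw [← h1, ← h, smul_inv_smul]))
    have e0 : (g₁ * k) • a = y 0 := by rw [mul_smul, hk.1, h0]
    have e1 : (g₁ * k) • b = y 1 := by rw [mul_smul, hk.2, h1]
    have e2 : (g₁ * k) • c = y 2 := by rw [mul_smul, hk2, smul_inv_smul]
    obtain ⟨t, ht, ht3⟩ := hTorb d ((g₁ * k)⁻¹ • y 3) hd.1 hd.2.1 hd.2.2
      (fun h => ne 3 0 (by decide) (by rw [← e0, ← h, smul_inv_smul]))
      (fun h => ne 3 1 (by decide) (by rw [← e1, ← h, smul_inv_smul]))
      (fun h => ne 3 2 (by decide) (by rw [← e2, ← h, smul_inv_smul]))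
    refine ⟨g₁ * k * t, Function.Embedding.ext fun i => ?_⟩
    rw [Function.Embedding.smul_apply]
    fin_cases i
    · show (g₁ * k * t) • a = y 0
      rw [mul_smul, (hTS ht).1, e0]
    · show (g₁ * k * t) • b = y 1
      rw [mul_smul, (hTS ht).2, e1]
    · show (g₁ * k * t) • c = y 2
      rw [mul_smul, hTfix t ht, e2]
    · show (g₁ * k * t) • d = y 3
      rw [mul_smul, ht3, smul_inv_smul]
  have h4 : IsMultiplyPretransitive G α 4 := by
    rw [isMultiplyPretransitive_iff]
    intro x y
    obtain ⟨g, rfl⟩ := hbase x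
    obtain ⟨h, rfl⟩ := hbase y
    refine ⟨h * g⁻¹, Function.Embedding.ext fun i => ?_⟩
    show (h * g⁻¹) • g • base i = h • base i
    rw [mul_smul, inv_smul_smul]
  refine ⟨h4, fun x => ?_⟩
  have h := @index_stabilizer_of_transitive G (Fin 4 ↪ α) _ _ x h4
  rw [Nat.card_eq_fintype_card, Fintype.card_embedding_eq, hc.card, Fintype.card_fin,
    show (11 : ℕ).descFactorial 4 = 7920 from rfl] at h
  have hmul := (stabilizer G x).card_mul_index
  rw [h, hG] at hmul
  exact Subgroup.eq_bot_of_card_eq _ (by omega)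

theorem Ctx.le_alternating : G ≤ alternatingGroup α := by
  by_contra hnle
  set R := G ⊓ alternatingGroup α with hR
  have hRc : Ctx R := hc.inter
  have hRG : R ≤ G := inf_le_left
  have h2 : Nat.card G = 2 * Nat.card R := by
    have h1 := (R.subgroupOf G).card_mul_index
    rw [Nat.card_congr (subgroupOfEquivOfLe hRG).toEquiv] at h1
    have h2 : (R.subgroupOf G).index ∣ 2 := by
      have hk : (Equiv.Perm.sign.comp G.subtype).ker = R.subgroupOf G := by
        ext g
        simp [hR, mem_subgroupOf, Equiv.Perm.mem_alternatingGroup]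
      rw [← hk, index_ker]
      refine (Subgroup.card_subgroup_dvd_card _).trans ?_
      rw [Nat.card_eq_fintype_card, Fintype.card_units_int]
    rcases (Nat.dvd_prime Nat.prime_two).mp h2 with h | h
    · exfalso
      rw [index_eq_one, subgroupOf_eq_top] at h
      exact hnle (h.trans inf_le_right)
    · rw [h] at h1; omega
  have hR' := hRc.card_even inf_le_right
  have hR4 : Nat.card R = 7920 := by
    obtain ⟨c, m, hc10, hc1, hm1, hm, hG, heven⟩ := hc.card_data
    have hc' : 2 ∣ c := by
      by_contra hodd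
      have := Nat.le_of_dvd (by norm_num) hc10
      have : c = 5 := by interval_cases c <;> simp_all
      subst this
      rcases hR' with h | h | h <;> omega
    have h990 := (heven hc').1
    rw [h2] at h990
    rcases hR' with h | h | h
    · rw [h] at h990; norm_num at h990
    · exact h
    · exact absurd h (hRc.not_m12 inf_le_right)
  obtain ⟨hR4t, hRstab⟩ := hRc.four_transitive inf_le_right hR4
  have hG4 : IsMultiplyPretransitive G α 4 := by
    rw [isMultiplyPretransitive_iff] at hR4t ⊢
    intro x y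
    obtain ⟨g, hg⟩ := hR4t x y
    exact ⟨⟨g, hRG g.2⟩, hg⟩
  obtain ⟨x⟩ : Nonempty (Fin 4 ↪ α) :=
    Function.Embedding.nonempty_of_card_le (by rw [Fintype.card_fin, hc.card]; norm_num)
  have hst2 : ∀ y : Fin 4 ↪ α, Nat.card (stabilizer G y) = 2 := by
    intro y
    have h := @index_stabilizer_of_transitive G (Fin 4 ↪ α) _ _ y hG4
    rw [Nat.card_eq_fintype_card, Fintype.card_embedding_eq, hc.card, Fintype.card_fin,
      show (11 : ℕ).descFactorial 4 = 7920 from rfl] at h
    have hmul := (stabilizer G y).card_mul_index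
    rw [h, h2, hR4] at hmul
    omega
  have : Nontrivial (stabilizer G x) := Finite.one_lt_card_iff_nontrivial.mp (by rw [hst2]; norm_num)
  obtain ⟨⟨t, htx⟩, ht1'⟩ := exists_ne (1 : stabilizer G x)
  have ht1 : t ≠ 1 := fun h => ht1' (Subtype.ext h)
  have htA : (t : Equiv.Perm α) ∉ alternatingGroup α := by
    intro hA
    refine ht1 ?_
    have hmem : (⟨t, t.2, hA⟩ : R) ∈ stabilizer R x := by
      rw [mem_stabilizer_iff] at htx ⊢
      exact htx
    rw [hRstab x, mem_bot] at hmem
    exact Subtype.ext (congrArg (fun z : R => (z : Equiv.Perm α)) hmem)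
  have : Fact (Nat.Prime 2) := ⟨Nat.prime_two⟩
  have ht2 : t * t = 1 := by
    have := congrArg Subtype.val (pow_card_eq_one' (x := (⟨t, htx⟩ : stabilizer G x)))
    rw [hst2, pow_two] at this
    exact this
  have hord : orderOf (t : Equiv.Perm α) = 2 :=
    orderOf_eq_prime (by rw [pow_two]; exact congrArg Subtype.val ht2) (fun h => ht1 (Subtype.ext h))
  obtain ⟨k, hk⟩ := Equiv.Perm.cycleType_prime_order (σ := (t : Equiv.Perm α))
    (by rw [hord]; exact Nat.prime_two)
  have hs : (t : Equiv.Perm α).support.card = 2 * (k + 1) := by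
    rw [← Equiv.Perm.sum_cycleType, hk, Multiset.sum_replicate, hord, smul_eq_mul, mul_comm]
  have hxs : ∀ i, x i ∉ (t : Equiv.Perm α).support := fun i => by
    rw [Equiv.Perm.notMem_support]
    exact congrArg (fun f : Fin 4 ↪ α => f i) htx
  have hle7 : (t : Equiv.Perm α).support.card ≤ 7 := by
    have hsub : (t : Equiv.Perm α).support ⊆ (Finset.univ.map x)ᶜ := by
      intro y hy
      simp only [Finset.mem_compl, Finset.mem_map, Finset.mem_univ, true_and, not_exists]
      exact fun i hi => hxs i (hi ▸ hy)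
    have := Finset.card_le_card hsub
    rwa [Finset.card_compl, Finset.card_map, Finset.card_univ, Fintype.card_fin, hc.card] at this
  have hne4 := DoubleSwap.support_ne_four hc.two hc.prim hc.card hc.proper t.2
    (congrArg Subtype.val ht2)
  have hk' : k = 0 ∨ k = 2 := by omega
  rcases hk' with rfl | rfl
  · have hswap : Equiv.Perm.IsSwap (t : Equiv.Perm α) := Equiv.Perm.card_support_eq_two.mp hs
    exact hc.proper (by
      rw [Equiv.Perm.subgroup_eq_top_of_isPreprimitive_of_isSwap_mem hc.prim _ hswap t.2]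
      exact le_top)
  -- three transpositions
  set F := ((t : Equiv.Perm α).support)ᶜ with hF
  have hF5 : F.card = 5 := by rw [hF, Finset.card_compl, hc.card, hs]
  have ht_inv : ∀ y, (t : Equiv.Perm α) ((t : Equiv.Perm α) y) = y := fun y =>
    congrArg (fun z : G => (z : Equiv.Perm α) y) ht2
  set C := centralizer ({t} : Set G) with hC
  have hCF : ∀ g ∈ C, ∀ y ∈ F, g • y ∈ F := by
    intro g hg y hy
    rw [hF, Finset.mem_compl, Equiv.Perm.notMem_support] at hy ⊢
    have hcomm := mem_centralizer_singleton_iff.mp hg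
    calc (t : Equiv.Perm α) (g • y) = (t * g) • y := (mul_smul t g y).symm
      _ = (g * t) • y := by rw [hcomm]
      _ = g • y := by rw [mul_smul]; exact congrArg (g • ·) hy
  have hx0 : x 0 ∈ F := by rw [hF, Finset.mem_compl]; exact hxs 0
  have horb : ∀ y ∈ F, ∃ g ∈ C, g • x 0 = y := by
    intro y hy
    have hlt : 3 ≤ (F.erase y).card := by rw [Finset.card_erase_of_mem hy, hF5]; norm_num
    obtain ⟨w⟩ : Nonempty (Fin 3 ↪ {z // z ∈ F.erase y}) :=
      Function.Embedding.nonempty_of_card_le (by rw [Fintype.card_fin, Fintype.card_coe]; exact hlt)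
    let z : Fin 4 ↪ α := ⟨![y, w 0, w 1, w 2], by
      have ne : ∀ i, ((w i : {z // z ∈ F.erase y}) : α) ≠ y := fun i => Finset.ne_of_mem_erase (w i).2
      have inj : ∀ i j, i ≠ j → ((w i : {z // z ∈ F.erase y}) : α) ≠ w j := fun i j h he =>
        h (w.injective (Subtype.ext he))
      intro i j
      fin_cases i <;> fin_cases j <;>
        simp [ne 0, ne 1, ne 2, Ne.symm (ne 0), Ne.symm (ne 1), Ne.symm (ne 2), inj 0 1 (by decide),
          inj 0 2 (by decide), inj 1 2 (by decide), inj 1 0 (by decide), inj 2 0 (by decide),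
          inj 2 1 (by decide)]⟩
    have hzF : ∀ i, z i ∈ F := by
      intro i
      fin_cases i
      · exact hy
      all_goals exact Finset.mem_of_mem_erase (Subtype.prop _)
    obtain ⟨g, hg⟩ := (isMultiplyPretransitive_iff.mp hG4) x z
    have hmem : (⟨g⁻¹ * t * g, by
        rw [mem_stabilizer_iff]
        refine Function.Embedding.ext fun i => ?_
        have hgi : g • x i = z i := congrArg (fun f : Fin 4 ↪ α => f i) hg
        show (g⁻¹ * t * g) • x i = x i
        rw [mul_smul, mul_smul, hgi]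
        have : t • z i = z i := by
          have := hzF i
          rw [hF, Finset.mem_compl, Equiv.Perm.notMem_support] at this
          exact this
        rw [this, ← hgi, inv_smul_smul]⟩ : stabilizer G x) ≠ 1 := by
      intro h
      have h' : g⁻¹ * t * g = 1 := congrArg Subtype.val h
      refine ht1 ?_
      calc t = g * (g⁻¹ * t * g) * g⁻¹ := by group
        _ = 1 := by rw [h']; group
    have huniq : g⁻¹ * t * g = t := by
      obtain ⟨s, -, hs'⟩ := (Nat.card_eq_two_iff' (1 : stabilizer G x)).mp (hst2 x)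
      exact congrArg Subtype.val ((hs' _ hmem).trans (hs' ⟨t, htx⟩ ht1').symm)
    refine ⟨g, mem_centralizer_singleton_iff.mpr ?_, ?_⟩
    · calc g * t = g * (g⁻¹ * t * g) := by rw [huniq]
        _ = t * g := by group
    · have := congrArg (fun f : Fin 4 ↪ α => f 0) hg
      exact this
  have h5 : 5 ∣ Nat.card C := by
    have hO : MulAction.orbit C (x 0) = (F : Set α) := by
      ext y
      constructor
      · rintro ⟨g, rfl⟩; exact hCF g g.2 _ hx0
      · intro hy
        obtain ⟨g, hg, rfl⟩ := horb y hy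
        exact ⟨⟨g, hg⟩, rfl⟩
    have hi := index_stabilizer C (x 0)
    rw [hO, Set.ncard_coe_finset, hF5] at hi
    exact hi ▸ Subgroup.index_dvd_card _
  have : Fact (Nat.Prime 5) := ⟨by norm_num⟩
  obtain ⟨⟨y, hyC⟩, hy5⟩ := exists_prime_orderOf_dvd_card' 5 h5
  rw [Subgroup.orderOf_mk] at hy5
  have hy5' : orderOf (y : Equiv.Perm α) = 5 := by rw [Subgroup.orderOf_coe, hy5]
  have hsupp : (y : Equiv.Perm α).support ⊆ F := by
    intro w hw
    rw [hF, Finset.mem_compl]
    intro hwt
    rw [Equiv.Perm.mem_support] at hw hwt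
    set Z : Subgroup G := zpowers y with hZ
    have hZc : Nat.card Z = 5 := by rw [hZ, Nat.card_zpowers, hy5]
    have hcommZ : ∀ g : Z, t * (g : G) = (g : G) * t := by
      intro g
      have : (g : G) ∈ C := zpowers_le.mpr hyC g.2
      exact (mem_centralizer_singleton_iff.mp this).symm
    have hO5 : (MulAction.orbit Z w).ncard = 5 := by
      rw [← index_stabilizer]
      have hd := (stabilizer Z w).index_dvd_card
      rw [hZc] at hd
      rcases (Nat.dvd_prime (by norm_num)).mp hd with h | h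
      · exfalso
        rw [index_eq_one] at h
        have : (⟨y, mem_zpowers y⟩ : Z) ∈ stabilizer Z w := h ▸ mem_top _
        exact hw this
      · exact h
    have hOsub : MulAction.orbit Z w ⊆ ((t : Equiv.Perm α).support : Set α) := by
      rintro _ ⟨g, rfl⟩
      rw [Finset.mem_coe, Equiv.Perm.mem_support]
      intro h
      refine hwt (smul_left_cancel (g : G) ?_)
      calc (g : G) • ((t : Equiv.Perm α) w) = ((g : G) * t) • w := (mul_smul (g : G) t w).symm
        _ = (t * (g : G)) • w := by rw [hcommZ g]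
        _ = (g : G) • w := by rw [mul_smul]; exact h
    by_cases htw : (t : Equiv.Perm α) w ∈ MulAction.orbit Z w
    · obtain ⟨g, hg⟩ := htw
      have hg' : (g : G) • w = (t : Equiv.Perm α) w := hg
      have hgg : (g * g : Z) • w = w := by
        show ((g : G) * (g : G)) • w = w
        rw [mul_smul, hg', show (g : G) • ((t : Equiv.Perm α) w) = ((g : G) * t) • w from
          (mul_smul (g : G) t w).symm, ← hcommZ g, mul_smul, hg']
        exact ht_inv w
      have h5g : g ^ 5 = 1 := by rw [← hZc]; exact pow_card_eq_one'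
      have : g • w = w := by
        have e : g = (g * g) * (g * g) * (g * g) := by
          rw [show (g * g) * (g * g) * (g * g) = g ^ 5 * g by
            simp [pow_succ, mul_assoc], h5g, one_mul]
        rw [e, mul_smul, mul_smul, hgg, hgg, hgg]
      exact hwt (hg'.symm.trans this)
    · set O' := (fun z => (t : Equiv.Perm α) z) '' MulAction.orbit Z w with hO'
      have hdis : Disjoint (MulAction.orbit Z w) O' := by
        rw [Set.disjoint_left]
        rintro _ ⟨g, rfl⟩ ⟨_, ⟨g', rfl⟩, h⟩
        refine htw ⟨g'⁻¹ * g, ?_⟩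
        have h' : (t * (g' : G)) • w = (g : G) • w := by rw [mul_smul]; exact h
        show (g'⁻¹ * g) • w = (t : Equiv.Perm α) w
        rw [mul_smul, show (g • w : α) = (g : G) • w from rfl, ← h', hcommZ g', mul_smul]
        exact inv_smul_smul g' _
      have hsub : MulAction.orbit Z w ∪ O' ⊆ ((t : Equiv.Perm α).support : Set α) := by
        refine Set.union_subset hOsub ?_
        rintro _ ⟨z, hz, rfl⟩
        exact Equiv.Perm.apply_mem_support.mpr (hOsub hz)
      have := Set.ncard_le_ncard hsub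
      rw [Set.ncard_union_eq hdis, hO', Set.ncard_image_of_injective _ (Equiv.injective _), hO5,
        Set.ncard_coe_finset, hs] at this
      omega
  exact hc.not_small_order y.2 (q := 5) (by norm_num) (by norm_num) hy5'
    (by have := Finset.card_le_card hsupp; omega)

theorem Ctx.simple_660 (hG : Nat.card G = 660) : IsSimpleGroup G := by
  have : Fact (Nat.Prime 11) := ⟨by norm_num⟩
  have := hc.trans
  have : Nontrivial G := Finite.one_lt_card_iff_nontrivial.mp (by omega)
  refine ⟨fun K hK => or_iff_not_imp_left.mpr fun hne => ?_⟩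
  have := transitive_of_normal hc.card G K hne
  set K' := K.map G.subtype with hK'
  have hcardK : Nat.card K' = Nat.card K :=
    Nat.card_congr (K.equivMapOfInjective G.subtype G.subtype_injective).toEquiv.symm
  have hK't : IsPretransitive K' α := by
    constructor
    intro x y
    obtain ⟨k, hk⟩ := exists_smul_eq K x y
    exact ⟨⟨((k : G) : Equiv.Perm α), (k : G), k.2, rfl⟩, hk⟩
  obtain ⟨Q⟩ : Nonempty (Sylow 11 K') := inferInstance
  obtain ⟨c, hc10, hN, hKc, hm⟩ := sylow_data (p := 11) hc.card K' Q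
  set m := Nat.card (Sylow 11 K') with hmdef
  have hdvd : Nat.card K' ∣ 660 := by rw [hcardK, ← hG]; exact Subgroup.card_subgroup_dvd_card K
  have hm1 : m ≠ 1 := by
    intro h
    rw [hmdef, Q.card_eq_index_normalizer, index_eq_one] at h
    have h' := normalizer_eq_top_iff.mp h
    let eK := K.equivMapOfInjective G.subtype G.subtype_injective
    set Qn := (Q : Subgroup K').map eK.symm.toMonoidHom with hQn
    have hn' : Qn.Normal := h'.map _ eK.symm.surjective
    have hQ : Nat.card Qn = 11 := by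
      rw [hQn, Subgroup.card_map_of_injective eK.symm.injective, card_sylow_eq hc.card K' Q]
    obtain ⟨S, hS⟩ := (IsPGroup.of_card (p := 11) (n := 1) (G := Qn)
      (by rw [hQ, pow_one])).exists_le_sylow
    have hS11 : Nat.card (S : Subgroup K) = 11 := by
      have h1 := card_sylow_eq hc.card K' Q
      rw [Q.card_eq_multiplicity, hcardK] at h1
      rw [S.card_eq_multiplicity, h1]
    have hSeq : Qn = (S : Subgroup K) := Subgroup.eq_of_le_of_card_ge hS (by rw [hS11, hQ])
    have := S.characteristic_of_normal (hSeq ▸ hn')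
    have hPn : ((S : Subgroup K).map K.subtype).Normal := inferInstance
    obtain ⟨P', hP'⟩ := (S.2.map K.subtype).exists_le_sylow
    have he : (S : Subgroup K).map K.subtype = (P' : Subgroup G) :=
      Subgroup.eq_of_le_of_card_ge hP' (by
        rw [card_sylow_eq hc.card G P', Subgroup.card_map_of_injective K.subtype_injective, hS11])
    refine hc.insol (solvable_of_card_sylow_eq_one hc.card G P' ?_)
    rw [P'.card_eq_index_normalizer, index_eq_one]
    exact normalizer_eq_top_iff.mpr (he ▸ hPn)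
  have hc1 : c ≠ 1 := fun h => hm1 (by
    have h11 := card_eq_of_self_normalizing hc.card K' Q (by rw [hN, h, mul_one])
    rw [hKc, h, mul_one] at h11
    omega)
  have hcm : c * m ∣ 60 := Nat.dvd_of_mul_dvd_mul_left (show 0 < 11 by norm_num)
    (by rw [← mul_assoc, ← hKc]; exact hdvd)
  have hmle := Nat.le_of_dvd (by norm_num) ((dvd_mul_left m c).trans hcm)
  unfold Nat.ModEq at hm
  have hm12 : m = 12 := by
    have hmm : m = 1 ∨ m = 12 ∨ m = 23 ∨ m = 34 ∨ m = 45 ∨ m = 56 := by omega
    have hmd := (dvd_mul_left m c).trans hcm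
    rcases hmm with h | h | h | h | h | h
    · exact absurd h hm1
    · exact h
    all_goals exact absurd (h ▸ hmd) (by norm_num)
  rw [hm12] at hcm hKc
  have hc5 : c = 5 := by
    have h := Nat.dvd_of_mul_dvd_mul_right (show 0 < 12 by norm_num) (show c * 12 ∣ 5 * 12 from hcm)
    exact ((Nat.dvd_prime (by norm_num)).mp h).resolve_left hc1
  exact Subgroup.eq_top_of_card_eq K (by rw [hG, ← hcardK, hKc, hc5])

theorem Ctx.classification : (IsMultiplyPretransitive G α 4 ∧ ∀ x : Fin 4 ↪ α, stabilizer G x = ⊥) ∨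
    Nonempty (G ≃* Matrix.ProjectiveSpecialLinearGroup (Fin 2) (ZMod 11)) := by
  have hle := hc.le_alternating
  rcases hc.card_even hle with h | h | h
  · right
    have := hc.simple_660 h
    have : Fact (Nat.Prime 11) := ⟨by norm_num⟩
    exact Cfsg.Agent.S0498.result 11 (Or.inl rfl) (by rw [h]; norm_num) (ZMod.card 11)
  · exact Or.inl (hc.four_transitive hle h)
  · exact absurd h (hc.not_m12 hle)

end CfsgLib.PermGroup.Eleven
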