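import Cfsg.Agent.Lib.PermGroup.Basic
import Mathlib.GroupTheory.Perm.Basic
import Mathlib.GroupTheory.GroupAction.Quotient
import Mathlib.GroupTheory.Subgroup.Centralizer
import Mathlib.Data.Fintype.Perm

/-! The centralizer in the symmetric group of a transitive group. -/

open MulAction

namespace CfsgLib.PermGroup

variable {α : Type*}

theorem centralizer_apply {G : Subgroup (Equiv.Perm α)} {c : Equiv.Perm α}
    (hc : c ∈ Subgroup.centralizer (G : Set (Equiv.Perm α))) (g : G) (x : α) :
    c (g • x) = g • c x := by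
  have h := Subgroup.mem_centralizer_iff.mp hc g g.2
  exact (congrArg (fun f : Equiv.Perm α => f x) h).symm

/-- The centralizer of a transitive group is semiregular. -/
theorem centralizer_eq_of_apply_eq {G : Subgroup (Equiv.Perm α)} [IsPretransitive G α]
    {c d : Equiv.Perm α} (hc : c ∈ Subgroup.centralizer (G : Set (Equiv.Perm α)))
    (hd : d ∈ Subgroup.centralizer (G : Set (Equiv.Perm α))) {a : α} (h : c a = d a) : c = d := by
  refine Equiv.ext fun y => ?_
  obtain ⟨g, rfl⟩ := exists_smul_eq G a y
  rw [centralizer_apply hc, centralizer_apply hd, h]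

/-- Two points with the same stabilizer are joined by the centralizer. -/
theorem exists_centralizer_apply {G : Subgroup (Equiv.Perm α)} [IsPretransitive G α]
    {a b : α} (h : stabilizer G a = stabilizer G b) :
    ∃ c ∈ Subgroup.centralizer (G : Set (Equiv.Perm α)), c a = b := by
  classical
  choose s hs using exists_smul_eq G a
  have key : ∀ {a' b' : α}, stabilizer G a' = stabilizer G b' → ∀ g g' : G,
      g • a' = g' • a' → g • b' = g' • b' := by
    intro a' b' h' g g' hg
    have h1 : g'⁻¹ * g ∈ stabilizer G a' := by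
      rw [mem_stabilizer_iff, mul_smul, hg, inv_smul_smul]
    rw [h', mem_stabilizer_iff, mul_smul, inv_smul_eq_iff] at h1
    exact h1
  have hval : ∀ g : G, s (g • a) • b = g • b := fun g => key h _ _ (hs _)
  let f : α → α := fun y => s y • b
  have hfi : Function.Injective f := by
    intro y z hyz
    have := key h.symm _ _ hyz
    rwa [hs, hs] at this
  have hfs : Function.Surjective f := by
    intro y
    obtain ⟨g, hg⟩ := exists_smul_eq G b y
    exact ⟨g • a, by simp only [f, hval, hg]⟩
  refine ⟨Equiv.ofBijective f ⟨hfi, hfs⟩, ?_, ?_⟩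
  · rw [Subgroup.mem_centralizer_iff]
    intro g hg
    refine Equiv.ext fun y => ?_
    show g (f y) = f (g y)
    obtain ⟨u, rfl⟩ := exists_smul_eq G a y
    show (⟨g, hg⟩ : G) • f (u • a) = f ((⟨g, hg⟩ : G) • u • a)
    simp only [f, ← mul_smul]
    rw [mul_smul, hval, hval, mul_smul]
  · show f a = b
    simp only [f]
    have := hval 1
    rwa [one_smul, one_smul] at this

theorem stabilizer_apply_centralizer {G : Subgroup (Equiv.Perm α)} {c : Equiv.Perm α}
    (hc : c ∈ Subgroup.centralizer (G : Set (Equiv.Perm α))) (a : α) :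
    stabilizer G (c a) = stabilizer G a := by
  ext g
  rw [mem_stabilizer_iff, mem_stabilizer_iff, ← centralizer_apply hc, c.apply_eq_iff_eq]

/-- The centralizer of a transitive group is transitive iff the group is semiregular. -/
theorem centralizer_transitive_iff {G : Subgroup (Equiv.Perm α)} [IsPretransitive G α] :
    IsPretransitive (Subgroup.centralizer (G : Set (Equiv.Perm α))) α ↔
      ∀ a : α, stabilizer G a = ⊥ := by
  constructor
  · intro _ a
    rw [eq_bot_iff]
    intro g hg
    rw [Subgroup.mem_bot]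
    refine Subtype.ext (Equiv.ext fun y => ?_)
    obtain ⟨⟨c, hc⟩, rfl⟩ := exists_smul_eq (Subgroup.centralizer (G : Set (Equiv.Perm α))) a y
    show g • c a = c a
    rw [← stabilizer_apply_centralizer hc a] at hg
    exact hg
  · intro h
    refine ⟨fun a b => ?_⟩
    obtain ⟨c, hc, hcab⟩ := exists_centralizer_apply (a := a) (b := b) (G := G) (by rw [h, h])
    exact ⟨⟨c, hc⟩, hcab⟩

/-- A subgroup containing a transitive subgroup and acting semiregularly equals it. -/
theorem eq_of_semiregular_of_transitive {C T : Subgroup (Equiv.Perm α)} (hle : T ≤ C)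
    [IsPretransitive T α] (hC : ∀ c ∈ C, ∀ x : α, c x = x → c = 1) [Nonempty α] : C = T := by
  refine le_antisymm (fun c hc => ?_) hle
  obtain ⟨a⟩ := ‹Nonempty α›
  obtain ⟨⟨t, ht⟩, hta : t a = c a⟩ := exists_smul_eq T a (c a)
  have : t⁻¹ * c = 1 := hC _ (C.mul_mem (C.inv_mem (hle ht)) hc) a (by
    show t⁻¹ (c a) = a
    rw [← hta, Equiv.Perm.inv_def, Equiv.symm_apply_apply])
  rwa [← inv_mul_eq_one.mp this]

/-- A transitive subgroup commuting with a transitive subgroup is its whole centralizer. -/
theorem centralizer_eq_of_commute {M N : Subgroup (Equiv.Perm α)} [IsPretransitive M α]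
    [IsPretransitive N α] [Nonempty α]
    (h : N ≤ Subgroup.centralizer (M : Set (Equiv.Perm α))) :
    Subgroup.centralizer (M : Set (Equiv.Perm α)) = N ∧ ∀ a : α, stabilizer M a = ⊥ := by
  refine ⟨eq_of_semiregular_of_transitive h fun c hc x hx =>
    centralizer_eq_of_apply_eq hc (Subgroup.one_mem _) hx, centralizer_transitive_iff.mp ?_⟩
  refine ⟨fun a b => ?_⟩
  obtain ⟨⟨n, hn⟩, hnab⟩ := exists_smul_eq N a b
  exact ⟨⟨n, h hn⟩, hnab⟩

theorem isPretransitive_map {G : Subgroup (Equiv.Perm α)} (M : Subgroup G)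
    [IsPretransitive M α] : IsPretransitive (M.map G.subtype : Subgroup (Equiv.Perm α)) α := by
  refine ⟨fun a b => ?_⟩
  obtain ⟨m, hm⟩ := exists_smul_eq M a b
  exact ⟨⟨((m : G) : Equiv.Perm α), Subgroup.mem_map_of_mem _ m.2⟩, hm⟩

theorem stabilizer_eq_bot_of_map {G : Subgroup (Equiv.Perm α)} (M : Subgroup G) (a : α)
    (h : stabilizer (M.map G.subtype : Subgroup (Equiv.Perm α)) a = ⊥) :
    stabilizer M a = ⊥ := by
  rw [eq_bot_iff]
  intro m hm
  have h1 : (⟨((m : G) : Equiv.Perm α), Subgroup.mem_map_of_mem _ m.2⟩ :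
      (M.map G.subtype : Subgroup (Equiv.Perm α))) ∈ stabilizer _ a := hm
  rw [h, Subgroup.mem_bot] at h1
  rw [Subgroup.mem_bot]
  exact Subtype.ext (Subtype.ext (congrArg Subtype.val h1 :))

/-- Two normal subgroups with trivial intersection commute. -/
theorem map_le_centralizer {G : Subgroup (Equiv.Perm α)} (M N : Subgroup G) [M.Normal] [N.Normal]
    (h : Disjoint M N) : N.map G.subtype ≤
      Subgroup.centralizer ((M.map G.subtype : Subgroup (Equiv.Perm α)) : Set (Equiv.Perm α)) := by
  rintro _ ⟨n, hn, rfl⟩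
  rw [Subgroup.mem_centralizer_iff]
  rintro _ ⟨m, hm, rfl⟩
  exact congrArg G.subtype
    (Subgroup.commute_of_normal_of_disjoint M N ‹_› ‹_› h m n hm hn)

theorem le_of_map_le_map {G : Subgroup (Equiv.Perm α)} {M N : Subgroup G}
    (h : M.map G.subtype ≤ N.map G.subtype) : M ≤ N :=
  (Subgroup.map_le_map_iff_of_injective G.subtype_injective).mp h

/-- Distinct minimal normal subgroups meet trivially. -/
theorem disjoint_of_minimal {G : Type*} [Group G] (M L : Subgroup G) [M.Normal] [L.Normal]
    (hmin : ∀ K : Subgroup G, K.Normal → K ≤ M → K = ⊥ ∨ K = M)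
    (hLmin : ∀ K : Subgroup G, K.Normal → K ≤ L → K = ⊥ ∨ K = L) (hne : L ≠ M) :
    Disjoint M L := by
  rw [disjoint_iff]
  rcases hmin (M ⊓ L) inferInstance inf_le_left with h | h
  · exact h
  · rcases hLmin M ‹_› (inf_eq_left.mp h) with h' | h'
    · rw [h', bot_inf_eq]
    · exact absurd h'.symm hne

end CfsgLib.PermGroup
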