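import Cfsg.Agent.Lib.PermGroup.PrimeSylow
import Mathlib.GroupTheory.SpecificGroups.Alternating

/-! Insoluble transitive groups of degree 7. -/

namespace CfsgLib.PermGroup

open MulAction Subgroup

variable {α : Type*} [Fintype α] [DecidableEq α]

theorem even_card_of_two_transitive (G : Subgroup (Equiv.Perm α))
    (h : IsMultiplyPretransitive G α 2) (hα : 2 ≤ Fintype.card α) : 2 ∣ Nat.card G := by
  obtain ⟨a, b, hab⟩ := Fintype.one_lt_card_iff.mp (show 1 < Fintype.card α by omega)
  obtain ⟨g, hga, hgb⟩ := is_two_pretransitive_iff.mp h hab hab.symm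
  by_contra hodd
  obtain ⟨k, hk⟩ := Nat.odd_iff.mpr (Nat.two_dvd_ne_zero.mp hodd)
  have h2 : (g * g) • a = a := by rw [mul_smul, hga, hgb]
  have h3 : ∀ m : ℕ, (g * g) ^ m • a = a := by
    intro m
    induction m with
    | zero => simp
    | succ m ih => rw [pow_succ, mul_smul, h2, ih]
  have h4 : g ^ Nat.card G • a = b := by
    rw [hk, pow_succ', pow_mul, pow_two, mul_smul, h3, hga]
  rw [pow_card_eq_one', one_smul] at h4
  exact hab h4

theorem sign_neg_seven : Equiv.Perm.sign (Equiv.neg (ZMod 7)) = -1 := by decide +kernel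

theorem sign_negation (e : ZMod 7 ≃ α) {ν : Equiv.Perm α} (h : ∀ j, ν (e j) = e (-j)) :
    Equiv.Perm.sign ν = -1 := by
  have : ν = e.permCongr (Equiv.neg (ZMod 7)) := Equiv.ext fun x => by
    obtain ⟨j, rfl⟩ := e.surjective x
    rw [h, Equiv.permCongr_apply, e.symm_apply_apply]
    rfl
  rw [this, Equiv.Perm.sign_permCongr, sign_neg_seven]

theorem degree_seven (hα : Fintype.card α = 7) (G : Subgroup (Equiv.Perm α))
    [IsPretransitive G α] (hG : ¬ Group.IsSolvable G) (hA : ¬ alternatingGroup α ≤ G) :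
    Nat.card G = 168 ∧ IsSimpleGroup G := by
  have : Fact (Nat.Prime 7) := ⟨by norm_num⟩
  have : Nontrivial α := Fintype.one_lt_card_iff_nontrivial.mp (by omega)
  obtain ⟨e, σ, hσ, hstep⟩ := exists_step (p := 7) hα G
  set R := G ⊓ alternatingGroup α with hR
  have hσ7 : σ ^ 7 = 1 := by
    refine Equiv.ext fun x => ?_
    obtain ⟨j, rfl⟩ := e.surjective x
    have hpow : ∀ k : ℕ, (σ ^ k) (e j) = e (j + k) := by
      intro k
      induction k with
      | zero => simp
      | succ k ih => rw [pow_succ', Equiv.Perm.mul_apply, ih, hstep]; push_cast; ring_nf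
    rw [hpow, show ((7 : ℕ) : ZMod 7) = 0 from rfl, add_zero]; rfl
  have hσR : σ ∈ R := by
    refine ⟨hσ, Equiv.Perm.mem_alternatingGroup.mpr ?_⟩
    have := congrArg Equiv.Perm.sign hσ7
    rw [map_pow, map_one] at this
    rcases Int.units_eq_one_or (Equiv.Perm.sign σ) with h | h
    · exact h
    · rw [h] at this; exact absurd this (by decide)
  have : IsPretransitive R α := by
    have hbase : ∀ x, ∃ g : R, g • e 0 = x := by
      intro x
      obtain ⟨j, rfl⟩ := e.surjective x
      refine ⟨⟨σ, hσR⟩ ^ j.val, ?_⟩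
      have hpow : ∀ k : ℕ, (σ ^ k) (e 0) = e k := by
        intro k
        induction k with
        | zero => simp
        | succ k ih => rw [pow_succ', Equiv.Perm.mul_apply, ih, hstep]; push_cast; rfl
      show (σ ^ j.val) (e 0) = e j
      rw [hpow, ZMod.natCast_zmod_val]
    constructor
    intro x y
    obtain ⟨g, rfl⟩ := hbase x
    obtain ⟨k, rfl⟩ := hbase y
    exact ⟨k * g⁻¹, by rw [mul_smul, inv_smul_smul]⟩
  have hRG : R ≤ G := inf_le_left
  have hRns : ¬ Group.IsSolvable R := by
    intro hs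
    refine hG (Group.isSolvable_of_ker_le_range (inclusion hRG)
      (Equiv.Perm.sign.comp G.subtype) fun g hg => ?_)
    exact ⟨⟨g, g.2, hg⟩, rfl⟩
  have hAcard : Nat.card (alternatingGroup α) = 2520 := by
    rw [nat_card_alternatingGroup, Nat.card_eq_fintype_card, hα]; rfl
  obtain ⟨P⟩ : Nonempty (Sylow 7 R) := inferInstance
  obtain ⟨d, hd, hN, hRc, hn1⟩ := sylow_data hα R P
  set n := Nat.card (Sylow 7 R) with hn
  have hdvd : Nat.card R ∣ 2520 := hAcard ▸ Subgroup.card_dvd_of_le inf_le_right
  have hdodd : ¬ 2 ∣ d := by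
    intro h2
    obtain ⟨e', -, ν, hν, hν'⟩ := exists_negation hα (by norm_num) R P
      (even_iff_two_dvd.mpr (hN ▸ h2.mul_left 7))
    have h := Equiv.Perm.mem_alternatingGroup.mp (show ν ∈ alternatingGroup α from hν.2)
    rw [sign_negation e' hν'] at h
    exact absurd h (by decide)
  have hd1 : d ≠ 1 := by
    intro h
    have hc := card_eq_of_self_normalizing hα R P (by rw [hN, h, mul_one])
    have := isCyclic_of_prime_card hc
    exact hRns (Group.isSolvable_of_comm fun a b =>
      (IsCyclic.isMulCommutative (α := R)).is_comm.comm a b)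
  have hd3 : d = 3 := by
    have := Nat.le_of_dvd (by norm_num) hd
    interval_cases d <;> simp_all
  subst hd3
  have hn120 : n ∣ 120 := Nat.dvd_of_mul_dvd_mul_left (show 0 < 21 by norm_num) (by
    rw [hRc] at hdvd; exact hdvd)
  have hne : n ≠ 1 := fun h => hRns (solvable_of_card_sylow_eq_one hα R P h)
  have heven : 2 ∣ Nat.card R := even_card_of_two_transitive R
    (two_transitive_of_insoluble hα R hRns) (by omega)
  have hn8 : n = 8 := by
    have := Nat.le_of_dvd (by norm_num) hn120
    unfold Nat.ModEq at hn1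
    rw [hRc] at heven
    have hne120 : n ≠ 120 := by
      intro h
      apply hA
      have he : R = alternatingGroup α := Subgroup.eq_of_le_of_card_ge inf_le_right
        (by rw [hAcard, hRc, h])
      exact he ▸ hRG
    have hnn : n = 1 ∨ n = 8 ∨ n = 15 ∨ n = 22 ∨ n = 29 ∨ n = 36 ∨ n = 43 ∨ n = 50 ∨ n = 57 ∨
      n = 64 ∨ n = 71 ∨ n = 78 ∨ n = 85 ∨ n = 92 ∨ n = 99 ∨ n = 106 ∨ n = 113 ∨ n = 120 := by omega
    rcases hnn with h | h | h | h | h | h | h | h | h | h | h | h | h | h | h | h | h | h <;>
      rw [h] at hn120 heven hne hne120 ⊢ <;> norm_num at *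
  have hR168 : Nat.card R = 168 := by rw [hRc, hn8]
  have hGR : Nat.card G = 168 ∨ Nat.card G = 336 := by
    have h1 := (R.subgroupOf G).card_mul_index
    rw [Nat.card_congr (subgroupOfEquivOfLe hRG).toEquiv, hR168] at h1
    have h2 : (R.subgroupOf G).index ∣ 2 := by
      have hk : (Equiv.Perm.sign.comp G.subtype).ker = R.subgroupOf G := by
        ext g
        simp [hR, mem_subgroupOf, Equiv.Perm.mem_alternatingGroup]
      rw [← hk, index_ker]
      refine (Subgroup.card_subgroup_dvd_card _).trans ?_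
      rw [Nat.card_eq_fintype_card, Fintype.card_units_int]
    rcases (Nat.dvd_prime Nat.prime_two).mp h2 with h | h <;> rw [h] at h1 <;> omega
  have hG168 : Nat.card G = 168 := by
    refine hGR.resolve_right fun h336 => ?_
    obtain ⟨Q⟩ : Nonempty (Sylow 7 G) := inferInstance
    obtain ⟨c, hc, hNc, hGc, hm1⟩ := sylow_data hα G Q
    have hm : Nat.card (Sylow 7 G) ≠ 1 := fun h => hG (solvable_of_card_sylow_eq_one hα G Q h)
    set m := Nat.card (Sylow 7 G) with hmdef
    unfold Nat.ModEq at hm1
    rw [h336] at hGc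
    have hc6 : c = 6 := by
      have := Nat.le_of_dvd (by norm_num) hc
      have hc' : c = 0 ∨ c = 1 ∨ c = 2 ∨ c = 3 ∨ c = 4 ∨ c = 5 ∨ c = 6 := by omega
      rcases hc' with rfl | rfl | rfl | rfl | rfl | rfl | rfl <;> omega
    have h3 := three_transitive_of_even hα G hG Q
      (even_iff_two_dvd.mpr (by rw [hNc, hc6]; norm_num))
    obtain ⟨t⟩ : Nonempty (Fin 3 ↪ α) :=
      Function.Embedding.nonempty_of_card_le (by rw [Fintype.card_fin, hα]; norm_num)
    have h210 := @index_stabilizer_of_transitive G (Fin 3 ↪ α) _ _ t h3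
    have hdiv : Nat.card (Fin 3 ↪ α) ∣ Nat.card G := h210 ▸ Subgroup.index_dvd_card _
    rw [Nat.card_eq_fintype_card, Fintype.card_embedding_eq, hα, Fintype.card_fin, h336] at hdiv
    exact absurd hdiv (by decide)
  refine ⟨hG168, ?_⟩
  have : Nontrivial G := Finite.one_lt_card_iff_nontrivial.mp (by omega)
  refine ⟨fun K hK => or_iff_not_imp_left.mpr fun hne' => ?_⟩
  have := transitive_of_normal hα G K hne'
  set K' := K.map G.subtype with hK'
  have : IsPretransitive K' α := by
    constructor
    intro x y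
    obtain ⟨k, hk⟩ := exists_smul_eq K x y
    exact ⟨⟨((k : G) : Equiv.Perm α), (k : G), k.2, rfl⟩, hk⟩
  have hcardK : Nat.card K' = Nat.card K :=
    Nat.card_congr (K.equivMapOfInjective G.subtype G.subtype_injective).toEquiv.symm
  obtain ⟨Q⟩ : Nonempty (Sylow 7 K') := inferInstance
  obtain ⟨c, hc, hNc, hKc, hm1⟩ := sylow_data hα K' Q
  have hdvd168 : Nat.card K' ∣ 168 := by
    rw [hcardK, ← hG168]; exact Subgroup.card_subgroup_dvd_card K
  have hm : Nat.card (Sylow 7 K') ≠ 1 := by
    intro h
    apply hG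
    rw [Q.card_eq_index_normalizer, index_eq_one] at h
    replace h := normalizer_eq_top_iff.mp h
    let eK := K.equivMapOfInjective G.subtype G.subtype_injective
    set Qn := (Q : Subgroup K').map eK.symm.toMonoidHom with hQn
    have hn' : Qn.Normal := h.map _ eK.symm.surjective
    have hQ7 : Nat.card Qn = 7 := by
      rw [hQn, Subgroup.card_map_of_injective eK.symm.injective, card_sylow_eq hα K' Q]
    obtain ⟨S, hS⟩ := (IsPGroup.of_card (p := 7) (n := 1) (G := Qn)
      (by rw [hQ7, pow_one])).exists_le_sylow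
    have hS7 : Nat.card (S : Subgroup K) = 7 := by
      have h1 := card_sylow_eq hα K' Q
      rw [Q.card_eq_multiplicity, hcardK] at h1
      rw [S.card_eq_multiplicity, h1]
    have hSeq : Qn = (S : Subgroup K) := Subgroup.eq_of_le_of_card_ge hS (by rw [hS7, hQ7])
    have := S.characteristic_of_normal (hSeq ▸ hn')
    have hPn : ((S : Subgroup K).map K.subtype).Normal := inferInstance
    have hp7 : IsPGroup 7 ((S : Subgroup K).map K.subtype) := S.2.map _
    obtain ⟨P', hP'⟩ := hp7.exists_le_sylow
    have he : (S : Subgroup K).map K.subtype = (P' : Subgroup G) :=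
      Subgroup.eq_of_le_of_card_ge hP' (by
        rw [card_sylow_eq hα G P', Subgroup.card_map_of_injective K.subtype_injective, hS7])
    refine solvable_of_card_sylow_eq_one hα G P' ?_
    rw [P'.card_eq_index_normalizer, index_eq_one]
    exact normalizer_eq_top_iff.mpr (he ▸ hPn)
  set m := Nat.card (Sylow 7 K') with hmdef
  have hm24 : c * m ∣ 24 := Nat.dvd_of_mul_dvd_mul_left (show 0 < 7 by norm_num)
    (by rw [← mul_assoc, ← hKc]; exact hdvd168)
  have hc1 : c ≠ 1 := by
    intro h
    have h7 := card_eq_of_self_normalizing hα K' Q (by rw [hNc, h, mul_one])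
    rw [hKc, h, mul_one] at h7
    exact hm (by omega)
  have hm8 : m = 8 := by
    have := Nat.le_of_dvd (by norm_num) ((dvd_mul_left m c).trans hm24)
    unfold Nat.ModEq at hm1
    have hmm : m = 1 ∨ m = 8 ∨ m = 15 ∨ m = 22 := by omega
    rcases hmm with h | h | h | h
    · exact absurd h hm
    · exact h
    all_goals
      rw [h] at hm24
      exact absurd ((dvd_mul_left _ c).trans hm24) (by norm_num)
  rw [hm8] at hKc hm24
  have hc3 : c = 3 := by
    have h := Nat.dvd_of_mul_dvd_mul_right (show 0 < 8 by norm_num) (show c * 8 ∣ 3 * 8 from hm24)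
    rcases (Nat.dvd_prime Nat.prime_three).mp h with h | h
    · exact absurd h hc1
    · exact h
  exact Subgroup.eq_top_of_card_eq K (by rw [hG168, ← hcardK, hKc, hc3])

end CfsgLib.PermGroup
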