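import Mathlib.Data.Fintype.Basic
import Mathlib.Data.List.FinRange
import Mathlib.Data.Fintype.Pi

/-! Certificate: no primitive proper group of degree 11 contains a double transposition. The
states are the small groups generated by double transpositions swapping chosen pairs. -/

set_option autoImplicit false
set_option maxRecDepth 10000

namespace CfsgLib.PermGroup.DoubleSwap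

/-- Maps of the points. -/
abbrev Pt := Fin 11 → Fin 11

/-- The map exchanging `p, q` and `i, j`. -/
def sw2 (p q i j : Fin 11) : Pt := fun x =>
  if x = p then q else if x = q then p else if x = i then j else if x = j then i else x

/-- A list as a map. -/
def ofList (l : List (Fin 11)) : Pt := fun x => l.getD x.val 0

/-- Value of a word. -/
def evalW (gs : List Pt) : List ℕ → Pt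
  | [] => fun x => x
  | n :: w => fun x => gs.getD n (fun y => y) (evalW gs w x)

/-- Cycles of length 3, 5 or 7. -/
def isGood (h : Pt) : Bool :=
  [3, 5, 7].any fun q => (List.finRange 11).all (fun x => h^[q] x == x) &&
    ((List.finRange 11).filter fun x => h x != x).length == q

/-- A case after adding a double transposition. -/
structure Child where
  i : Fin 11
  j : Fin 11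
  leaf : Bool
  next : ℕ
  rho : List (Fin 11)
  rhoInv : List (Fin 11)
  words : List (List ℕ)

/-- Generators of the states, by the pairs they exchange. -/
def genTable : List (List (Fin 11 × Fin 11 × Fin 11 × Fin 11)) := [
  [(0, 1, 2, 3)],
  [(0, 1, 2, 3), (0, 1, 4, 5)],
  [(0, 1, 2, 3), (4, 5, 6, 7)],
  [(0, 1, 2, 3), (0, 2, 4, 5)],
  [(0, 1, 2, 3), (0, 1, 4, 5), (0, 1, 6, 7)],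
  [(0, 1, 2, 3), (0, 1, 4, 5), (6, 7, 8, 9)],
  [(0, 1, 2, 3), (4, 5, 6, 7), (0, 8, 2, 9)],
  [(0, 1, 2, 3), (4, 5, 6, 7), (0, 8, 1, 9)],
  [(0, 1, 2, 3), (0, 2, 4, 5), (0, 4, 2, 5)],
  [(0, 1, 2, 3), (0, 1, 4, 5), (0, 1, 6, 7), (0, 8, 1, 9)],
  [(0, 1, 2, 3), (0, 2, 4, 5), (0, 4, 2, 5), (0, 6, 2, 7)],
  [(0, 1, 2, 3), (0, 2, 4, 5), (0, 4, 2, 5), (0, 6, 2, 7), (0, 8, 2, 9)]]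

/-- The pair chosen in each state. -/
def pairTable : List (Fin 11 × Fin 11) := [(4, 5), (6, 7), (0, 8), (0, 4), (0, 8), (6, 10), (4, 10), (0, 10), (0, 6), (0, 10), (0, 8), (0, 10)]

/-- The cases of each state. -/
def childTable : List (List Child) := [
  [
    ⟨0, 1, false, 1, [0, 1, 2, 3, 4, 5, 6, 7, 8, 9, 10], [0, 1, 2, 3, 4, 5, 6, 7, 8, 9, 10], [[0], [1]]⟩,
    ⟨0, 2, false, 3, [0, 1, 2, 3, 4, 5, 6, 7, 8, 9, 10], [0, 1, 2, 3, 4, 5, 6, 7, 8, 9, 10], [[0], [1]]⟩,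
    ⟨0, 3, false, 3, [0, 1, 3, 2, 4, 5, 6, 7, 8, 9, 10], [0, 1, 3, 2, 4, 5, 6, 7, 8, 9, 10], [[0], [1]]⟩,
    ⟨0, 6, true, 0, [], [], [[0, 1, 0, 1]]⟩,
    ⟨0, 7, true, 0, [], [], [[0, 1, 0, 1]]⟩,
    ⟨0, 8, true, 0, [], [], [[0, 1, 0, 1]]⟩,
    ⟨0, 9, true, 0, [], [], [[0, 1, 0, 1]]⟩,
    ⟨0, 10, true, 0, [], [], [[0, 1, 0, 1]]⟩,
    ⟨1, 2, false, 3, [0, 1, 3, 2, 4, 5, 6, 7, 8, 9, 10], [0, 1, 3, 2, 4, 5, 6, 7, 8, 9, 10], [[0], [0, 1, 0]]⟩,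
    ⟨1, 3, false, 3, [0, 1, 2, 3, 4, 5, 6, 7, 8, 9, 10], [0, 1, 2, 3, 4, 5, 6, 7, 8, 9, 10], [[0], [0, 1, 0]]⟩,
    ⟨1, 6, true, 0, [], [], [[0, 1, 0, 1]]⟩,
    ⟨1, 7, true, 0, [], [], [[0, 1, 0, 1]]⟩,
    ⟨1, 8, true, 0, [], [], [[0, 1, 0, 1]]⟩,
    ⟨1, 9, true, 0, [], [], [[0, 1, 0, 1]]⟩,
    ⟨1, 10, true, 0, [], [], [[0, 1, 0, 1]]⟩,
    ⟨2, 3, false, 1, [0, 1, 2, 3, 4, 5, 6, 7, 8, 9, 10], [0, 1, 2, 3, 4, 5, 6, 7, 8, 9, 10], [[0], [0, 1]]⟩,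
    ⟨2, 6, true, 0, [], [], [[0, 1, 0, 1]]⟩,
    ⟨2, 7, true, 0, [], [], [[0, 1, 0, 1]]⟩,
    ⟨2, 8, true, 0, [], [], [[0, 1, 0, 1]]⟩,
    ⟨2, 9, true, 0, [], [], [[0, 1, 0, 1]]⟩,
    ⟨2, 10, true, 0, [], [], [[0, 1, 0, 1]]⟩,
    ⟨3, 6, true, 0, [], [], [[0, 1, 0, 1]]⟩,
    ⟨3, 7, true, 0, [], [], [[0, 1, 0, 1]]⟩,
    ⟨3, 8, true, 0, [], [], [[0, 1, 0, 1]]⟩,
    ⟨3, 9, true, 0, [], [], [[0, 1, 0, 1]]⟩,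
    ⟨3, 10, true, 0, [], [], [[0, 1, 0, 1]]⟩,
    ⟨6, 7, false, 2, [0, 1, 2, 3, 4, 5, 6, 7, 8, 9, 10], [0, 1, 2, 3, 4, 5, 6, 7, 8, 9, 10], [[0], [1]]⟩,
    ⟨6, 8, false, 2, [0, 1, 2, 3, 4, 5, 6, 8, 7, 9, 10], [0, 1, 2, 3, 4, 5, 6, 8, 7, 9, 10], [[0], [1]]⟩,
    ⟨6, 9, false, 2, [0, 1, 2, 3, 4, 5, 6, 9, 7, 8, 10], [0, 1, 2, 3, 4, 5, 6, 8, 9, 7, 10], [[0], [1]]⟩,
    ⟨6, 10, false, 2, [0, 1, 2, 3, 4, 5, 6, 10, 7, 8, 9], [0, 1, 2, 3, 4, 5, 6, 8, 9, 10, 7], [[0], [1]]⟩,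
    ⟨7, 8, false, 2, [0, 1, 2, 3, 4, 5, 7, 8, 6, 9, 10], [0, 1, 2, 3, 4, 5, 8, 6, 7, 9, 10], [[0], [1]]⟩,
    ⟨7, 9, false, 2, [0, 1, 2, 3, 4, 5, 7, 9, 6, 8, 10], [0, 1, 2, 3, 4, 5, 8, 6, 9, 7, 10], [[0], [1]]⟩,
    ⟨7, 10, false, 2, [0, 1, 2, 3, 4, 5, 7, 10, 6, 8, 9], [0, 1, 2, 3, 4, 5, 8, 6, 9, 10, 7], [[0], [1]]⟩,
    ⟨8, 9, false, 2, [0, 1, 2, 3, 4, 5, 8, 9, 6, 7, 10], [0, 1, 2, 3, 4, 5, 8, 9, 6, 7, 10], [[0], [1]]⟩,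
    ⟨8, 10, false, 2, [0, 1, 2, 3, 4, 5, 8, 10, 6, 7, 9], [0, 1, 2, 3, 4, 5, 8, 9, 6, 10, 7], [[0], [1]]⟩,
    ⟨9, 10, false, 2, [0, 1, 2, 3, 4, 5, 9, 10, 6, 7, 8], [0, 1, 2, 3, 4, 5, 8, 9, 10, 6, 7], [[0], [1]]⟩],
  [
    ⟨0, 1, false, 4, [0, 1, 2, 3, 4, 5, 6, 7, 8, 9, 10], [0, 1, 2, 3, 4, 5, 6, 7, 8, 9, 10], [[0], [1], [2]]⟩,
    ⟨0, 2, true, 0, [], [], [[1, 2, 1, 2]]⟩,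
    ⟨0, 3, true, 0, [], [], [[1, 2, 1, 2]]⟩,
    ⟨0, 4, true, 0, [], [], [[0, 2, 0, 2]]⟩,
    ⟨0, 5, true, 0, [], [], [[0, 2, 0, 2]]⟩,
    ⟨0, 8, true, 0, [], [], [[0, 2, 0, 2]]⟩,
    ⟨0, 9, true, 0, [], [], [[0, 2, 0, 2]]⟩,
    ⟨0, 10, true, 0, [], [], [[0, 2, 0, 2]]⟩,
    ⟨1, 2, true, 0, [], [], [[1, 2, 1, 2]]⟩,
    ⟨1, 3, true, 0, [], [], [[1, 2, 1, 2]]⟩,
    ⟨1, 4, true, 0, [], [], [[0, 2, 0, 2]]⟩,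
    ⟨1, 5, true, 0, [], [], [[0, 2, 0, 2]]⟩,
    ⟨1, 8, true, 0, [], [], [[0, 2, 0, 2]]⟩,
    ⟨1, 9, true, 0, [], [], [[0, 2, 0, 2]]⟩,
    ⟨1, 10, true, 0, [], [], [[0, 2, 0, 2]]⟩,
    ⟨2, 3, false, 4, [0, 1, 2, 3, 4, 5, 6, 7, 8, 9, 10], [0, 1, 2, 3, 4, 5, 6, 7, 8, 9, 10], [[0], [1], [0, 2]]⟩,
    ⟨2, 4, true, 0, [], [], [[0, 2, 0, 2]]⟩,
    ⟨2, 5, true, 0, [], [], [[0, 2, 0, 2]]⟩,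
    ⟨2, 8, true, 0, [], [], [[0, 2, 0, 2]]⟩,
    ⟨2, 9, true, 0, [], [], [[0, 2, 0, 2]]⟩,
    ⟨2, 10, true, 0, [], [], [[0, 2, 0, 2]]⟩,
    ⟨3, 4, true, 0, [], [], [[0, 2, 0, 2]]⟩,
    ⟨3, 5, true, 0, [], [], [[0, 2, 0, 2]]⟩,
    ⟨3, 8, true, 0, [], [], [[0, 2, 0, 2]]⟩,
    ⟨3, 9, true, 0, [], [], [[0, 2, 0, 2]]⟩,
    ⟨3, 10, true, 0, [], [], [[0, 2, 0, 2]]⟩,
    ⟨4, 5, false, 4, [0, 1, 2, 3, 4, 5, 6, 7, 8, 9, 10], [0, 1, 2, 3, 4, 5, 6, 7, 8, 9, 10], [[0], [1], [1, 2]]⟩,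
    ⟨4, 8, true, 0, [], [], [[1, 2, 1, 2]]⟩,
    ⟨4, 9, true, 0, [], [], [[1, 2, 1, 2]]⟩,
    ⟨4, 10, true, 0, [], [], [[1, 2, 1, 2]]⟩,
    ⟨5, 8, true, 0, [], [], [[1, 2, 1, 2]]⟩,
    ⟨5, 9, true, 0, [], [], [[1, 2, 1, 2]]⟩,
    ⟨5, 10, true, 0, [], [], [[1, 2, 1, 2]]⟩,
    ⟨8, 9, false, 5, [0, 1, 2, 3, 4, 5, 6, 7, 8, 9, 10], [0, 1, 2, 3, 4, 5, 6, 7, 8, 9, 10], [[0], [1], [2]]⟩,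
    ⟨8, 10, false, 5, [0, 1, 2, 3, 4, 5, 6, 7, 8, 10, 9], [0, 1, 2, 3, 4, 5, 6, 7, 8, 10, 9], [[0], [1], [2]]⟩,
    ⟨9, 10, false, 5, [0, 1, 2, 3, 4, 5, 6, 7, 9, 10, 8], [0, 1, 2, 3, 4, 5, 6, 7, 10, 8, 9], [[0], [1], [2]]⟩],
  [
    ⟨1, 2, true, 0, [], [], [[0, 2]]⟩,
    ⟨1, 3, true, 0, [], [], [[0, 2]]⟩,
    ⟨1, 4, true, 0, [], [], [[1, 2, 1, 2]]⟩,
    ⟨1, 5, true, 0, [], [], [[1, 2, 1, 2]]⟩,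
    ⟨1, 6, true, 0, [], [], [[1, 2, 1, 2]]⟩,
    ⟨1, 7, true, 0, [], [], [[1, 2, 1, 2]]⟩,
    ⟨1, 9, false, 7, [0, 1, 2, 3, 4, 5, 6, 7, 8, 9, 10], [0, 1, 2, 3, 4, 5, 6, 7, 8, 9, 10], [[0], [1], [2]]⟩,
    ⟨1, 10, false, 7, [0, 1, 2, 3, 4, 5, 6, 7, 8, 10, 9], [0, 1, 2, 3, 4, 5, 6, 7, 8, 10, 9], [[0], [1], [2]]⟩,
    ⟨2, 3, true, 0, [], [], [[0, 2]]⟩,
    ⟨2, 4, true, 0, [], [], [[1, 2, 1, 2]]⟩,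
    ⟨2, 5, true, 0, [], [], [[1, 2, 1, 2]]⟩,
    ⟨2, 6, true, 0, [], [], [[1, 2, 1, 2]]⟩,
    ⟨2, 7, true, 0, [], [], [[1, 2, 1, 2]]⟩,
    ⟨2, 9, false, 6, [0, 1, 2, 3, 4, 5, 6, 7, 8, 9, 10], [0, 1, 2, 3, 4, 5, 6, 7, 8, 9, 10], [[0], [1], [2]]⟩,
    ⟨2, 10, false, 6, [0, 1, 2, 3, 4, 5, 6, 7, 8, 10, 9], [0, 1, 2, 3, 4, 5, 6, 7, 8, 10, 9], [[0], [1], [2]]⟩,
    ⟨3, 4, true, 0, [], [], [[1, 2, 1, 2]]⟩,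
    ⟨3, 5, true, 0, [], [], [[1, 2, 1, 2]]⟩,
    ⟨3, 6, true, 0, [], [], [[1, 2, 1, 2]]⟩,
    ⟨3, 7, true, 0, [], [], [[1, 2, 1, 2]]⟩,
    ⟨3, 9, false, 6, [0, 1, 3, 2, 4, 5, 6, 7, 8, 9, 10], [0, 1, 3, 2, 4, 5, 6, 7, 8, 9, 10], [[0], [1], [2]]⟩,
    ⟨3, 10, false, 6, [0, 1, 3, 2, 4, 5, 6, 7, 8, 10, 9], [0, 1, 3, 2, 4, 5, 6, 7, 8, 10, 9], [[0], [1], [2]]⟩,
    ⟨4, 5, true, 0, [], [], [[0, 2, 0, 2]]⟩,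
    ⟨4, 6, true, 0, [], [], [[0, 2, 0, 2]]⟩,
    ⟨4, 7, true, 0, [], [], [[0, 2, 0, 2]]⟩,
    ⟨4, 9, true, 0, [], [], [[0, 2, 0, 2]]⟩,
    ⟨4, 10, true, 0, [], [], [[0, 2, 0, 2]]⟩,
    ⟨5, 6, true, 0, [], [], [[0, 2, 0, 2]]⟩,
    ⟨5, 7, true, 0, [], [], [[0, 2, 0, 2]]⟩,
    ⟨5, 9, true, 0, [], [], [[0, 2, 0, 2]]⟩,
    ⟨5, 10, true, 0, [], [], [[0, 2, 0, 2]]⟩,
    ⟨6, 7, true, 0, [], [], [[0, 2, 0, 2]]⟩,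
    ⟨6, 9, true, 0, [], [], [[0, 2, 0, 2]]⟩,
    ⟨6, 10, true, 0, [], [], [[0, 2, 0, 2]]⟩,
    ⟨7, 9, true, 0, [], [], [[0, 2, 0, 2]]⟩,
    ⟨7, 10, true, 0, [], [], [[0, 2, 0, 2]]⟩,
    ⟨9, 10, true, 0, [], [], [[0, 2, 0, 2]]⟩],
  [
    ⟨1, 2, true, 0, [], [], [[0, 2]]⟩,
    ⟨1, 3, true, 0, [], [], [[0, 2]]⟩,
    ⟨1, 5, true, 0, [], [], [[1, 2]]⟩,
    ⟨1, 6, true, 0, [], [], [[0, 1, 2]]⟩,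
    ⟨1, 7, true, 0, [], [], [[0, 1, 2]]⟩,
    ⟨1, 8, true, 0, [], [], [[0, 1, 2]]⟩,
    ⟨1, 9, true, 0, [], [], [[0, 1, 2]]⟩,
    ⟨1, 10, true, 0, [], [], [[0, 1, 2]]⟩,
    ⟨2, 3, true, 0, [], [], [[0, 2]]⟩,
    ⟨2, 5, false, 8, [0, 1, 2, 3, 4, 5, 6, 7, 8, 9, 10], [0, 1, 2, 3, 4, 5, 6, 7, 8, 9, 10], [[0], [1], [2]]⟩,
    ⟨2, 6, true, 0, [], [], [[1, 2]]⟩,
    ⟨2, 7, true, 0, [], [], [[1, 2]]⟩,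
    ⟨2, 8, true, 0, [], [], [[1, 2]]⟩,
    ⟨2, 9, true, 0, [], [], [[1, 2]]⟩,
    ⟨2, 10, true, 0, [], [], [[1, 2]]⟩,
    ⟨3, 5, true, 0, [], [], [[1, 2]]⟩,
    ⟨3, 6, true, 0, [], [], [[0, 1, 2]]⟩,
    ⟨3, 7, true, 0, [], [], [[0, 1, 2]]⟩,
    ⟨3, 8, true, 0, [], [], [[0, 1, 2]]⟩,
    ⟨3, 9, true, 0, [], [], [[0, 1, 2]]⟩,
    ⟨3, 10, true, 0, [], [], [[0, 1, 2]]⟩,
    ⟨5, 6, true, 0, [], [], [[1, 2]]⟩,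
    ⟨5, 7, true, 0, [], [], [[1, 2]]⟩,
    ⟨5, 8, true, 0, [], [], [[1, 2]]⟩,
    ⟨5, 9, true, 0, [], [], [[1, 2]]⟩,
    ⟨5, 10, true, 0, [], [], [[1, 2]]⟩,
    ⟨6, 7, true, 0, [], [], [[0, 2, 0, 2]]⟩,
    ⟨6, 8, true, 0, [], [], [[0, 2, 0, 2]]⟩,
    ⟨6, 9, true, 0, [], [], [[0, 2, 0, 2]]⟩,
    ⟨6, 10, true, 0, [], [], [[0, 2, 0, 2]]⟩,
    ⟨7, 8, true, 0, [], [], [[0, 2, 0, 2]]⟩,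
    ⟨7, 9, true, 0, [], [], [[0, 2, 0, 2]]⟩,
    ⟨7, 10, true, 0, [], [], [[0, 2, 0, 2]]⟩,
    ⟨8, 9, true, 0, [], [], [[0, 2, 0, 2]]⟩,
    ⟨8, 10, true, 0, [], [], [[0, 2, 0, 2]]⟩,
    ⟨9, 10, true, 0, [], [], [[0, 2, 0, 2]]⟩],
  [
    ⟨1, 2, true, 0, [], [], [[0, 3]]⟩,
    ⟨1, 3, true, 0, [], [], [[0, 3]]⟩,
    ⟨1, 4, true, 0, [], [], [[1, 3]]⟩,
    ⟨1, 5, true, 0, [], [], [[1, 3]]⟩,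
    ⟨1, 6, true, 0, [], [], [[2, 3]]⟩,
    ⟨1, 7, true, 0, [], [], [[2, 3]]⟩,
    ⟨1, 9, false, 9, [0, 1, 2, 3, 4, 5, 6, 7, 8, 9, 10], [0, 1, 2, 3, 4, 5, 6, 7, 8, 9, 10], [[0], [1], [2], [3]]⟩,
    ⟨1, 10, false, 9, [0, 1, 2, 3, 4, 5, 6, 7, 8, 10, 9], [0, 1, 2, 3, 4, 5, 6, 7, 8, 10, 9], [[0], [1], [2], [3]]⟩,
    ⟨2, 3, true, 0, [], [], [[0, 3]]⟩,
    ⟨2, 4, true, 0, [], [], [[2, 3, 2, 3]]⟩,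
    ⟨2, 5, true, 0, [], [], [[2, 3, 2, 3]]⟩,
    ⟨2, 6, true, 0, [], [], [[1, 3, 1, 3]]⟩,
    ⟨2, 7, true, 0, [], [], [[1, 3, 1, 3]]⟩,
    ⟨2, 9, true, 0, [], [], [[1, 3, 1, 3]]⟩,
    ⟨2, 10, true, 0, [], [], [[1, 3, 1, 3]]⟩,
    ⟨3, 4, true, 0, [], [], [[2, 3, 2, 3]]⟩,
    ⟨3, 5, true, 0, [], [], [[2, 3, 2, 3]]⟩,
    ⟨3, 6, true, 0, [], [], [[1, 3, 1, 3]]⟩,
    ⟨3, 7, true, 0, [], [], [[1, 3, 1, 3]]⟩,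
    ⟨3, 9, true, 0, [], [], [[1, 3, 1, 3]]⟩,
    ⟨3, 10, true, 0, [], [], [[1, 3, 1, 3]]⟩,
    ⟨4, 5, true, 0, [], [], [[1, 3]]⟩,
    ⟨4, 6, true, 0, [], [], [[0, 3, 0, 3]]⟩,
    ⟨4, 7, true, 0, [], [], [[0, 3, 0, 3]]⟩,
    ⟨4, 9, true, 0, [], [], [[0, 3, 0, 3]]⟩,
    ⟨4, 10, true, 0, [], [], [[0, 3, 0, 3]]⟩,
    ⟨5, 6, true, 0, [], [], [[0, 3, 0, 3]]⟩,
    ⟨5, 7, true, 0, [], [], [[0, 3, 0, 3]]⟩,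
    ⟨5, 9, true, 0, [], [], [[0, 3, 0, 3]]⟩,
    ⟨5, 10, true, 0, [], [], [[0, 3, 0, 3]]⟩,
    ⟨6, 7, true, 0, [], [], [[2, 3]]⟩,
    ⟨6, 9, true, 0, [], [], [[0, 3, 0, 3]]⟩,
    ⟨6, 10, true, 0, [], [], [[0, 3, 0, 3]]⟩,
    ⟨7, 9, true, 0, [], [], [[0, 3, 0, 3]]⟩,
    ⟨7, 10, true, 0, [], [], [[0, 3, 0, 3]]⟩,
    ⟨9, 10, true, 0, [], [], [[0, 3, 0, 3]]⟩],
  [
    ⟨0, 1, true, 0, [], [], [[2, 3, 2, 3]]⟩,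
    ⟨0, 2, true, 0, [], [], [[1, 3, 1, 3]]⟩,
    ⟨0, 3, true, 0, [], [], [[1, 3, 1, 3]]⟩,
    ⟨0, 4, true, 0, [], [], [[0, 3, 0, 3]]⟩,
    ⟨0, 5, true, 0, [], [], [[0, 3, 0, 3]]⟩,
    ⟨0, 7, true, 0, [], [], [[0, 3, 0, 3]]⟩,
    ⟨0, 8, true, 0, [], [], [[0, 3, 0, 3]]⟩,
    ⟨0, 9, true, 0, [], [], [[0, 3, 0, 3]]⟩,
    ⟨1, 2, true, 0, [], [], [[1, 3, 1, 3]]⟩,
    ⟨1, 3, true, 0, [], [], [[1, 3, 1, 3]]⟩,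
    ⟨1, 4, true, 0, [], [], [[0, 3, 0, 3]]⟩,
    ⟨1, 5, true, 0, [], [], [[0, 3, 0, 3]]⟩,
    ⟨1, 7, true, 0, [], [], [[0, 3, 0, 3]]⟩,
    ⟨1, 8, true, 0, [], [], [[0, 3, 0, 3]]⟩,
    ⟨1, 9, true, 0, [], [], [[0, 3, 0, 3]]⟩,
    ⟨2, 3, true, 0, [], [], [[2, 3, 2, 3]]⟩,
    ⟨2, 4, true, 0, [], [], [[0, 3, 0, 3]]⟩,
    ⟨2, 5, true, 0, [], [], [[0, 3, 0, 3]]⟩,
    ⟨2, 7, true, 0, [], [], [[0, 3, 0, 3]]⟩,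
    ⟨2, 8, true, 0, [], [], [[0, 3, 0, 3]]⟩,
    ⟨2, 9, true, 0, [], [], [[0, 3, 0, 3]]⟩,
    ⟨3, 4, true, 0, [], [], [[0, 3, 0, 3]]⟩,
    ⟨3, 5, true, 0, [], [], [[0, 3, 0, 3]]⟩,
    ⟨3, 7, true, 0, [], [], [[0, 3, 0, 3]]⟩,
    ⟨3, 8, true, 0, [], [], [[0, 3, 0, 3]]⟩,
    ⟨3, 9, true, 0, [], [], [[0, 3, 0, 3]]⟩,
    ⟨4, 5, true, 0, [], [], [[2, 3, 2, 3]]⟩,
    ⟨4, 7, true, 0, [], [], [[1, 3, 1, 3]]⟩,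
    ⟨4, 8, true, 0, [], [], [[1, 3, 1, 3]]⟩,
    ⟨4, 9, true, 0, [], [], [[1, 3, 1, 3]]⟩,
    ⟨5, 7, true, 0, [], [], [[1, 3, 1, 3]]⟩,
    ⟨5, 8, true, 0, [], [], [[1, 3, 1, 3]]⟩,
    ⟨5, 9, true, 0, [], [], [[1, 3, 1, 3]]⟩,
    ⟨7, 8, true, 0, [], [], [[2, 3]]⟩,
    ⟨7, 9, true, 0, [], [], [[2, 3]]⟩,
    ⟨8, 9, true, 0, [], [], [[2, 3]]⟩],
  [
    ⟨0, 1, true, 0, [], [], [[1, 3, 1, 3]]⟩,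
    ⟨0, 2, true, 0, [], [], [[1, 3, 1, 3]]⟩,
    ⟨0, 3, true, 0, [], [], [[1, 3, 1, 3]]⟩,
    ⟨0, 5, true, 0, [], [], [[0, 3, 0, 3]]⟩,
    ⟨0, 6, true, 0, [], [], [[0, 3, 0, 3]]⟩,
    ⟨0, 7, true, 0, [], [], [[0, 3, 0, 3]]⟩,
    ⟨0, 8, true, 0, [], [], [[0, 3, 0, 3]]⟩,
    ⟨0, 9, true, 0, [], [], [[0, 3, 0, 3]]⟩,
    ⟨1, 2, true, 0, [], [], [[1, 3, 1, 3]]⟩,
    ⟨1, 3, true, 0, [], [], [[1, 3, 1, 3]]⟩,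
    ⟨1, 5, true, 0, [], [], [[0, 3, 0, 3]]⟩,
    ⟨1, 6, true, 0, [], [], [[0, 3, 0, 3]]⟩,
    ⟨1, 7, true, 0, [], [], [[0, 3, 0, 3]]⟩,
    ⟨1, 8, true, 0, [], [], [[0, 3, 0, 3]]⟩,
    ⟨1, 9, true, 0, [], [], [[0, 3, 0, 3]]⟩,
    ⟨2, 3, true, 0, [], [], [[1, 3, 1, 3]]⟩,
    ⟨2, 5, true, 0, [], [], [[0, 3, 0, 3]]⟩,
    ⟨2, 6, true, 0, [], [], [[0, 3, 0, 3]]⟩,
    ⟨2, 7, true, 0, [], [], [[0, 3, 0, 3]]⟩,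
    ⟨2, 8, true, 0, [], [], [[0, 3, 0, 3]]⟩,
    ⟨2, 9, true, 0, [], [], [[0, 3, 0, 3]]⟩,
    ⟨3, 5, true, 0, [], [], [[0, 3, 0, 3]]⟩,
    ⟨3, 6, true, 0, [], [], [[0, 3, 0, 3]]⟩,
    ⟨3, 7, true, 0, [], [], [[0, 3, 0, 3]]⟩,
    ⟨3, 8, true, 0, [], [], [[0, 3, 0, 3]]⟩,
    ⟨3, 9, true, 0, [], [], [[0, 3, 0, 3]]⟩,
    ⟨5, 6, true, 0, [], [], [[1, 3]]⟩,
    ⟨5, 7, true, 0, [], [], [[1, 3]]⟩,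
    ⟨5, 8, true, 0, [], [], [[2, 3, 2, 3]]⟩,
    ⟨5, 9, true, 0, [], [], [[2, 3, 2, 3]]⟩,
    ⟨6, 7, true, 0, [], [], [[1, 3]]⟩,
    ⟨6, 8, true, 0, [], [], [[2, 3, 2, 3]]⟩,
    ⟨6, 9, true, 0, [], [], [[2, 3, 2, 3]]⟩,
    ⟨7, 8, true, 0, [], [], [[2, 3, 2, 3]]⟩,
    ⟨7, 9, true, 0, [], [], [[2, 3, 2, 3]]⟩,
    ⟨8, 9, true, 0, [], [], [[1, 3, 1, 3]]⟩],
  [
    ⟨1, 2, true, 0, [], [], [[0, 3]]⟩,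
    ⟨1, 3, true, 0, [], [], [[0, 3]]⟩,
    ⟨1, 4, true, 0, [], [], [[1, 3, 1, 3]]⟩,
    ⟨1, 5, true, 0, [], [], [[1, 3, 1, 3]]⟩,
    ⟨1, 6, true, 0, [], [], [[1, 3, 1, 3]]⟩,
    ⟨1, 7, true, 0, [], [], [[1, 3, 1, 3]]⟩,
    ⟨1, 8, true, 0, [], [], [[2, 3]]⟩,
    ⟨1, 9, true, 0, [], [], [[2, 3]]⟩,
    ⟨2, 3, true, 0, [], [], [[0, 3]]⟩,
    ⟨2, 4, true, 0, [], [], [[1, 3, 1, 3]]⟩,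
    ⟨2, 5, true, 0, [], [], [[1, 3, 1, 3]]⟩,
    ⟨2, 6, true, 0, [], [], [[1, 3, 1, 3]]⟩,
    ⟨2, 7, true, 0, [], [], [[1, 3, 1, 3]]⟩,
    ⟨2, 8, true, 0, [], [], [[0, 2, 3]]⟩,
    ⟨2, 9, true, 0, [], [], [[0, 2, 3]]⟩,
    ⟨3, 4, true, 0, [], [], [[1, 3, 1, 3]]⟩,
    ⟨3, 5, true, 0, [], [], [[1, 3, 1, 3]]⟩,
    ⟨3, 6, true, 0, [], [], [[1, 3, 1, 3]]⟩,
    ⟨3, 7, true, 0, [], [], [[1, 3, 1, 3]]⟩,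
    ⟨3, 8, true, 0, [], [], [[0, 2, 3]]⟩,
    ⟨3, 9, true, 0, [], [], [[0, 2, 3]]⟩,
    ⟨4, 5, true, 0, [], [], [[0, 3, 0, 3]]⟩,
    ⟨4, 6, true, 0, [], [], [[0, 3, 0, 3]]⟩,
    ⟨4, 7, true, 0, [], [], [[0, 3, 0, 3]]⟩,
    ⟨4, 8, true, 0, [], [], [[0, 3, 0, 3]]⟩,
    ⟨4, 9, true, 0, [], [], [[0, 3, 0, 3]]⟩,
    ⟨5, 6, true, 0, [], [], [[0, 3, 0, 3]]⟩,
    ⟨5, 7, true, 0, [], [], [[0, 3, 0, 3]]⟩,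
    ⟨5, 8, true, 0, [], [], [[0, 3, 0, 3]]⟩,
    ⟨5, 9, true, 0, [], [], [[0, 3, 0, 3]]⟩,
    ⟨6, 7, true, 0, [], [], [[0, 3, 0, 3]]⟩,
    ⟨6, 8, true, 0, [], [], [[0, 3, 0, 3]]⟩,
    ⟨6, 9, true, 0, [], [], [[0, 3, 0, 3]]⟩,
    ⟨7, 8, true, 0, [], [], [[0, 3, 0, 3]]⟩,
    ⟨7, 9, true, 0, [], [], [[0, 3, 0, 3]]⟩,
    ⟨8, 9, true, 0, [], [], [[2, 3]]⟩],
  [
    ⟨1, 2, true, 0, [], [], [[0, 3]]⟩,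
    ⟨1, 3, true, 0, [], [], [[0, 3]]⟩,
    ⟨1, 4, true, 0, [], [], [[0, 1, 3]]⟩,
    ⟨1, 5, true, 0, [], [], [[0, 1, 3]]⟩,
    ⟨1, 7, true, 0, [], [], [[1, 3, 1, 3]]⟩,
    ⟨1, 8, true, 0, [], [], [[1, 3, 1, 3]]⟩,
    ⟨1, 9, true, 0, [], [], [[1, 3, 1, 3]]⟩,
    ⟨1, 10, true, 0, [], [], [[1, 3, 1, 3]]⟩,
    ⟨2, 3, true, 0, [], [], [[0, 3]]⟩,
    ⟨2, 4, true, 0, [], [], [[1, 3]]⟩,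
    ⟨2, 5, true, 0, [], [], [[1, 3]]⟩,
    ⟨2, 7, false, 10, [0, 1, 2, 3, 4, 5, 6, 7, 8, 9, 10], [0, 1, 2, 3, 4, 5, 6, 7, 8, 9, 10], [[0], [1], [2], [3]]⟩,
    ⟨2, 8, false, 10, [0, 1, 2, 3, 4, 5, 6, 8, 7, 9, 10], [0, 1, 2, 3, 4, 5, 6, 8, 7, 9, 10], [[0], [1], [2], [3]]⟩,
    ⟨2, 9, false, 10, [0, 1, 2, 3, 4, 5, 6, 9, 7, 8, 10], [0, 1, 2, 3, 4, 5, 6, 8, 9, 7, 10], [[0], [1], [2], [3]]⟩,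
    ⟨2, 10, false, 10, [0, 1, 2, 3, 4, 5, 6, 10, 7, 8, 9], [0, 1, 2, 3, 4, 5, 6, 8, 9, 10, 7], [[0], [1], [2], [3]]⟩,
    ⟨3, 4, true, 0, [], [], [[0, 1, 3]]⟩,
    ⟨3, 5, true, 0, [], [], [[0, 1, 3]]⟩,
    ⟨3, 7, true, 0, [], [], [[1, 3, 1, 3]]⟩,
    ⟨3, 8, true, 0, [], [], [[1, 3, 1, 3]]⟩,
    ⟨3, 9, true, 0, [], [], [[1, 3, 1, 3]]⟩,
    ⟨3, 10, true, 0, [], [], [[1, 3, 1, 3]]⟩,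
    ⟨4, 5, true, 0, [], [], [[1, 3]]⟩,
    ⟨4, 7, true, 0, [], [], [[0, 3, 0, 3]]⟩,
    ⟨4, 8, true, 0, [], [], [[0, 3, 0, 3]]⟩,
    ⟨4, 9, true, 0, [], [], [[0, 3, 0, 3]]⟩,
    ⟨4, 10, true, 0, [], [], [[0, 3, 0, 3]]⟩,
    ⟨5, 7, true, 0, [], [], [[0, 3, 0, 3]]⟩,
    ⟨5, 8, true, 0, [], [], [[0, 3, 0, 3]]⟩,
    ⟨5, 9, true, 0, [], [], [[0, 3, 0, 3]]⟩,
    ⟨5, 10, true, 0, [], [], [[0, 3, 0, 3]]⟩,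
    ⟨7, 8, true, 0, [], [], [[0, 3, 0, 3]]⟩,
    ⟨7, 9, true, 0, [], [], [[0, 3, 0, 3]]⟩,
    ⟨7, 10, true, 0, [], [], [[0, 3, 0, 3]]⟩,
    ⟨8, 9, true, 0, [], [], [[0, 3, 0, 3]]⟩,
    ⟨8, 10, true, 0, [], [], [[0, 3, 0, 3]]⟩,
    ⟨9, 10, true, 0, [], [], [[0, 3, 0, 3]]⟩],
  [
    ⟨1, 2, true, 0, [], [], [[0, 4]]⟩,
    ⟨1, 3, true, 0, [], [], [[0, 4]]⟩,
    ⟨1, 4, true, 0, [], [], [[1, 4]]⟩,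
    ⟨1, 5, true, 0, [], [], [[1, 4]]⟩,
    ⟨1, 6, true, 0, [], [], [[2, 4]]⟩,
    ⟨1, 7, true, 0, [], [], [[2, 4]]⟩,
    ⟨1, 8, true, 0, [], [], [[3, 4]]⟩,
    ⟨1, 9, true, 0, [], [], [[3, 4]]⟩,
    ⟨2, 3, true, 0, [], [], [[0, 4]]⟩,
    ⟨2, 4, true, 0, [], [], [[2, 4, 2, 4]]⟩,
    ⟨2, 5, true, 0, [], [], [[2, 4, 2, 4]]⟩,
    ⟨2, 6, true, 0, [], [], [[1, 4, 1, 4]]⟩,
    ⟨2, 7, true, 0, [], [], [[1, 4, 1, 4]]⟩,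
    ⟨2, 8, true, 0, [], [], [[0, 3, 4]]⟩,
    ⟨2, 9, true, 0, [], [], [[0, 3, 4]]⟩,
    ⟨3, 4, true, 0, [], [], [[2, 4, 2, 4]]⟩,
    ⟨3, 5, true, 0, [], [], [[2, 4, 2, 4]]⟩,
    ⟨3, 6, true, 0, [], [], [[1, 4, 1, 4]]⟩,
    ⟨3, 7, true, 0, [], [], [[1, 4, 1, 4]]⟩,
    ⟨3, 8, true, 0, [], [], [[0, 3, 4]]⟩,
    ⟨3, 9, true, 0, [], [], [[0, 3, 4]]⟩,
    ⟨4, 5, true, 0, [], [], [[1, 4]]⟩,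
    ⟨4, 6, true, 0, [], [], [[0, 4, 0, 4]]⟩,
    ⟨4, 7, true, 0, [], [], [[0, 4, 0, 4]]⟩,
    ⟨4, 8, true, 0, [], [], [[1, 3, 4]]⟩,
    ⟨4, 9, true, 0, [], [], [[1, 3, 4]]⟩,
    ⟨5, 6, true, 0, [], [], [[0, 4, 0, 4]]⟩,
    ⟨5, 7, true, 0, [], [], [[0, 4, 0, 4]]⟩,
    ⟨5, 8, true, 0, [], [], [[1, 3, 4]]⟩,
    ⟨5, 9, true, 0, [], [], [[1, 3, 4]]⟩,
    ⟨6, 7, true, 0, [], [], [[2, 4]]⟩,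
    ⟨6, 8, true, 0, [], [], [[2, 3, 4]]⟩,
    ⟨6, 9, true, 0, [], [], [[2, 3, 4]]⟩,
    ⟨7, 8, true, 0, [], [], [[2, 3, 4]]⟩,
    ⟨7, 9, true, 0, [], [], [[2, 3, 4]]⟩,
    ⟨8, 9, true, 0, [], [], [[3, 4]]⟩],
  [
    ⟨1, 2, true, 0, [], [], [[0, 4]]⟩,
    ⟨1, 3, true, 0, [], [], [[0, 4]]⟩,
    ⟨1, 4, true, 0, [], [], [[0, 1, 4]]⟩,
    ⟨1, 5, true, 0, [], [], [[0, 1, 4]]⟩,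
    ⟨1, 6, true, 0, [], [], [[1, 4, 1, 4]]⟩,
    ⟨1, 7, true, 0, [], [], [[0, 3, 4]]⟩,
    ⟨1, 9, true, 0, [], [], [[1, 4, 1, 4]]⟩,
    ⟨1, 10, true, 0, [], [], [[1, 4, 1, 4]]⟩,
    ⟨2, 3, true, 0, [], [], [[0, 4]]⟩,
    ⟨2, 4, true, 0, [], [], [[1, 4]]⟩,
    ⟨2, 5, true, 0, [], [], [[1, 4]]⟩,
    ⟨2, 6, true, 0, [], [], [[3, 4]]⟩,
    ⟨2, 7, true, 0, [], [], [[3, 4]]⟩,
    ⟨2, 9, false, 11, [0, 1, 2, 3, 4, 5, 6, 7, 8, 9, 10], [0, 1, 2, 3, 4, 5, 6, 7, 8, 9, 10], [[0], [1], [2], [3], [4]]⟩,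
    ⟨2, 10, false, 11, [0, 1, 2, 3, 4, 5, 6, 7, 8, 10, 9], [0, 1, 2, 3, 4, 5, 6, 7, 8, 10, 9], [[0], [1], [2], [3], [4]]⟩,
    ⟨3, 4, true, 0, [], [], [[0, 1, 4]]⟩,
    ⟨3, 5, true, 0, [], [], [[0, 1, 4]]⟩,
    ⟨3, 6, true, 0, [], [], [[0, 3, 4]]⟩,
    ⟨3, 7, true, 0, [], [], [[1, 4, 1, 4]]⟩,
    ⟨3, 9, true, 0, [], [], [[1, 4, 1, 4]]⟩,
    ⟨3, 10, true, 0, [], [], [[1, 4, 1, 4]]⟩,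
    ⟨4, 5, true, 0, [], [], [[1, 4]]⟩,
    ⟨4, 6, true, 0, [], [], [[1, 3, 4]]⟩,
    ⟨4, 7, true, 0, [], [], [[1, 3, 4]]⟩,
    ⟨4, 9, true, 0, [], [], [[0, 4, 0, 4]]⟩,
    ⟨4, 10, true, 0, [], [], [[0, 4, 0, 4]]⟩,
    ⟨5, 6, true, 0, [], [], [[1, 3, 4]]⟩,
    ⟨5, 7, true, 0, [], [], [[1, 3, 4]]⟩,
    ⟨5, 9, true, 0, [], [], [[0, 4, 0, 4]]⟩,
    ⟨5, 10, true, 0, [], [], [[0, 4, 0, 4]]⟩,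
    ⟨6, 7, true, 0, [], [], [[3, 4]]⟩,
    ⟨6, 9, true, 0, [], [], [[0, 4, 0, 4]]⟩,
    ⟨6, 10, true, 0, [], [], [[0, 4, 0, 4]]⟩,
    ⟨7, 9, true, 0, [], [], [[0, 4, 0, 4]]⟩,
    ⟨7, 10, true, 0, [], [], [[0, 4, 0, 4]]⟩,
    ⟨9, 10, true, 0, [], [], [[0, 4, 0, 4]]⟩],
  [
    ⟨1, 2, true, 0, [], [], [[0, 5]]⟩,
    ⟨1, 3, true, 0, [], [], [[0, 5]]⟩,
    ⟨1, 4, true, 0, [], [], [[0, 1, 5]]⟩,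
    ⟨1, 5, true, 0, [], [], [[0, 1, 5]]⟩,
    ⟨1, 6, true, 0, [], [], [[1, 5, 1, 5]]⟩,
    ⟨1, 7, true, 0, [], [], [[0, 3, 5]]⟩,
    ⟨1, 8, true, 0, [], [], [[1, 5, 1, 5]]⟩,
    ⟨1, 9, true, 0, [], [], [[0, 4, 5]]⟩,
    ⟨2, 3, true, 0, [], [], [[0, 5]]⟩,
    ⟨2, 4, true, 0, [], [], [[1, 5]]⟩,
    ⟨2, 5, true, 0, [], [], [[1, 5]]⟩,
    ⟨2, 6, true, 0, [], [], [[3, 5]]⟩,
    ⟨2, 7, true, 0, [], [], [[3, 5]]⟩,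
    ⟨2, 8, true, 0, [], [], [[4, 5]]⟩,
    ⟨2, 9, true, 0, [], [], [[4, 5]]⟩,
    ⟨3, 4, true, 0, [], [], [[0, 1, 5]]⟩,
    ⟨3, 5, true, 0, [], [], [[0, 1, 5]]⟩,
    ⟨3, 6, true, 0, [], [], [[0, 3, 5]]⟩,
    ⟨3, 7, true, 0, [], [], [[1, 5, 1, 5]]⟩,
    ⟨3, 8, true, 0, [], [], [[0, 4, 5]]⟩,
    ⟨3, 9, true, 0, [], [], [[1, 5, 1, 5]]⟩,
    ⟨4, 5, true, 0, [], [], [[1, 5]]⟩,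
    ⟨4, 6, true, 0, [], [], [[1, 3, 5]]⟩,
    ⟨4, 7, true, 0, [], [], [[1, 3, 5]]⟩,
    ⟨4, 8, true, 0, [], [], [[1, 4, 5]]⟩,
    ⟨4, 9, true, 0, [], [], [[1, 4, 5]]⟩,
    ⟨5, 6, true, 0, [], [], [[1, 3, 5]]⟩,
    ⟨5, 7, true, 0, [], [], [[1, 3, 5]]⟩,
    ⟨5, 8, true, 0, [], [], [[1, 4, 5]]⟩,
    ⟨5, 9, true, 0, [], [], [[1, 4, 5]]⟩,
    ⟨6, 7, true, 0, [], [], [[3, 5]]⟩,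
    ⟨6, 8, true, 0, [], [], [[0, 5, 0, 5]]⟩,
    ⟨6, 9, true, 0, [], [], [[3, 4, 5]]⟩,
    ⟨7, 8, true, 0, [], [], [[3, 4, 5]]⟩,
    ⟨7, 9, true, 0, [], [], [[0, 5, 0, 5]]⟩,
    ⟨8, 9, true, 0, [], [], [[4, 5]]⟩]]

/-- The number of states. -/
def numStates : ℕ := 12

/-- The generators of a state. -/
def gens (k : ℕ) : List Pt := (genTable.getD k []).map fun d => sw2 d.1 d.2.1 d.2.2.1 d.2.2.2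

/-- The pair of a state. -/
def pair (k : ℕ) : Fin 11 × Fin 11 := pairTable.getD k (0, 0)

/-- The cases of a state. -/
def children (k : ℕ) : List Child := childTable.getD k []

/-- The check of a case. -/
def checkChild (k : ℕ) (c : Child) : Bool :=
  let gs := gens k ++ [sw2 (pair k).1 (pair k).2 c.i c.j]
  if c.leaf then c.words.any fun w => isGood (evalW gs w)
  else decide (k < c.next) && decide (c.next < numStates) &&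
    (List.finRange 11).all (fun x => ofList c.rho (ofList c.rhoInv x) == x &&
      ofList c.rhoInv (ofList c.rho x) == x) &&
    c.words.length == (gens c.next).length &&
    (List.range c.words.length).all fun n => (List.finRange 11).all fun x =>
      evalW gs (c.words.getD n []) (ofList c.rho x) ==
        ofList c.rho ((gens c.next).getD n (fun y => y) x)

theorem check_all : ((List.range numStates).all fun k =>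
    (children k).all fun c => checkChild k c) = true := by decide +kernel

theorem cover : ∀ k : Fin numStates, (pair k).1 ≠ (pair k).2 ∧ ∀ i j : Fin 11, i ≠ j →
    i ≠ (pair k).1 → i ≠ (pair k).2 → j ≠ (pair k).1 → j ≠ (pair k).2 →
    ((children k).any fun c => (c.i == i && c.j == j) || (c.i == j && c.j == i)) = true := by
  decide +kernel

theorem gens_zero : gens 0 = [sw2 0 1 2 3] := rfl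

end CfsgLib.PermGroup.DoubleSwap
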