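import Cfsg.Agent.Lib.PermGroup.HalfNormalizer

/-!
Groups acting faithfully on `p` points with a Sylow normaliser of order `p (p - 1) / 2`, as
permutation groups.
-/

set_option autoImplicit false
set_option linter.unusedSectionVars false

open MulAction

namespace CfsgLib.PermGroup.Half

variable {G Ω : Type*} [Group G] [Finite G] [MulAction G Ω] [FaithfulSMul G Ω] [Finite Ω]

/-- The image in the symmetric group. -/
abbrev img (G Ω : Type*) [Group G] [MulAction G Ω] : Subgroup (Equiv.Perm Ω) :=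
  (MulAction.toPermHom G Ω).range

/-- The isomorphism with the image. -/
noncomputable def imgEquiv : G ≃* img G Ω :=
  MulEquiv.ofBijective (MulAction.toPermHom G Ω).rangeRestrict
    ⟨fun a b h => MulAction.toPerm_injective (congrArg Subtype.val h),
      (MulAction.toPermHom G Ω).rangeRestrict_surjective⟩

theorem imgEquiv_smul (g : G) (x : Ω) : imgEquiv (Ω := Ω) g • x = g • x := rfl

theorem img_pretransitive (h : IsPretransitive G Ω) : IsPretransitive (img G Ω) Ω :=
  ⟨fun a b => by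
    obtain ⟨g, rfl⟩ := h.exists_smul_eq a b
    exact ⟨imgEquiv g, imgEquiv_smul g a⟩⟩

theorem not_solvable_img (h : ¬ Group.IsSolvable G) : ¬ Group.IsSolvable (img G Ω) := fun hs =>
  h (solvable_of_surjective (f := (imgEquiv (G := G) (Ω := Ω)).symm.toMonoidHom)
    (imgEquiv (G := G) (Ω := Ω)).symm.surjective)

/-- Labelling with all translations and square multipliers, from the normaliser order. -/
theorem exists_squares_action [Fintype Ω] {p : ℕ} [Fact p.Prime] (hΩ : Fintype.card Ω = p)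
    (ht : IsPretransitive G Ω) (P : Sylow p G)
    (hN : p * (p - 1) ≤ 2 * Nat.card (Subgroup.normalizer ((P : Subgroup G) : Set G))) :
    ∃ e : ZMod p ≃ Ω, HasTranslations (img G Ω) e ∧ HasSquares (img G Ω) e := by
  classical
  have := img_pretransitive ht
  have hφ : Function.Surjective (imgEquiv (G := G) (Ω := Ω)).toMonoidHom :=
    (imgEquiv (G := G) (Ω := Ω)).surjective
  refine exists_squares hΩ (img G Ω) (P.mapSurjective hφ) (hN.trans (le_of_eq ?_))
  congr 1
  rw [Sylow.coe_mapSurjective]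
  show _ = Nat.card (Subgroup.normalizer
    ((((P : Subgroup G)).map (imgEquiv (G := G) (Ω := Ω)).toMonoidHom : Subgroup (img G Ω)) : Set (img G Ω)))
  rw [← Subgroup.map_equiv_normalizer_eq]
  exact (Nat.card_congr (Subgroup.equivMapOfInjective _ _ (imgEquiv (G := G) (Ω := Ω)).injective).toEquiv)

/-- The orbits of a two-point stabiliser are the same in the image. -/
theorem card_orbits_img (α β : Ω) :
    Nat.card (orbitRel.Quotient ↥(stabilizer G α ⊓ stabilizer G β) Ω) =
      Nat.card (orbitRel.Quotient ↥(stabilizer (img G Ω) α ⊓ stabilizer (img G Ω) β) Ω) := by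
  refine Nat.card_congr (Quotient.congrRight fun x y => ?_)
  show x ∈ orbit _ y ↔ x ∈ orbit _ y
  constructor
  · rintro ⟨⟨g, hg⟩, rfl⟩
    exact ⟨⟨imgEquiv g, hg⟩, rfl⟩
  · rintro ⟨⟨g, hg⟩, rfl⟩
    obtain ⟨g, rfl⟩ := (imgEquiv (G := G) (Ω := Ω)).surjective g
    exact ⟨⟨g, hg⟩, rfl⟩

/-- At most two orbits of a two-point stabiliser on the other points. -/
theorem card_orbits_le_four {p : ℕ} (hp : p.Prime) (hΩ : Nat.card Ω = p) (ht : IsPretransitive G Ω)
    (hins : ¬ Group.IsSolvable G) (P : Sylow p G)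
    (hN : p * (p - 1) ≤ 2 * Nat.card (Subgroup.normalizer ((P : Subgroup G) : Set G))) {α β : Ω}
    (hab : α ≠ β) : Nat.card (orbitRel.Quotient ↥(stabilizer G α ⊓ stabilizer G β) Ω) ≤ 4 := by
  classical
  have : Fact p.Prime := ⟨hp⟩
  have : Fintype Ω := Fintype.ofFinite Ω
  rw [Nat.card_eq_fintype_card] at hΩ
  obtain ⟨e, he, hsq⟩ := exists_squares_action hΩ ht P hN
  have := img_pretransitive ht
  rw [card_orbits_img]
  exact card_orbits_le hΩ (img G Ω) (not_solvable_img hins) e he hsq hab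

theorem two_transitive {p : ℕ} (hp : p.Prime) (hΩ : Nat.card Ω = p) (ht : IsPretransitive G Ω)
    (hins : ¬ Group.IsSolvable G) : IsMultiplyPretransitive G Ω 2 := by
  classical
  have : Fact p.Prime := ⟨hp⟩
  have : Fintype Ω := Fintype.ofFinite Ω
  rw [Nat.card_eq_fintype_card] at hΩ
  have := img_pretransitive ht
  have h := two_transitive_of_insoluble hΩ (img G Ω) (not_solvable_img hins)
  rw [is_two_pretransitive_iff] at h ⊢
  intro a b c d hab hcd
  obtain ⟨g, hga, hgb⟩ := h hab hcd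
  obtain ⟨g, rfl⟩ := (imgEquiv (G := G) (Ω := Ω)).surjective g
  exact ⟨g, hga, hgb⟩

/-- A double transitive group is triply transitive when a two-point stabiliser has at most three
orbits. -/
theorem three_of_card_orbits (h2 : IsMultiplyPretransitive G Ω 2) {α β : Ω} (hab : α ≠ β)
    (h : Nat.card (orbitRel.Quotient ↥(stabilizer G α ⊓ stabilizer G β) Ω) ≤ 3) :
    IsMultiplyPretransitive G Ω 3 := by
  classical
  have h2' : ∀ {a b c d : Ω}, a ≠ b → c ≠ d → ∃ g : G, g • a = c ∧ g • b = d :=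
    fun hab hcd => is_two_pretransitive_iff.mp h2 hab hcd
  set H := stabilizer G α ⊓ stabilizer G β
  have hfix : ∀ (h : H), h • α = α ∧ h • β = β := fun h =>
    ⟨(Subgroup.mem_inf.1 h.2).1, (Subgroup.mem_inf.1 h.2).2⟩
  have key : ∀ x y : Ω, x ≠ α → x ≠ β → y ≠ α → y ≠ β → ∃ h : H, h • x = y := by
    intro x y hxa hxb hya hyb
    by_contra hno
    let cl : Ω → orbitRel.Quotient ↥H Ω := Quotient.mk''
    have hne : ∀ u v : Ω, u ∉ orbit ↥H v → cl u ≠ cl v := fun u v huv he => huv (Quotient.eq''.1 he)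
    have hfx : ∀ u : Ω, u ≠ α → u ∉ orbit ↥H α := fun u hu ⟨h, hh⟩ => hu (hh.symm.trans (hfix h).1)
    have hfy : ∀ u : Ω, u ≠ β → u ∉ orbit ↥H β := fun u hu ⟨h, hh⟩ => hu (hh.symm.trans (hfix h).2)
    have hxy : y ∉ orbit ↥H x := fun ⟨h, hh⟩ => hno ⟨h, hh⟩
    have : Fintype (orbitRel.Quotient ↥H Ω) := Fintype.ofFinite _
    have h4 : 4 ≤ Fintype.card (orbitRel.Quotient ↥H Ω) := by
      refine le_trans (le_of_eq ?_) (Finset.card_le_univ
        ({cl α, cl β, cl x, cl y} : Finset (orbitRel.Quotient ↥H Ω)))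
      rw [Finset.card_eq_four.2 ⟨cl α, cl β, cl x, cl y, (hne _ _ (hfy α hab)), (hne _ _ (hfx x hxa)).symm,
        (hne _ _ (hfx y hya)).symm, (hne _ _ (hfy x hxb)).symm, (hne _ _ (hfy y hyb)).symm,
        (hne _ _ hxy).symm, rfl⟩]
    rw [Nat.card_eq_fintype_card] at h
    omega
  refine ⟨fun s t => ?_⟩
  obtain ⟨g, hg0, hg1⟩ := h2' (s.injective.ne (show (0 : Fin 3) ≠ 1 by decide)) hab
  obtain ⟨k, hk0, hk1⟩ := h2' (t.injective.ne (show (0 : Fin 3) ≠ 1 by decide)) hab
  have hne : ∀ (g : G) (u : Fin 3 ↪ Ω), g • u 0 = α → g • u 1 = β → g • u 2 ≠ α ∧ g • u 2 ≠ β :=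
    fun g u h0 h1 => ⟨fun h => absurd (u.injective (smul_left_cancel g (h.trans h0.symm))) (by decide),
      fun h => absurd (u.injective (smul_left_cancel g (h.trans h1.symm))) (by decide)⟩
  obtain ⟨h, hh⟩ := key _ _ (hne g s hg0 hg1).1 (hne g s hg0 hg1).2 (hne k t hk0 hk1).1 (hne k t hk0 hk1).2
  refine ⟨k⁻¹ * (h : G) * g, Function.Embedding.ext fun i => ?_⟩
  show (k⁻¹ * (h : G) * g) • s i = t i
  rw [mul_smul, mul_smul, inv_smul_eq_iff]
  fin_cases i
  · show (h : G) • g • s 0 = k • t 0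
    rw [hg0, hk0]; exact (hfix h).1
  · show (h : G) • g • s 1 = k • t 1
    rw [hg1, hk1]; exact (hfix h).2
  · exact hh

end CfsgLib.PermGroup.Half
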