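import Mathlib

/-!
A linear space on `ZMod p`, `p > 7`, invariant under translations and square multipliers, with
lines of at least three and fewer than `p` points, admits no automorphisms transitive on the points
off a line while fixing it pointwise.

The lines have three points by counting along the square multipliers.  A line is then the orbit of
a multiplier `w` of order three, whose conjugation is fixed-point-free on the centralizer of the
pointwise stabilizer of the line; so the three reflections in the points of the line multiply to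
one, which holds for at most eight points as they are piecewise affine with different slopes.
-/

set_option autoImplicit false
set_option linter.unusedSectionVars false

open scoped Classical

namespace CfsgLib.PermGroup.Half

variable {p : ℕ} [Fact p.Prime]

/-- Collinearity in the linear space, with enough automorphisms. -/
structure Tri (p : ℕ) [Fact p.Prime] where
  R : ZMod p → ZMod p → ZMod p → Prop
  ne : ∀ {a b c}, R a b c → a ≠ b ∧ a ≠ c ∧ b ≠ c
  swap₂₃ : ∀ {a b c}, R a b c → R a c b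
  swap₁₂ : ∀ {a b c}, R a b c → R b a c
  line : ∀ {a b c d}, R a b c → R a b d → c ≠ d → R a c d
  shift : ∀ {a b c} (v : ZMod p), R a b c → R (a + v) (b + v) (c + v)
  scale : ∀ {a b c} (u : ZMod p), u ≠ 0 → R a b c → R (u ^ 2 * a) (u ^ 2 * b) (u ^ 2 * c)
  move : ∀ {a b a' b'}, a ≠ b → a' ≠ b' → ∃ h : ZMod p ≃ ZMod p, h a = a' ∧ h b = b' ∧
    ∀ x y z, R (h x) (h y) (h z) ↔ R x y z
  move_off : ∀ {a b x y}, a ≠ b → x ≠ a → x ≠ b → y ≠ a → y ≠ b → ¬ R a b x → ¬ R a b y →
    ∃ h : ZMod p ≃ ZMod p, h a = a ∧ h b = b ∧ h x = y ∧ ∀ u v z, R (h u) (h v) (h z) ↔ R u v z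
  ex : ∃ a b c, R a b c
  exnot : ∃ a b c, a ≠ b ∧ a ≠ c ∧ b ≠ c ∧ ¬ R a b c

theorem eleven : ∀ c : ZMod 11, c * (1 - c) ≠ 1 := by decide

namespace Tri

variable (T : Tri p)

/-- The line through two points. -/
noncomputable def ln (a b : ZMod p) : Finset (ZMod p) :=
  Finset.univ.filter fun x => x = a ∨ x = b ∨ T.R a b x

theorem mem_ln {a b x : ZMod p} : x ∈ T.ln a b ↔ x = a ∨ x = b ∨ T.R a b x := by simp [ln]

theorem ln_comm (a b : ZMod p) : T.ln a b = T.ln b a := by
  ext x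
  rw [T.mem_ln, T.mem_ln]
  exact ⟨fun h => h.elim (fun h => Or.inr (Or.inl h)) fun h => h.imp id fun h => Or.inr (T.swap₁₂ h),
    fun h => h.elim (fun h => Or.inr (Or.inl h)) fun h => h.imp id fun h => Or.inr (T.swap₁₂ h)⟩

theorem ln_eq_left {a b c : ZMod p} (hc : c ∈ T.ln a b) (hca : c ≠ a) : T.ln a c = T.ln a b := by
  rcases T.mem_ln.1 hc with h | h | h
  · exact absurd h hca
  · rw [h]
  · have key : ∀ {a b c : ZMod p}, T.R a b c → T.ln a b ⊆ T.ln a c := by
      intro a b c h x hx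
      rcases T.mem_ln.1 hx with e | e | e
      · exact T.mem_ln.2 (Or.inl e)
      · exact T.mem_ln.2 (Or.inr (Or.inr (e ▸ T.swap₂₃ h)))
      · by_cases hxc : x = c
        · exact T.mem_ln.2 (Or.inr (Or.inl hxc))
        · exact T.mem_ln.2 (Or.inr (Or.inr (T.line h e (Ne.symm hxc))))
    exact le_antisymm (key (T.swap₂₃ h)) (key h)

theorem ln_eq {a b c d : ZMod p} (hc : c ∈ T.ln a b) (hd : d ∈ T.ln a b) (hcd : c ≠ d) :
    T.ln c d = T.ln a b := by
  by_cases hca : c = a
  · subst hca; exact T.ln_eq_left hd (Ne.symm hcd)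
  · have e := T.ln_eq_left hc hca
    rw [← e, T.ln_comm a c] at hd
    rw [T.ln_eq_left hd (Ne.symm hcd), T.ln_comm c a, e]

theorem map_ln {h : ZMod p ≃ ZMod p} (hR : ∀ x y z, T.R (h x) (h y) (h z) ↔ T.R x y z)
    (a b : ZMod p) : (T.ln a b).map h.toEmbedding = T.ln (h a) (h b) := by
  ext x
  obtain ⟨y, rfl⟩ := h.surjective x
  rw [Finset.mem_map_equiv, h.symm_apply_apply, T.mem_ln, T.mem_ln, h.injective.eq_iff,
    h.injective.eq_iff, hR]

theorem card_ln {a b a' b' : ZMod p} (h : a ≠ b) (h' : a' ≠ b') :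
    (T.ln a' b').card = (T.ln a b).card := by
  obtain ⟨g, rfl, rfl, hg⟩ := T.move h h'
  rw [← T.map_ln hg, Finset.card_map]

/-- The size of a line. -/
noncomputable def k : ℕ := (T.ln 0 1).card

theorem card_eq_k {a b : ZMod p} (h : a ≠ b) : (T.ln a b).card = T.k :=
  T.card_ln zero_ne_one h

theorem three_le_k : 3 ≤ T.k := by
  obtain ⟨a, b, c, h⟩ := T.ex
  obtain ⟨h1, h2, h3⟩ := T.ne h
  rw [← T.card_eq_k h1, ← Finset.card_eq_three.2 ⟨a, b, c, h1, h2, h3, rfl⟩]
  refine Finset.card_le_card fun x hx => T.mem_ln.2 ?_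
  simp only [Finset.mem_insert, Finset.mem_singleton] at hx
  rcases hx with e | e | e
  exacts [Or.inl e, Or.inr (Or.inl e), Or.inr (Or.inr (e ▸ h))]

theorem k_lt : T.k < p := by
  obtain ⟨a, b, c, h1, h2, h3, h⟩ := T.exnot
  rw [← T.card_eq_k h1]
  refine lt_of_lt_of_eq (Finset.card_lt_univ_of_notMem (x := c) ?_) (ZMod.card p)
  rw [T.mem_ln]
  tauto

/-- Translation as a bijection. -/
theorem map_shift (a b v : ZMod p) :
    (T.ln a b).map (Equiv.addRight v).toEmbedding = T.ln (a + v) (b + v) := by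
  refine T.map_ln (h := Equiv.addRight v) (fun x y z => ⟨fun h => ?_, T.shift v⟩) a b
  have := T.shift (-v) h
  simpa using this

theorem map_scale (u : ZMod p) (hu : u ≠ 0) (a b : ZMod p) :
    (T.ln a b).map (Equiv.mulLeft₀ (u ^ 2) (pow_ne_zero 2 hu)).toEmbedding =
      T.ln (u ^ 2 * a) (u ^ 2 * b) := by
  refine T.map_ln (h := Equiv.mulLeft₀ (u ^ 2) (pow_ne_zero 2 hu))
    (fun x y z => ⟨fun h => ?_, T.scale u hu⟩) a b
  have := T.scale u⁻¹ (inv_ne_zero hu) h
  have e : ∀ t : ZMod p, u⁻¹ ^ 2 * (u ^ 2 * t) = t := fun t => by field_simp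
  change T.R (u⁻¹ ^ 2 * (u ^ 2 * x)) (u⁻¹ ^ 2 * (u ^ 2 * y)) (u⁻¹ ^ 2 * (u ^ 2 * z)) at this
  rwa [e, e, e] at this

/-- A translated line with coordinate sum zero. -/
def Can (L : Finset (ZMod p)) : Prop := (∃ a b, a ≠ b ∧ L = T.ln a b) ∧ ∑ x ∈ L, x = 0

/-- The translate of `L` with coordinate sum zero. -/
noncomputable def canon (L : Finset (ZMod p)) : Finset (ZMod p) :=
  L.map (Equiv.addRight (-(∑ x ∈ L, x) / (T.k : ZMod p))).toEmbedding

theorem k_ne : (T.k : ZMod p) ≠ 0 := by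
  rw [Ne, CharP.cast_eq_zero_iff (ZMod p) p]
  intro h
  have := Nat.le_of_dvd (by have := T.three_le_k; omega) h
  have := T.k_lt
  omega

theorem sum_map_shift (L : Finset (ZMod p)) (v : ZMod p) :
    ∑ x ∈ L.map (Equiv.addRight v).toEmbedding, x = (∑ x ∈ L, x) + L.card * v := by
  rw [Finset.sum_map]
  simp [Finset.sum_add_distrib]

theorem can_canon {a b : ZMod p} (h : a ≠ b) : T.Can (T.canon (T.ln a b)) := by
  constructor
  · exact ⟨_, _, fun e => h (add_right_cancel e), T.map_shift a b _⟩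
  · rw [canon, sum_map_shift, T.card_eq_k h, mul_div_cancel₀ _ T.k_ne, add_neg_cancel]

theorem canon_shift {L : Finset (ZMod p)} (hL : T.Can L) (v : ZMod p) :
    T.canon (L.map (Equiv.addRight v).toEmbedding) = L := by
  obtain ⟨⟨a, b, hab, rfl⟩, hs⟩ := hL
  rw [canon, sum_map_shift, hs, zero_add, T.card_eq_k hab, Finset.map_map]
  conv_rhs => rw [← Finset.map_refl (s := T.ln a b)]
  congr 1
  ext x
  have := T.k_ne
  simp only [Function.Embedding.trans_apply, Equiv.coe_toEmbedding, Equiv.coe_addRight,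
    Function.Embedding.refl_apply]
  field_simp
  ring

theorem can_scale {L : Finset (ZMod p)} (hL : T.Can L) {q : ZMod p} (hq : ∃ u, u ≠ 0 ∧ u ^ 2 = q) :
    T.Can (L.image (q * ·)) := by
  obtain ⟨⟨a, b, hab, rfl⟩, hs⟩ := hL
  obtain ⟨u, hu, rfl⟩ := hq
  refine ⟨⟨u ^ 2 * a, u ^ 2 * b, fun h => hab (mul_left_cancel₀ (pow_ne_zero 2 hu) h), ?_⟩, ?_⟩
  · rw [← T.map_scale u hu, Finset.map_eq_image]
    exact Finset.image_congr fun x _ => rfl
  · rw [Finset.sum_image fun x _ y _ h => mul_left_cancel₀ (pow_ne_zero 2 hu) h, ← Finset.mul_sum,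
      hs, mul_zero]

/-- A line fixed by a square multiplier of order three. -/
theorem exists_orbit_line : T.k = 3 ∧ ∃ u l : ZMod p, u ≠ 0 ∧ u ^ 2 ≠ 1 ∧ (u ^ 2) ^ 3 = 1 ∧
    l ≠ 0 ∧ T.ln l (u ^ 2 * l) = {l, u ^ 2 * l, u ^ 2 * (u ^ 2 * l)} := by
  have hk3 := T.three_le_k
  set D : Finset (ZMod p) := Finset.univ.erase 0 with hD
  have hDc : D.card = p - 1 := by
    rw [hD, Finset.card_erase_of_mem (Finset.mem_univ _), Finset.card_univ, ZMod.card]
  set Ls := D.image fun d => T.canon (T.ln 0 d) with hLs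
  have hmem : ∀ {L}, T.Can L → L ∈ Ls := by
    intro L hL
    obtain ⟨a, b, hab, hLe⟩ := hL.1
    refine Finset.mem_image.2 ⟨b - a, by simp [hD, sub_ne_zero, Ne.symm hab], ?_⟩
    rw [show T.ln 0 (b - a) = L.map (Equiv.addRight (-a)).toEmbedding by
      rw [hLe, T.map_shift, add_neg_cancel, sub_eq_add_neg], T.canon_shift hL]
  have hcan : ∀ L ∈ Ls, T.Can L := by
    intro L hL
    obtain ⟨d, hd, rfl⟩ := Finset.mem_image.1 hL
    exact T.can_canon (Ne.symm (Finset.ne_of_mem_erase hd))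
  have hcount : T.k * (T.k - 1) * Ls.card ≤ p - 1 := by
    rw [← hDc, hLs]
    refine Finset.mul_card_image_le_card (f := fun d => T.canon (T.ln 0 d)) D _ fun L hL => ?_
    obtain ⟨⟨a, b, hab, hLe⟩, -⟩ := hcan L hL
    rw [show T.k * (T.k - 1) = L.offDiag.card by
      rw [Finset.offDiag_card, hLe, T.card_eq_k hab, Nat.mul_sub, mul_one]]
    refine Finset.card_le_card_of_injOn (fun z => z.2 - z.1) (fun z hz => ?_) ?_
    · obtain ⟨h1, h2, h3⟩ := Finset.mem_offDiag.1 (Finset.mem_coe.1 hz)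
      refine Finset.mem_coe.2 (Finset.mem_filter.2 ⟨by simp [hD, sub_ne_zero, Ne.symm h3], ?_⟩)
      have hl : T.ln z.1 z.2 = L := by rw [hLe] at h1 h2 ⊢; exact T.ln_eq h1 h2 h3
      rw [show T.ln 0 (z.2 - z.1) = L.map (Equiv.addRight (-z.1)).toEmbedding by
        rw [← hl, T.map_shift, add_neg_cancel, sub_eq_add_neg], T.canon_shift (hcan L hL)]
    · intro z hz w hw e
      obtain ⟨h1, h2, h3⟩ := Finset.mem_offDiag.1 (Finset.mem_coe.1 hz)
      obtain ⟨h4, h5, h6⟩ := Finset.mem_offDiag.1 (Finset.mem_coe.1 hw)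
      have hz' : T.ln z.1 z.2 = L := by rw [hLe] at h1 h2 ⊢; exact T.ln_eq h1 h2 h3
      have hw' : T.ln w.1 w.2 = L := by rw [hLe] at h4 h5 ⊢; exact T.ln_eq h4 h5 h6
      simp only at e
      have hv : L.map (Equiv.addRight (w.1 - z.1)).toEmbedding = L := by
        conv_lhs => rw [← hz']
        rw [T.map_shift, show z.1 + (w.1 - z.1) = w.1 by ring,
          show z.2 + (w.1 - z.1) = w.2 by linear_combination e, hw']
      have hs := congrArg (fun L : Finset (ZMod p) => ∑ x ∈ L, x) hv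
      simp only [sum_map_shift, (hcan L hL).2, zero_add, show L.card = T.k by
        rw [hLe, T.card_eq_k hab], mul_eq_zero, T.k_ne, false_or] at hs
      have e1 := sub_eq_zero.1 hs
      exact Prod.ext e1.symm (by linear_combination e - e1)
  set L₀ := T.canon (T.ln 0 1) with hL₀
  have hC₀ : T.Can L₀ := T.can_canon zero_ne_one
  have hc₀ : L₀.card = T.k := by
    obtain ⟨a, b, hab, e⟩ := hC₀.1
    rw [e, T.card_eq_k hab]
  set Q := D.image (fun u => u ^ 2) with hQ
  have hQsq : ∀ q ∈ Q, ∃ u : ZMod p, u ≠ 0 ∧ u ^ 2 = q := fun q hq => by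
    obtain ⟨u, hu, rfl⟩ := Finset.mem_image.1 hq
    exact ⟨u, Finset.ne_of_mem_erase hu, rfl⟩
  have hQ2 : p - 1 ≤ 2 * Q.card := by
    rw [← hDc, hQ]
    refine Finset.card_le_mul_card_image D 2 fun q hq => ?_
    obtain ⟨u, hu, rfl⟩ := Finset.mem_image.1 hq
    refine (Finset.card_le_card (t := {u, -u}) fun v hv => ?_).trans Finset.card_le_two
    rcases sq_eq_sq_iff_eq_or_eq_neg.1 (Finset.mem_filter.1 hv).2 with e | e <;> simp [e]
  set S := Q.filter fun q => L₀.image (q * ·) = L₀ with hS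
  have hQS : Q.card ≤ S.card * Ls.card := by
    refine (Finset.card_le_mul_card_image (f := fun q => L₀.image (q * ·)) Q S.card
      fun L hL => ?_).trans (Nat.mul_le_mul_left _ (Finset.card_le_card ?_))
    · obtain ⟨q₀, hq₀, rfl⟩ := Finset.mem_image.1 hL
      obtain ⟨u₀, hu₀, rfl⟩ := hQsq q₀ hq₀
      refine Finset.card_le_card_of_injOn (fun q => (u₀ ^ 2)⁻¹ * q) (fun q hq => ?_)
        (fun q _ q' _ e => mul_left_cancel₀ (inv_ne_zero (pow_ne_zero 2 hu₀)) e)
      obtain ⟨hqQ, hqe⟩ := Finset.mem_filter.1 (Finset.mem_coe.1 hq)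
      obtain ⟨u, hu, rfl⟩ := hQsq q hqQ
      refine Finset.mem_coe.2 (Finset.mem_filter.2 ⟨Finset.mem_image.2 ⟨u / u₀,
        by simp [hD, hu, hu₀], by field_simp⟩, ?_⟩)
      have e := congrArg (Finset.image ((u₀ ^ 2)⁻¹ * ·)) hqe
      simp only [Finset.image_image] at e
      rw [show ((u₀ ^ 2)⁻¹ * ·) ∘ (u ^ 2 * ·) = ((u₀ ^ 2)⁻¹ * u ^ 2 * ·) from
        funext fun x => (mul_assoc _ _ x).symm, show ((u₀ ^ 2)⁻¹ * ·) ∘ (u₀ ^ 2 * ·) = id from
        funext fun x => inv_mul_cancel_left₀ (pow_ne_zero 2 hu₀) x, Finset.image_id] at e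
      exact e
    · intro L hL
      obtain ⟨q, hq, rfl⟩ := Finset.mem_image.1 hL
      exact hmem (T.can_scale hC₀ (hQsq q hq))
  have hkS : T.k * (T.k - 1) ≤ 2 * S.card := by
    have hpos : 0 < Ls.card := Finset.card_pos.2 ⟨L₀, hmem hC₀⟩
    refine Nat.le_of_mul_le_mul_right ?_ hpos
    calc T.k * (T.k - 1) * Ls.card ≤ p - 1 := hcount
      _ ≤ 2 * Q.card := hQ2
      _ ≤ 2 * S.card * Ls.card := by rw [mul_assoc]; omega
  obtain ⟨l, hl, hl0⟩ := Finset.exists_mem_ne (show 1 < L₀.card by omega) (0 : ZMod p)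
  have hSle : S.card ≤ (L₀.erase 0).card := by
    refine Finset.card_le_card_of_injOn (fun q => q * l) (fun q hq => ?_)
      (fun q _ q' _ e => mul_right_cancel₀ hl0 e)
    obtain ⟨hqQ, hqe⟩ := Finset.mem_filter.1 (Finset.mem_coe.1 hq)
    obtain ⟨u, hu, rfl⟩ := hQsq q hqQ
    refine Finset.mem_coe.2 (Finset.mem_erase.2 ⟨mul_ne_zero (pow_ne_zero 2 hu) hl0, ?_⟩)
    have h : u ^ 2 * l ∈ L₀.image (u ^ 2 * ·) := Finset.mem_image.2 ⟨l, hl, rfl⟩
    rwa [hqe] at h
  have hle : (L₀.erase 0).card ≤ T.k := hc₀ ▸ Finset.card_le_card (Finset.erase_subset _ _)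
  have hk : T.k = 3 := by
    have : T.k * (T.k - 1) ≤ T.k * 2 := by omega
    have := Nat.le_of_mul_le_mul_left this (by omega)
    omega
  rw [hk] at hkS hle hc₀
  have h0 : (0 : ZMod p) ∉ L₀ := fun h => by
    rw [Finset.card_erase_of_mem h, hc₀] at hSle
    omega
  obtain ⟨q, hq, hq1⟩ := Finset.exists_mem_ne (show 1 < S.card by omega) (1 : ZMod p)
  obtain ⟨hqQ, hqe⟩ := Finset.mem_filter.1 hq
  obtain ⟨u, hu, rfl⟩ := hQsq q hqQ
  have hmemq : ∀ x ∈ L₀, u ^ 2 * x ∈ L₀ := fun x hx => by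
    have h : u ^ 2 * x ∈ L₀.image (u ^ 2 * ·) := Finset.mem_image.2 ⟨x, hx, rfl⟩
    rwa [hqe] at h
  have hfix : ∀ x ∈ L₀, u ^ 2 * x ≠ x := fun x hx e =>
    hq1 (mul_right_cancel₀ (fun h => h0 (h ▸ hx)) (e.trans (one_mul x).symm))
  have h2 := hmemq _ hl
  have h3 := hmemq _ h2
  have h31 : u ^ 2 * (u ^ 2 * l) ≠ l := by
    intro e
    -- the third point would be fixed
    obtain ⟨z, hz, hzl, hzq⟩ : ∃ z ∈ L₀, z ≠ l ∧ z ≠ u ^ 2 * l := by
      by_contra h
      push Not at h
      have : L₀ ⊆ {l, u ^ 2 * l} := fun z hz => by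
        simp only [Finset.mem_insert, Finset.mem_singleton]
        by_cases hzl : z = l
        · exact Or.inl hzl
        · exact Or.inr (h z hz hzl)
      have := (Finset.card_le_card this).trans Finset.card_le_two
      omega
    have hsub : L₀ = {l, u ^ 2 * l, z} := (Finset.eq_of_subset_of_card_le (fun x hx => by
      simp only [Finset.mem_insert, Finset.mem_singleton] at hx
      rcases hx with rfl | rfl | rfl <;> assumption) (le_of_eq (by
      rw [hc₀, Finset.card_eq_three.2 ⟨l, u ^ 2 * l, z, (hfix l hl).symm, Ne.symm hzl, Ne.symm hzq,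
        rfl⟩]))).symm
    have h := hmemq z hz
    nth_rw 1 [hsub] at h
    simp only [Finset.mem_insert, Finset.mem_singleton] at h
    rcases h with h | h | h
    · exact hzq (mul_left_cancel₀ (pow_ne_zero 2 hu) (h.trans e.symm))
    · exact hzl (mul_left_cancel₀ (pow_ne_zero 2 hu) h)
    · exact hfix z hz h
  have hthree : L₀ = {l, u ^ 2 * l, u ^ 2 * (u ^ 2 * l)} :=
    (Finset.eq_of_subset_of_card_le (fun x hx => by
      simp only [Finset.mem_insert, Finset.mem_singleton] at hx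
      rcases hx with rfl | rfl | rfl <;> assumption) (le_of_eq (by
      rw [hc₀, Finset.card_eq_three.2 ⟨l, u ^ 2 * l, u ^ 2 * (u ^ 2 * l), (hfix l hl).symm,
        h31.symm, (hfix _ h2).symm, rfl⟩]))).symm
  refine ⟨hk, u, l, hu, hq1, ?_, hl0, ?_⟩
  · have h4 := hmemq _ h3
    nth_rw 1 [hthree] at h4
    simp only [Finset.mem_insert, Finset.mem_singleton] at h4
    rcases h4 with h | h | h
    · exact mul_right_cancel₀ hl0 (by rw [one_mul]; linear_combination h)
    · exact absurd (mul_left_cancel₀ (pow_ne_zero 2 hu) h) h31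
    · exact absurd h (hfix _ h3)
  · obtain ⟨a, b, -, hab⟩ := hC₀.1
    rw [← hthree, hab]
    exact T.ln_eq (hab ▸ hl) (hab ▸ h2) (hfix l hl).symm

/-- The third point of a line, when lines have three points. -/
noncomputable def op (a b : ZMod p) : ZMod p :=
  if h : ∃ c, T.R a b c then h.choose else a

theorem op_spec (hk : T.k = 3) {a b : ZMod p} (hab : a ≠ b) : T.R a b (T.op a b) := by
  have he : ∃ c, T.R a b c := by
    by_contra h
    push Not at h
    have hsub : T.ln a b ⊆ {a, b} := fun x hx => by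
      rcases T.mem_ln.1 hx with e | e | e
      · simp [e]
      · simp [e]
      · exact absurd e (h x)
    have := (Finset.card_le_card hsub).trans Finset.card_le_two
    rw [T.card_eq_k hab] at this
    omega
  rw [op, dif_pos he]
  exact he.choose_spec

theorem op_unique (hk : T.k = 3) {a b c : ZMod p} (h : T.R a b c) : T.op a b = c := by
  obtain ⟨hab, hac, hbc⟩ := T.ne h
  have h' := T.op_spec hk hab
  obtain ⟨-, hac', hbc'⟩ := T.ne h'
  by_contra hne
  have hsub : ({a, b, c, T.op a b} : Finset (ZMod p)) ⊆ T.ln a b := fun x hx => by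
    simp only [Finset.mem_insert, Finset.mem_singleton] at hx
    rw [T.mem_ln]
    rcases hx with e | e | e | e
    exacts [Or.inl e, Or.inr (Or.inl e), Or.inr (Or.inr (e ▸ h)), Or.inr (Or.inr (e ▸ h'))]
  have h4 := Finset.card_le_card hsub
  rw [Finset.card_eq_four.2 ⟨a, b, c, T.op a b, hab, hac, hac', hbc, hbc', Ne.symm hne, rfl⟩,
    T.card_eq_k hab] at h4
  omega

theorem op_map (hk : T.k = 3) {h : ZMod p ≃ ZMod p}
    (hR : ∀ x y z, T.R (h x) (h y) (h z) ↔ T.R x y z) (a b : ZMod p) :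
    T.op (h a) (h b) = h (T.op a b) := by
  by_cases hab : a = b
  · subst hab
    rw [op, op, dif_neg fun ⟨c, hc⟩ => (T.ne hc).1 rfl, dif_neg fun ⟨c, hc⟩ => (T.ne hc).1 rfl]
  · exact T.op_unique hk ((hR _ _ _).2 (T.op_spec hk hab))

theorem op_comm (hk : T.k = 3) {a b : ZMod p} (hab : a ≠ b) : T.op b a = T.op a b :=
  T.op_unique hk (T.swap₁₂ (T.op_spec hk hab))

theorem op_op (hk : T.k = 3) {a b : ZMod p} (hab : a ≠ b) : T.op a (T.op a b) = b :=
  T.op_unique hk (T.swap₂₃ (T.op_spec hk hab))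

theorem op_shift (hk : T.k = 3) (a b v : ZMod p) : T.op (a + v) (b + v) = T.op a b + v :=
  T.op_map hk (h := Equiv.addRight v) (fun x y z => ⟨fun h => by simpa using T.shift (-v) h,
    T.shift v⟩) a b

theorem op_scale (hk : T.k = 3) {u : ZMod p} (hu : u ≠ 0) (a b : ZMod p) :
    T.op (u ^ 2 * a) (u ^ 2 * b) = u ^ 2 * T.op a b := by
  refine T.op_map hk (h := Equiv.mulLeft₀ (u ^ 2) (pow_ne_zero 2 hu))
    (fun x y z => ⟨fun h => ?_, T.scale u hu⟩) a b
  have := T.scale u⁻¹ (inv_ne_zero hu) h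
  have e : ∀ t : ZMod p, u⁻¹ ^ 2 * (u ^ 2 * t) = t := fun t => by field_simp
  change T.R (u⁻¹ ^ 2 * (u ^ 2 * x)) (u⁻¹ ^ 2 * (u ^ 2 * y)) (u⁻¹ ^ 2 * (u ^ 2 * z)) at this
  rwa [e, e, e] at this

/-- The third point is piecewise affine with slopes `c` and `c⁻¹`, a root of `X ^ 2 - X + 1`. -/
theorem exists_slope (hk : T.k = 3) (hp : 5 ≤ p) :
    ∃ c : ZMod p, c * (1 - c) = 1 ∧ ∀ a b, a ≠ b →
      T.op a b = a + (if IsSquare (b - a) then c else 1 - c) * (b - a) := by
  obtain ⟨ε, hε⟩ := FiniteField.exists_nonsquare (F := ZMod p) (by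
    rw [ZMod.ringChar_zmod_n]; omega)
  have hε0 : ε ≠ 0 := fun h => hε (h ▸ IsSquare.zero)
  have hprod : ∀ d : ZMod p, d ≠ 0 → ¬ IsSquare d → ∃ u, u ≠ 0 ∧ d = u ^ 2 * ε := by
    intro d hd0 h
    have hsqr : IsSquare (d * ε) := by
      by_contra h'
      have a := (quadraticChar_neg_one_iff_not_isSquare).2 h
      have b := (quadraticChar_neg_one_iff_not_isSquare).2 hε
      have c' := (quadraticChar_neg_one_iff_not_isSquare).2 h'
      rw [map_mul, a, b] at c'
      exact absurd c' (by decide)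
    obtain ⟨c, hc⟩ := hsqr
    refine ⟨c / ε, div_ne_zero (fun h0 => mul_ne_zero hd0 hε0 (by rw [hc, h0, zero_mul])) hε0, ?_⟩
    field_simp
    linear_combination hc
  set c₁ := T.op 0 1
  set c₂ := T.op 0 ε / ε with hc₂
  set g : ZMod p → ZMod p := fun d => if IsSquare d then c₁ else c₂ with hg
  have hzero : ∀ d : ZMod p, d ≠ 0 → T.op 0 d = g d * d := by
    intro d hd
    simp only [hg]
    split_ifs with h
    · obtain ⟨u, rfl⟩ := h
      have hu : u ≠ 0 := fun h => hd (by rw [h, mul_zero])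
      have := T.op_scale hk hu 0 1
      rw [mul_zero, mul_one, sq] at this
      rw [this, mul_comm]
    · obtain ⟨u, hu, rfl⟩ := hprod d hd h
      have := T.op_scale hk hu 0 ε
      rw [mul_zero] at this
      rw [this, hc₂]
      field_simp
  have hgne : ∀ d : ZMod p, d ≠ 0 → g d ≠ 0 ∧ g d ≠ 1 := fun d hd => by
    obtain ⟨-, h1, h2⟩ := T.ne (T.op_spec hk (Ne.symm hd))
    rw [hzero d hd] at h1 h2
    exact ⟨fun e => h1 (by rw [e, zero_mul]), fun e => h2 (by rw [e, one_mul])⟩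
  have hneg : ∀ d : ZMod p, d ≠ 0 → g (-d) = 1 - g d := by
    intro d hd
    have h1 := T.op_comm hk (Ne.symm hd)
    have h2 := T.op_shift hk 0 (-d) d
    rw [zero_add, neg_add_cancel, h1, hzero d hd, hzero _ (neg_ne_zero.2 hd)] at h2
    refine mul_right_cancel₀ hd ?_
    linear_combination h2
  have hinv : ∀ d : ZMod p, d ≠ 0 → g (g d * d) * g d = 1 := by
    intro d hd
    have h := T.op_op hk (Ne.symm hd)
    rw [hzero d hd, hzero _ (mul_ne_zero (hgne d hd).1 hd)] at h
    exact mul_right_cancel₀ hd (by rw [one_mul, mul_assoc]; exact h)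
  have hcast : ∀ n : ℕ, 0 < n → n < p → (n : ZMod p) ≠ 0 := fun n h0 hn h => by
    rw [CharP.cast_eq_zero_iff (ZMod p) p] at h
    exact absurd (Nat.le_of_dvd h0 h) (by omega)
  have h2 : (2 : ZMod p) ≠ 0 := by simpa using hcast 2 (by norm_num) (by omega)
  have hm1 : ¬ IsSquare (-1 : ZMod p) := by
    intro hs
    have key : ∀ d : ZMod p, d ≠ 0 → 2 * g d = 1 := by
      intro d hd
      have h := hneg d hd
      have e : g (-d) = g d := by
        simp only [hg]
        by_cases hd' : IsSquare d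
        · rw [if_pos hd', if_pos (by simpa using hs.mul hd')]
        · rw [if_neg hd', if_neg fun hn => hd' (by simpa using hs.mul hn)]
      linear_combination h - e
    have h1 := key 1 one_ne_zero
    have h3 := hinv 1 one_ne_zero
    have h4 := key _ (mul_ne_zero (hgne 1 one_ne_zero).1 one_ne_zero)
    refine hcast 3 (by norm_num) (by omega) ?_
    push_cast
    linear_combination -(4 : ZMod p) * h3 + 2 * g 1 * h4 + h1
  have hsum : c₂ = 1 - c₁ := by
    have h := hneg 1 one_ne_zero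
    simp only [hg, if_pos IsSquare.one, if_neg hm1] at h
    exact h
  have hg1 : g 1 = c₁ := if_pos IsSquare.one
  have hc : c₁ * (1 - c₁) = 1 := by
    have h := hinv 1 one_ne_zero
    rw [mul_one, hg1] at h
    simp only [hg] at h
    split_ifs at h with hs
    · rcases mul_self_eq_one_iff.1 h with e | e
      · exact absurd (hg1.trans e) (hgne 1 one_ne_zero).2
      · exact absurd (e ▸ hs) hm1
    · rw [hsum] at h
      linear_combination h
  refine ⟨c₁, hc, fun a b hab => ?_⟩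
  have h := T.op_shift hk 0 (b - a) a
  rw [zero_add, sub_add_cancel] at h
  rw [h, hzero _ (sub_ne_zero.2 (Ne.symm hab))]
  simp only [hg, hsum]
  ring

/-- The permutations of the points off the line commuting with the automorphisms fixing it. -/
def cent (l₀ l₁ l₂ : ZMod p) : Subgroup (Equiv.Perm {x : ZMod p // x ∉ ({l₀, l₁, l₂} : Finset (ZMod p))}) where
  carrier := {g | ∀ h : ZMod p ≃ ZMod p, (∀ x y z, T.R (h x) (h y) (h z) ↔ T.R x y z) →
    h l₀ = l₀ → h l₁ = l₁ → h l₂ = l₂ →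
    ∀ x x' : {x : ZMod p // x ∉ ({l₀, l₁, l₂} : Finset (ZMod p))}, (x' : ZMod p) = h x → (g x' : ZMod p) = h (g x)}
  one_mem' := fun h _ _ _ _ x x' e => e
  mul_mem' := fun {g g'} hg hg' h h1 h2 h3 h4 x x' e =>
    hg h h1 h2 h3 h4 _ _ (hg' h h1 h2 h3 h4 x x' e)
  inv_mem' := fun {g} hg h h1 h2 h3 h4 x x' e => by
    have hm : h (g⁻¹ x : _).1 ∉ ({l₀, l₁, l₂} : Finset (ZMod p)) := by
      intro hm
      simp only [Finset.mem_insert, Finset.mem_singleton] at hm
      have hx := (g⁻¹ x).2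
      simp only [Finset.mem_insert, Finset.mem_singleton] at hx
      rcases hm with hm | hm | hm
      · exact hx (Or.inl (h.injective (hm.trans h2.symm)))
      · exact hx (Or.inr (Or.inl (h.injective (hm.trans h3.symm))))
      · exact hx (Or.inr (Or.inr (h.injective (hm.trans h4.symm))))
    have := hg h h1 h2 h3 h4 (g⁻¹ x) ⟨_, hm⟩ rfl
    have e1 : g (g⁻¹ x) = x := g.apply_symm_apply x
    rw [e1, ← e] at this
    have h' : g ⟨_, hm⟩ = x' := Subtype.ext this
    rw [← h']
    exact congrArg Subtype.val (g.symm_apply_apply _)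

/-- There is no such linear space. -/
theorem false_of_tri (T : Tri p) (hp : 7 < p) : False := by
  obtain ⟨hk, u, l, hu, hu1, hu3, hl0, hline⟩ := T.exists_orbit_line
  set q := u ^ 2 with hq
  have hq0 : q ≠ 0 := pow_ne_zero 2 hu
  obtain ⟨c, hc, hop⟩ := T.exists_slope hk (by omega)
  set L : Finset (ZMod p) := {l, q * l, q * (q * l)} with hL
  have hq3 : ∀ x, q * (q * (q * x)) = x := fun x => by linear_combination x * hu3
  have h01 : l ≠ q * l := fun h => hu1 (mul_right_cancel₀ hl0 (by rw [one_mul]; exact h.symm))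
  have hlne : ∀ i ∈ L, i ≠ 0 := by
    intro i hi
    simp only [hL, Finset.mem_insert, Finset.mem_singleton] at hi
    rcases hi with rfl | rfl | rfl
    exacts [hl0, mul_ne_zero hq0 hl0, mul_ne_zero hq0 (mul_ne_zero hq0 hl0)]
  have hLq : ∀ x, q * x ∈ L ↔ x ∈ L := by
    intro x
    simp only [hL, Finset.mem_insert, Finset.mem_singleton, mul_right_inj' hq0]
    constructor
    · rintro (h | h | h)
      · exact Or.inr (Or.inr (by rw [← h, hq3]))
      · exact Or.inl h
      · exact Or.inr (Or.inl h)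
    · rintro (h | h | h)
      · exact Or.inr (Or.inl h)
      · exact Or.inr (Or.inr h)
      · exact Or.inl (by rw [h, hq3])
  -- reflections in the points of the line
  have hout : ∀ i ∈ L, ∀ x, x ∉ L → T.op i x ∉ L := by
    intro i hi x hx h
    have hne : i ≠ x := fun e => hx (e ▸ hi)
    have hspec := T.op_spec hk hne
    apply hx
    rw [← hline] at hi h ⊢
    rw [← T.ln_eq hi h (T.ne hspec).2.1, T.mem_ln]
    exact Or.inr (Or.inr (T.swap₂₃ hspec))
  have hinvol : ∀ i ∈ L, ∀ x, x ∉ L → T.op i (T.op i x) = x := fun i hi x hx =>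
    T.op_op hk fun e => hx (e ▸ hi)
  let σ : ∀ i, i ∈ L → Equiv.Perm {x : ZMod p // x ∉ L} := fun i hi =>
    Function.Involutive.toPerm (fun x => ⟨T.op i x.1, hout i hi x.1 x.2⟩)
      (fun x => Subtype.ext (hinvol i hi x.1 x.2))
  set C := T.cent l (q * l) (q * (q * l)) with hC
  have hσC : ∀ i hi, σ i hi ∈ C := by
    intro i hi h h1 h2 h3 h4 x x' e
    show T.op i x' = h (T.op i x)
    have hhi : h i = i := by
      simp only [hL, Finset.mem_insert, Finset.mem_singleton] at hi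
      rcases hi with rfl | rfl | rfl
      exacts [h2, h3, h4]
    rw [e, ← T.op_map hk h1, hhi]
  have hsemi : ∀ g ∈ C, ∀ x₀, g x₀ = x₀ → g = 1 := by
    intro g hg x₀ h0
    refine Equiv.ext fun x => ?_
    have hR : ∀ y : {x : ZMod p // x ∉ L}, ¬ T.R l (q * l) y.1 := fun y hy => by
      have hm : y.1 ∈ T.ln l (q * l) := T.mem_ln.2 (Or.inr (Or.inr hy))
      rw [hline] at hm
      exact y.2 hm
    have hne : ∀ y : {x : ZMod p // x ∉ L}, y.1 ≠ l ∧ y.1 ≠ q * l := fun y =>
      ⟨fun e => y.2 (by simp [hL, e]), fun e => y.2 (by simp [hL, e])⟩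
    obtain ⟨h, h2, h3, hx, hhR⟩ :=
      T.move_off h01 (hne x₀).1 (hne x₀).2 (hne x).1 (hne x).2 (hR x₀) (hR x)
    have hl3 : T.op l (q * l) = q * (q * l) := by
      have hs := T.op_spec hk h01
      have hm : T.op l (q * l) ∈ L := by rw [← hline, T.mem_ln]; exact Or.inr (Or.inr hs)
      simp only [hL, Finset.mem_insert, Finset.mem_singleton] at hm
      rcases hm with e | e | e
      exacts [absurd e (T.ne hs).2.1.symm, absurd e (T.ne hs).2.2.symm, e]
    have h4 : h (q * (q * l)) = q * (q * l) := by rw [← hl3, ← T.op_map hk hhR, h2, h3]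
    have := hg h hhR h2 h3 h4 x₀ x hx.symm
    rw [h0, hx] at this
    exact Subtype.ext this
  -- the conjugation by the multiplier
  let ρ : Equiv.Perm {x : ZMod p // x ∉ L} :=
    (Equiv.mulLeft₀ q hq0).subtypeEquiv fun x => (not_congr (hLq x)).symm
  have hρ3 : ρ * ρ * ρ = 1 := Equiv.ext fun x => Subtype.ext (hq3 x.1)
  have hρC : ∀ g ∈ C, ρ * g * ρ⁻¹ ∈ C := by
    intro g hg h h1 h2 h3 h4 x x' e
    obtain ⟨y, rfl⟩ := ρ.surjective x
    obtain ⟨y', rfl⟩ := ρ.surjective x'
    set M := Equiv.mulLeft₀ q hq0 with hM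
    have hMR : ∀ a b c, T.R (M a) (M b) (M c) ↔ T.R a b c := by
      intro a b c
      refine ⟨fun h => ?_, T.scale u hu⟩
      have := T.scale u⁻¹ (inv_ne_zero hu) h
      have e : ∀ t : ZMod p, u⁻¹ ^ 2 * (u ^ 2 * t) = t := fun t => by field_simp
      change T.R (u⁻¹ ^ 2 * (u ^ 2 * a)) (u⁻¹ ^ 2 * (u ^ 2 * b)) (u⁻¹ ^ 2 * (u ^ 2 * c)) at this
      rwa [e, e, e] at this
    set h' := M.trans (h.trans M.symm) with hh'
    have hR' : ∀ a b c, T.R (h' a) (h' b) (h' c) ↔ T.R a b c := by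
      intro a b c
      rw [← hMR, ← hMR a, ← h1 (M a)]
      simp [hh']
    have hfix : ∀ i, h (q * i) = q * i → h' i = i := fun i hi => by
      show M.symm (h (M i)) = i
      rw [Equiv.symm_apply_eq]; exact hi
    have := hg h' hR' (hfix _ h3) (hfix _ h4) (hfix _ (by rw [hq3]; exact h2)) y y' (by
      show y'.1 = M.symm (h (M y.1))
      rw [Equiv.eq_symm_apply]; exact e)
    show (ρ (g (ρ⁻¹ (ρ y')))).1 = h (ρ (g (ρ⁻¹ (ρ y)))).1
    rw [Equiv.Perm.inv_def, Equiv.symm_apply_apply, Equiv.symm_apply_apply]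
    show M (g y').1 = h (M (g y).1)
    rw [this, hh', Equiv.trans_apply, Equiv.trans_apply, Equiv.apply_symm_apply]
  have h0L : (0 : ZMod p) ∉ L := fun h => hlne 0 h rfl
  have hfree : ∀ g ∈ C, ρ * g * ρ⁻¹ = g → g = 1 := by
    intro g hg h
    refine hsemi g hg ⟨0, h0L⟩ ?_
    have hρ0 : ρ⁻¹ ⟨0, h0L⟩ = ⟨0, h0L⟩ := by
      rw [Equiv.Perm.inv_def, Equiv.symm_apply_eq]
      exact Subtype.ext (mul_zero q).symm
    have h' := congrArg (fun f : Equiv.Perm {x : ZMod p // x ∉ L} => (f ⟨0, h0L⟩).1) h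
    simp only [Equiv.Perm.mul_apply, hρ0] at h'
    change q * (g ⟨0, h0L⟩).1 = (g ⟨0, h0L⟩).1 at h'
    refine Subtype.ext ?_
    by_contra h''
    exact hu1 (mul_right_cancel₀ h'' (by rw [one_mul]; exact h'))
  have hprod : ∀ g ∈ C, g * (ρ * g * ρ⁻¹) * (ρ * (ρ * g * ρ⁻¹) * ρ⁻¹) = 1 := by
    let f : C → C := fun k => ⟨k.1⁻¹ * (ρ * k.1 * ρ⁻¹), C.mul_mem (C.inv_mem k.2) (hρC _ k.2)⟩
    have hf : Function.Injective f := by
      intro k k' e
      have e' : k.1⁻¹ * (ρ * k.1 * ρ⁻¹) = k'.1⁻¹ * (ρ * k'.1 * ρ⁻¹) := congrArg Subtype.val e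
      have h1 := hfree (k'.1 * k.1⁻¹) (C.mul_mem k'.2 (C.inv_mem k.2)) (by
        have := congrArg (fun z => k'.1 * z * (ρ * k.1⁻¹ * ρ⁻¹)) e'
        calc ρ * (k'.1 * k.1⁻¹) * ρ⁻¹ = k'.1 * (k'.1⁻¹ * (ρ * k'.1 * ρ⁻¹)) * (ρ * k.1⁻¹ * ρ⁻¹) := by
              group
          _ = k'.1 * (k.1⁻¹ * (ρ * k.1 * ρ⁻¹)) * (ρ * k.1⁻¹ * ρ⁻¹) := this.symm
          _ = k'.1 * k.1⁻¹ := by group)
      exact Subtype.ext (mul_inv_eq_one.1 h1).symm
    intro g hg
    obtain ⟨k, hk'⟩ := (Finite.injective_iff_surjective.1 hf) ⟨g, hg⟩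
    obtain rfl : k.1⁻¹ * (ρ * k.1 * ρ⁻¹) = g := congrArg Subtype.val hk'
    calc _ = k.1⁻¹ * ((ρ * ρ * ρ) * k.1 * (ρ * ρ * ρ)⁻¹) := by group
      _ = 1 := by rw [hρ3]; group
  have hm₀ : l ∈ L := by simp [hL]
  have hm₁ : q * l ∈ L := (hLq l).2 hm₀
  have hm₂ : q * (q * l) ∈ L := (hLq _).2 hm₁
  have hconj : ∀ i (hi : i ∈ L), ρ * σ i hi * ρ⁻¹ = σ (q * i) ((hLq i).2 hi) := by
    intro i hi
    rw [mul_inv_eq_iff_eq_mul]
    exact Equiv.ext fun x => Subtype.ext (T.op_scale hk hu i x.1).symm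
  -- the product of the three reflections
  have hid : ∀ x : {x : ZMod p // x ∉ L},
      T.op (q * (q * l)) x.1 = T.op (q * l) (T.op l x.1) := by
    intro x
    have h := hprod _ (hσC l hm₀)
    rw [hconj l hm₀, hconj (q * l) hm₁] at h
    have h' := congrArg (fun f : Equiv.Perm {x : ZMod p // x ∉ L} =>
      (σ (q * l) hm₁ (σ l hm₀ (f x))).1) h
    simp only [Equiv.Perm.mul_apply, Equiv.Perm.one_apply] at h'
    change T.op (q * l) (T.op l (T.op l (T.op (q * l) (T.op (q * (q * l)) x.1)))) = _ at h'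
    rw [hinvol l hm₀ _ (hout _ hm₁ _ (hout _ hm₂ _ x.2)), hinvol _ hm₁ _ (hout _ hm₂ _ x.2)] at h'
    exact h'
  -- the slopes differ
  set s : Bool → ZMod p := fun b => if b then c else 1 - c with hs
  have hslope : ∀ a b d, s a * s b ≠ s d := by
    have hcube : ∀ b, s b ^ 3 = -1 := by
      intro b
      cases b
      · show (1 - c) ^ 3 = -1
        linear_combination -(2 - c) * hc
      · show c ^ 3 = -1
        linear_combination -(c + 1) * hc
    intro a b d h
    have h6 := congrArg (fun z => z ^ 3) h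
    simp only [mul_pow, hcube] at h6
    have h2 : ((2 : ℕ) : ZMod p) = 0 := by push_cast; linear_combination h6
    rw [CharP.cast_eq_zero_iff (ZMod p) p] at h2
    exact absurd (Nat.le_of_dvd (by norm_num) h2) (by omega)
  let code : {x : ZMod p // x ∉ L} → Bool × Bool × Bool := fun x =>
    (decide (IsSquare (x.1 - l)), decide (IsSquare (T.op l x.1 - q * l)),
      decide (IsSquare (x.1 - q * (q * l))))
  have hinj : Function.Injective code := by
    intro x y e
    simp only [code, Prod.mk.injEq, decide_eq_decide] at e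
    obtain ⟨e1, e2, e3⟩ := e
    have hexp : ∀ z : {x : ZMod p // x ∉ L},
        q * (q * l) + s (decide (IsSquare (z.1 - q * (q * l)))) * (z.1 - q * (q * l)) =
        q * l + s (decide (IsSquare (T.op l z.1 - q * l))) *
          (l + s (decide (IsSquare (z.1 - l))) * (z.1 - l) - q * l) := by
      intro z
      have h := hid z
      have n0 : l ≠ z.1 := fun e => z.2 (e ▸ hm₀)
      have n1 : q * l ≠ T.op l z.1 := fun e => hout l hm₀ z.1 z.2 (e ▸ hm₁)
      have n2 : q * (q * l) ≠ z.1 := fun e => z.2 (e ▸ hm₂)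
      rw [hop _ _ n2, hop _ _ n1] at h
      simp only [hs, decide_eq_true_eq]
      rw [← hop _ _ n0]
      exact h
    have hx := hexp x
    have hy := hexp y
    rw [← decide_eq_decide.2 e1, ← decide_eq_decide.2 e2, ← decide_eq_decide.2 e3] at hy
    refine Subtype.ext (sub_eq_zero.1 ?_)
    refine (mul_eq_zero.1 (show (s (decide (IsSquare (x.1 - q * (q * l)))) -
      s (decide (IsSquare (T.op l x.1 - q * l))) * s (decide (IsSquare (x.1 - l)))) * (x.1 - y.1) = 0
      by linear_combination hx - hy)).resolve_left (sub_ne_zero.2 (hslope _ _ _).symm)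
  have hcard := Fintype.card_le_of_injective code hinj
  rw [Fintype.card_subtype_compl, Fintype.card_coe, ZMod.card] at hcard
  have h3 : L.card ≤ 3 := Finset.card_le_three
  simp only [Fintype.card_prod, Fintype.card_bool] at hcard
  have h11 : p = 11 := by
    have := (Fact.out : p.Prime)
    rcases (show p = 8 ∨ p = 9 ∨ p = 10 ∨ p = 11 by omega) with h | h | h | h
    · exact absurd (h ▸ this) (by norm_num)
    · exact absurd (h ▸ this) (by norm_num)
    · exact absurd (h ▸ this) (by norm_num)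
    · exact h
  subst h11
  exact eleven c hc

end Tri

end CfsgLib.PermGroup.Half
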