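import Cfsg.Agent.Lib.PermGroup.ThreeTrans

/-!
Transitive groups of prime degree `p` whose Sylow normaliser has order `p (p - 1) / 2`: all square
multipliers are present, and a two-point stabiliser has at most two orbits on the other points.
-/

set_option autoImplicit false
set_option linter.unusedSectionVars false

open MulAction
open scoped Classical

namespace CfsgLib.PermGroup.Half

variable {α : Type*} [Fintype α] {p : ℕ} [Fact p.Prime]

/-- `G` contains the multiplications by the non-zero squares of the labelling `e`. -/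
def HasSquares (G : Subgroup (Equiv.Perm α)) (e : ZMod p ≃ α) : Prop :=
  ∀ c : ZMod p, c ≠ 0 → ∃ g ∈ G, ∀ j, g (e j) = e (c ^ 2 * j)

theorem card_sylow_eq (hα : Fintype.card α = p) (G : Subgroup (Equiv.Perm α))
    [IsPretransitive G α] (P : Sylow p G) : Nat.card (P : Subgroup G) = p := by
  have hp := (Fact.out : p.Prime)
  obtain ⟨n, hn⟩ := IsPGroup.iff_card.mp P.isPGroup'
  have h1 : p ^ n ∣ Nat.card G := hn ▸ Subgroup.card_subgroup_dvd_card _
  have hn1 : n ≤ 1 := by
    by_contra h
    exact sq_not_dvd_card hα G ((sq p ▸ pow_dvd_pow p (by omega : 2 ≤ n)).trans h1)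
  have hn0 : n ≠ 0 := by
    rintro rfl
    have h2 := P.not_dvd_index
    have h3 : p ∣ Nat.card G := prime_dvd_card hα G
    rw [← (P : Subgroup G).card_mul_index, hn, pow_zero, one_mul] at h3
    exact h2 h3
  rw [hn, show n = 1 by omega, pow_one]

/-- A labelling in which the Sylow normaliser is affine with every square slope. -/
theorem exists_squares (hα : Fintype.card α = p) (G : Subgroup (Equiv.Perm α))
    [IsPretransitive G α] (P : Sylow p G)
    (hN : p * (p - 1) ≤ 2 * Nat.card (Subgroup.normalizer ((P : Subgroup G) : Set G))) :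
    ∃ e : ZMod p ≃ α, HasTranslations G e ∧ HasSquares G e := by
  have hp := (Fact.out : p.Prime)
  have hPc := card_sylow_eq hα G P
  obtain ⟨s, hs⟩ := exists_prime_orderOf_dvd_card' (G := (P : Subgroup G)) p (by rw [hPc])
  set σ : Equiv.Perm α := ((s : G) : Equiv.Perm α)
  have hσp : σ ^ p = 1 := by
    have h := pow_orderOf_eq_one s
    rw [hs] at h
    exact congrArg (fun u : (P : Subgroup G) => ((u : G) : Equiv.Perm α)) h
  obtain ⟨a, ha⟩ : ∃ a, σ a ≠ a := by
    by_contra h
    simp only [not_exists, not_not] at h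
    have : s = 1 := Subtype.ext (Subtype.ext (Equiv.ext h))
    rw [this, orderOf_one] at hs
    exact hp.one_lt.ne hs
  obtain ⟨e, -, he⟩ := exists_labelling hα hσp ha
  have htr := hasTranslations_of_step (s : G).2 he
  refine ⟨e, htr, ?_⟩
  have hz : Subgroup.zpowers s = ⊤ := by
    refine Subgroup.eq_top_of_card_eq _ ?_
    rw [Nat.card_zpowers, hs, hPc]
  have hpow : ∀ (n : ℕ) j, (σ ^ n) (e j) = e (j + n) := by
    intro n j
    induction n with
    | zero => simp
    | succ n ih => rw [pow_succ', Equiv.Perm.mul_apply, ih, he, Nat.cast_succ, add_assoc]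
  have haff : ∀ n ∈ Subgroup.normalizer ((P : Subgroup G) : Set G),
      IsAffineOn e ((n : G) : Equiv.Perm α) := by
    intro n hn
    have hconj : n * (s : G) * n⁻¹ ∈ (P : Subgroup G) :=
      (Subgroup.mem_normalizer_iff.mp hn _).mp s.2
    obtain ⟨k, hk⟩ : ∃ k : ℕ, ∀ x, (n : Equiv.Perm α) (σ x) = (σ ^ k) ((n : Equiv.Perm α) x) := by
      obtain ⟨k, hk⟩ := (IsOfFinOrder.mem_powers_iff_mem_zpowers (isOfFinOrder_of_finite s)).mpr
        (hz.symm ▸ Subgroup.mem_top (⟨_, hconj⟩ : (P : Subgroup G)))
      refine ⟨k, fun x => ?_⟩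
      have h := congrArg (fun u : (P : Subgroup G) => ((u : G) : Equiv.Perm α) ((n : Equiv.Perm α) x)) hk
      simp only [Subgroup.coe_pow, Subgroup.coe_mul, Subgroup.coe_inv, Equiv.Perm.mul_apply] at h
      rw [h, Equiv.Perm.inv_def, Equiv.symm_apply_apply]
    refine affine_of_conj (k := (k : ZMod p)) fun j => ?_
    rw [← he, hk, ← hpow, e.apply_symm_apply]
  let S : Subgroup (ZMod p)ˣ :=
    { carrier := {c | ∃ g ∈ G, ∀ j, g (e j) = e (c * j)}
      one_mem' := ⟨1, G.one_mem, fun j => by simp⟩
      mul_mem' := by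
        rintro c c' ⟨g, hg, hgj⟩ ⟨g', hg', hgj'⟩
        exact ⟨g * g', G.mul_mem hg hg', fun j => by
          rw [Equiv.Perm.mul_apply, hgj', hgj, Units.val_mul, mul_assoc]⟩
      inv_mem' := by
        rintro c ⟨g, hg, hgj⟩
        refine ⟨g⁻¹, G.inv_mem hg, fun j => ?_⟩
        rw [Equiv.Perm.inv_def, Equiv.symm_apply_eq, hgj, Units.mul_inv_cancel_left] }
  set N := Subgroup.normalizer ((P : Subgroup G) : Set G)
  have hdata : ∀ n : N, ∃ c : S, ∃ v : ZMod p, ∀ j,
      ((n : G) : Equiv.Perm α) (e j) = e (((c : (ZMod p)ˣ) : ZMod p) * j + v) := by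
    intro n
    obtain ⟨k, v, hkv⟩ := haff n n.2
    have hk : k ≠ 0 := by
      rintro rfl
      have h := ((n : G) : Equiv.Perm α).injective ((hkv 1).trans (by rw [hkv 0]; simp))
      exact one_ne_zero (e.injective h)
    obtain ⟨t, ht, htj⟩ := htr (-v)
    refine ⟨⟨Units.mk0 k hk, t * (n : G), G.mul_mem ht (n : G).2, fun j => ?_⟩, v, hkv⟩
    rw [Equiv.Perm.mul_apply, hkv, htj, Units.val_mk0, add_neg_cancel_right]
  choose fc fv hf using hdata
  have hinj : Function.Injective fun n => (fc n, fv n) := by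
    intro n n' h
    refine Subtype.ext (Subtype.ext (Equiv.ext fun x => ?_))
    obtain ⟨j, rfl⟩ := e.surjective x
    simp only [Prod.mk.injEq] at h
    rw [hf, hf, h.1, h.2]
  have hle := Nat.card_le_card_of_injective _ hinj
  rw [Nat.card_prod, Nat.card_zmod] at hle
  have hidx : S.index ≤ 2 := by
    have hmul := S.card_mul_index
    rw [Nat.card_units, Nat.card_zmod] at hmul
    have h1 : p - 1 ≤ 2 * Nat.card S := by
      refine Nat.le_of_mul_le_mul_left ?_ hp.pos
      calc p * (p - 1) ≤ 2 * Nat.card N := hN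
        _ ≤ p * (2 * Nat.card S) := by nlinarith
    have := Nat.card_pos (α := S)
    nlinarith
  intro c hc
  have hsq : Units.mk0 c hc ^ 2 ∈ S := by
    rcases (show S.index = 1 ∨ S.index = 2 by
      have := Subgroup.index_ne_zero_of_finite (H := S)
      omega) with h | h
    · rw [Subgroup.index_eq_one.1 h]; exact Subgroup.mem_top _
    · exact Subgroup.sq_mem_of_index_two h _
  obtain ⟨g, hg, hgj⟩ := hsq
  exact ⟨g, hg, fun j => by simpa using hgj j⟩

/-- With all square multipliers, a two-point stabiliser has at most two orbits on the other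
points. -/
theorem card_orbits_le (hα : Fintype.card α = p) (G : Subgroup (Equiv.Perm α))
    [IsPretransitive G α] (hG : ¬ Group.IsSolvable G) (e : ZMod p ≃ α)
    (he : HasTranslations G e) (hsq : HasSquares G e) {a₀ b₀ : α} (hab : a₀ ≠ b₀) :
    Nat.card (orbitRel.Quotient ↥(stabilizer G a₀ ⊓ stabilizer G b₀) α) ≤ 4 := by
  have hp := (Fact.out : p.Prime)
  have h5 := five_le_of_insoluble hα G hG
  have h2 := two_transitive_of_insoluble hα G hG
  have hmove : ∀ a b : α, a ≠ b → ∃ g : G, g • a₀ = a ∧ g • b₀ = b :=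
    fun a b h => is_two_pretransitive_iff.mp h2 hab h
  choose mv hmv₁ hmv₂ using hmove
  set H := stabilizer G a₀ ⊓ stabilizer G b₀
  let cl : α → orbitRel.Quotient ↥H α := Quotient.mk''
  have hwd : ∀ {g g' : G}, g • a₀ = g' • a₀ → g • b₀ = g' • b₀ →
      ∀ x, cl (g⁻¹ • x) = cl (g'⁻¹ • x) := by
    intro g g' ha hb x
    refine Quotient.sound' (show g⁻¹ • x ∈ orbit ↥H (g'⁻¹ • x) from ?_)
    have hm : g⁻¹ * g' ∈ H := Subgroup.mem_inf.2 ⟨mem_stabilizer_iff.2 (by
      rw [mul_smul, ← ha, inv_smul_smul]), mem_stabilizer_iff.2 (by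
      rw [mul_smul, ← hb, inv_smul_smul])⟩
    exact ⟨⟨_, hm⟩, by show (g⁻¹ * g') • g'⁻¹ • x = _; rw [← mul_smul, mul_inv_cancel_right]⟩
  -- the maps to functions on ordered pairs
  let F : (orbitRel.Quotient ↥H α → ZMod p) → ∀ a b : α, a ≠ b → (α → ZMod p) → ZMod p :=
    fun u a b h v => ∑ x, u (cl ((mv a b h)⁻¹ • x)) * v x
  have hequiv : ∀ u a b (h : a ≠ b) (g : G) (h' : g • a ≠ g • b) v,
      F u (g • a) (g • b) h' v = F u a b h (fun x => v (g • x)) := by
    intro u a b h g h' v
    refine (Fintype.sum_equiv (MulAction.toPerm g) _ _ fun x => ?_).symm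
    rw [MulAction.toPerm_apply]
    congr 2
    have hx : (g * mv a b h)⁻¹ • (g • x) = (mv a b h)⁻¹ • x := by
      rw [mul_inv_rev, ← mul_smul, inv_mul_cancel_right]
    rw [← hx]
    refine hwd ?_ ?_ _
    · rw [mul_smul, hmv₁, hmv₁]
    · rw [mul_smul, hmv₂, hmv₂]
  have hone : ∀ u a b (h : a ≠ b) (t : ZMod p),
      F u a b h (fun _ => t) = t * ∑ x, u (cl x) := by
    intro u a b h t
    show ∑ x, _ * t = _
    rw [← Finset.sum_mul, mul_comm]
    congr 1
    refine Fintype.sum_equiv (MulAction.toPerm (mv a b h)⁻¹) _ _ fun x => ?_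
    rfl
  set X : α → ZMod p := xfun (ZMod p) e
  have hXe : ∀ j, X (e j) = j := fun j => by
    rw [show X (e j) = pt (ZMod p) j from xfun_apply _ e j,
      RingHom.congr_fun (Subsingleton.elim (pt (ZMod p)) (RingHom.id _)) j, RingHom.id_apply]
  obtain ⟨ε, hε⟩ := FiniteField.exists_nonsquare (F := ZMod p) (by
    rw [ZMod.ringChar_zmod_n]; omega)
  have hε0 : ε ≠ 0 := fun h => hε (h ▸ IsSquare.zero)
  have h01 : e 0 ≠ e 1 := fun h => zero_ne_one (e.injective h)
  have h0ε : e 0 ≠ e ε := fun h => hε0 (e.injective h).symm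
  let Φ : (orbitRel.Quotient ↥H α → ZMod p) →ₗ[ZMod p] ZMod p × ZMod p × ZMod p :=
    { toFun := fun u => (∑ x, u (cl x), F u (e 0) (e 1) h01 X, F u (e 0) (e ε) h0ε X)
      map_add' := fun u u' => by simp [F, add_mul, Finset.sum_add_distrib]
      map_smul' := fun c u => by simp [F, Finset.mul_sum, mul_assoc] }
  have hker : LinearMap.ker Φ ≤ Submodule.span (ZMod p) {fun _ => 1} := by
    intro u hu
    rw [LinearMap.mem_ker] at hu
    have hS : ∑ x, u (cl x) = 0 := congrArg Prod.fst hu
    have h1 : F u (e 0) (e 1) h01 X = 0 := congrArg (fun z => z.2.1) hu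
    have hε' : F u (e 0) (e ε) h0ε X = 0 := congrArg (fun z => z.2.2) hu
    have hcong : ∀ {a b a' b'} (h : a ≠ b) (h' : a' ≠ b') v, a = a' → b = b' →
        F u a b h v = F u a' b' h' v := by
      rintro a b _ _ h h' v rfl rfl; rfl
    have hbase : ∀ d (hd : e 0 ≠ e d), F u (e 0) (e d) hd X = 0 := by
      intro d hd
      have hd0 : d ≠ 0 := fun h => hd (by rw [h])
      obtain ⟨c, d', hd', hcd⟩ : ∃ c d', (d' = 1 ∨ d' = ε) ∧ d = c ^ 2 * d' := by
        by_cases h : IsSquare d
        · obtain ⟨c, rfl⟩ := h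
          exact ⟨c, 1, Or.inl rfl, by ring⟩
        · have hsqr : IsSquare (d * ε) := by
            by_contra h'
            have a := (quadraticChar_neg_one_iff_not_isSquare).2 h
            have b := (quadraticChar_neg_one_iff_not_isSquare).2 hε
            have c' := (quadraticChar_neg_one_iff_not_isSquare).2 h'
            rw [map_mul, a, b] at c'
            exact absurd c' (by decide)
          obtain ⟨c, hc⟩ := hsqr
          exact ⟨c / ε, ε, Or.inr rfl, by field_simp; linear_combination hc⟩
      have hc0 : c ≠ 0 := fun h => hd0 (by rw [hcd, h]; ring)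
      obtain ⟨g, hg, hgj⟩ := hsq c hc0
      have hd'0 : e 0 ≠ e d' := by rcases hd' with rfl | rfl <;> assumption
      have e1 : (⟨g, hg⟩ : G) • e 0 = e 0 := (hgj 0).trans (by rw [mul_zero])
      have e2 : (⟨g, hg⟩ : G) • e d' = e d := (hgj d').trans (by rw [← hcd])
      rw [hcong hd (by rw [e1, e2]; exact hd) X e1.symm e2.symm, hequiv u _ _ hd'0]
      have hv : (fun x => X ((⟨g, hg⟩ : G) • x)) = fun x => c ^ 2 * X x := by
        funext x
        obtain ⟨j, rfl⟩ := e.surjective x
        rw [show (⟨g, hg⟩ : G) • e j = e (c ^ 2 * j) from hgj j, hXe, hXe]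
      rw [hv]
      have hsum : F u (e 0) (e d') hd'0 (fun x => c ^ 2 * X x) =
          c ^ 2 * F u (e 0) (e d') hd'0 X := by
        show ∑ x, _ = c ^ 2 * ∑ x, _
        rw [Finset.mul_sum]
        exact Finset.sum_congr rfl fun x _ => by ring
      rw [hsum]
      rcases hd' with rfl | rfl
      · rw [h1, mul_zero]
      · rw [hε', mul_zero]
    have hall : ∀ a b (h : a ≠ b), F u a b h X = 0 := by
      intro a b h
      obtain ⟨i, rfl⟩ := e.surjective a
      obtain ⟨k, rfl⟩ := e.surjective b
      obtain ⟨g, hg, hgj⟩ := he i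
      have hd : e 0 ≠ e (k - i) := fun h' => h (by
        rw [sub_eq_zero.1 (e.injective h').symm])
      have e1 : (⟨g, hg⟩ : G) • e 0 = e i := (hgj 0).trans (by rw [zero_add])
      have e2 : (⟨g, hg⟩ : G) • e (k - i) = e k := (hgj (k - i)).trans (by rw [sub_add_cancel])
      rw [hcong h (by rw [e1, e2]; exact h) X e1.symm e2.symm, hequiv u _ _ hd]
      have hv : (fun x => X ((⟨g, hg⟩ : G) • x)) = X + fun _ => i := by
        funext x
        obtain ⟨j, rfl⟩ := e.surjective x
        rw [Pi.add_apply, show (⟨g, hg⟩ : G) • e j = e (j + i) from hgj j, hXe, hXe]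
      rw [hv]
      have hsum : F u (e 0) (e (k - i)) hd (X + fun _ => i) =
          F u (e 0) (e (k - i)) hd X + F u (e 0) (e (k - i)) hd (fun _ => i) := by
        show ∑ x, _ = (∑ x, _) + ∑ x, _
        rw [← Finset.sum_add_distrib]
        exact Finset.sum_congr rfl fun x _ => by rw [Pi.add_apply, mul_add]
      rw [hsum, hbase _ hd, hone, hS, mul_zero, add_zero]
    let U : Subrepresentation (Cfsg.permRep (ZMod p) G α) :=
      { toSubmodule :=
          { carrier := {v | v ∈ (Cfsg.permSumZero (ZMod p) G α).toSubmodule ∧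
              ∀ a b (h : a ≠ b), F u a b h v = 0}
            zero_mem' := ⟨Submodule.zero_mem _, fun a b h => by simp [F]⟩
            add_mem' := fun {v w} hv hw => ⟨Submodule.add_mem _ hv.1 hw.1, fun a b h => by
              have e1 := hv.2 a b h
              have e2 := hw.2 a b h
              simp only [F] at e1 e2 ⊢
              simp only [Pi.add_apply, mul_add, Finset.sum_add_distrib, e1, e2, add_zero]⟩
            smul_mem' := fun c {v} hv => ⟨Submodule.smul_mem _ c hv.1, fun a b h => by
              have e1 := hv.2 a b h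
              simp only [F] at e1 ⊢
              simp only [Pi.smul_apply, smul_eq_mul, mul_left_comm _ c, ← Finset.mul_sum, e1,
                mul_zero]⟩ }
        apply_mem_toSubmodule := by
          rintro g v ⟨hv, hv'⟩
          refine ⟨(Cfsg.permSumZero (ZMod p) G α).apply_mem_toSubmodule g hv, fun a b h => ?_⟩
          have h' : g⁻¹ • a ≠ g⁻¹ • b := fun h' => h (smul_left_cancel _ h')
          rw [show Cfsg.permRep (ZMod p) G α g v = fun x => v (g⁻¹ • x) from
            funext fun x => permRep_apply (K := ZMod p) g v x, ← hequiv u a b h g⁻¹ h']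
          exact hv' _ _ h' }
    have hC : (Cfsg.permConstants (ZMod p) G α).toSubmodule ≤ U.toSubmodule := by
      intro v hv
      obtain ⟨c, hc⟩ := mem_permConstants_iff.mp hv
      refine ⟨mem_permSumZero_iff.mpr (by simp [hc, hα]), fun a b h => ?_⟩
      rw [show v = fun _ => c from funext hc, hone, hS, mul_zero]
    have hUtop : U = Cfsg.permSumZero (ZMod p) G α := by
      rcases heart_irreducible (ZMod p) hα G hG U hC (fun v hv => hv.1) with h | h
      · exact absurd (h ▸ (⟨xfun_mem_sumZero _ G e (by omega), hall⟩ : X ∈ U.toSubmodule))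
          (xfun_not_mem_constants (ZMod p) G e)
      · exact h
    refine Submodule.mem_span_singleton.2 ⟨u (cl a₀), ?_⟩
    funext q
    refine Quotient.inductionOn' q fun y => ?_
    rw [Pi.smul_apply, smul_eq_mul, mul_one]
    show u (cl a₀) = u (cl y)
    set g := mv a₀ b₀ hab with hg
    have hmem : Pi.single (g • a₀) (1 : ZMod p) - Pi.single (g • y) 1 ∈ U.toSubmodule := by
      rw [hUtop, mem_permSumZero_iff]
      simp [Finset.sum_sub_distrib, Finset.sum_pi_single']
    have h0 := hmem.2 a₀ b₀ hab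
    simp only [F, ← hg] at h0
    simp only [Pi.sub_apply, mul_sub, Finset.sum_sub_distrib, Pi.single_apply, mul_ite, mul_one,
      mul_zero, Finset.sum_ite_eq', Finset.mem_univ, if_true, inv_smul_smul] at h0
    exact sub_eq_zero.1 h0
  have : Fintype (orbitRel.Quotient ↥H α) := Fintype.ofFinite _
  have hdim := LinearMap.finrank_range_add_finrank_ker Φ
  rw [Module.finrank_fintype_fun_eq_card] at hdim
  have h3 := Submodule.finrank_le (LinearMap.range Φ)
  rw [Module.finrank_prod, Module.finrank_prod, Module.finrank_self] at h3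
  have hk : Module.finrank (ZMod p) (LinearMap.ker Φ) ≤ 1 := (Submodule.finrank_mono hker).trans
    ((finrank_span_le_card ({fun _ => 1} : Set (orbitRel.Quotient ↥H α → ZMod p))).trans_eq
      (by simp))
  rw [Nat.card_eq_fintype_card]
  omega

end CfsgLib.PermGroup.Half
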