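import Cfsg.Agent.Lib.PermGroup.HalfAction

/-!
For `p ≡ 1 mod 4` an insoluble group of degree `p` with all square multipliers is triply transitive.
-/

set_option autoImplicit false
set_option linter.unusedSectionVars false

open MulAction
open scoped Classical

namespace CfsgLib.PermGroup.Half

variable {α : Type*} [Fintype α] {p : ℕ} [Fact p.Prime]

/-- A function invariant under a two-point stabiliser with three vanishing sums is constant. -/
theorem const_of_sums (hα : Fintype.card α = p) (G : Subgroup (Equiv.Perm α))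
    [IsPretransitive G α] (hG : ¬ Group.IsSolvable G) (e : ZMod p ≃ α)
    (he : HasTranslations G e) (hsq : HasSquares G e) {a₀ b₀ : α} (hab : a₀ ≠ b₀) (u₀ : α → ZMod p)
    (hu₀ : ∀ g ∈ stabilizer G a₀ ⊓ stabilizer G b₀, ∀ x, u₀ (g • x) = u₀ x) (hS₀ : ∑ x, u₀ x = 0)
    {ε : ZMod p} (hε : ¬ IsSquare ε) {g₁ gε : G} (ha1 : g₁ • a₀ = e 0) (hb1 : g₁ • b₀ = e 1)
    (haε : gε • a₀ = e 0) (hbε : gε • b₀ = e ε)
    (hs1 : ∑ x, u₀ x * xfun (ZMod p) e (g₁ • x) = 0)
    (hsε : ∑ x, u₀ x * xfun (ZMod p) e (gε • x) = 0) : ∀ x, u₀ x = u₀ a₀ := by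
  have hp := (Fact.out : p.Prime)
  have h5 := five_le_of_insoluble hα G hG
  have h2 := two_transitive_of_insoluble hα G hG
  have hmove : ∀ a b : α, a ≠ b → ∃ g : G, g • a₀ = a ∧ g • b₀ = b :=
    fun a b h => is_two_pretransitive_iff.mp h2 hab h
  choose mv hmv₁ hmv₂ using hmove
  set H := stabilizer G a₀ ⊓ stabilizer G b₀
  let cl : α → orbitRel.Quotient ↥H α := Quotient.mk''
  have hwd : ∀ {g g' : G}, g • a₀ = g' • a₀ → g • b₀ = g' • b₀ →
      ∀ x, cl (g⁻¹ • x) = cl (g'⁻¹ • x) := by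
    intro g g' ha hb x
    refine Quotient.sound' (show g⁻¹ • x ∈ orbit ↥H (g'⁻¹ • x) from ?_)
    have hm : g⁻¹ * g' ∈ H := Subgroup.mem_inf.2 ⟨mem_stabilizer_iff.2 (by
      rw [mul_smul, ← ha, inv_smul_smul]), mem_stabilizer_iff.2 (by
      rw [mul_smul, ← hb, inv_smul_smul])⟩
    exact ⟨⟨_, hm⟩, by show (g⁻¹ * g') • g'⁻¹ • x = _; rw [← mul_smul, mul_inv_cancel_right]⟩
  -- the maps to functions on ordered pairs
  let F : (orbitRel.Quotient ↥H α → ZMod p) → ∀ a b : α, a ≠ b → (α → ZMod p) → ZMod p :=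
    fun u a b h v => ∑ x, u (cl ((mv a b h)⁻¹ • x)) * v x
  have hequiv : ∀ u a b (h : a ≠ b) (g : G) (h' : g • a ≠ g • b) v,
      F u (g • a) (g • b) h' v = F u a b h (fun x => v (g • x)) := by
    intro u a b h g h' v
    refine (Fintype.sum_equiv (MulAction.toPerm g) _ _ fun x => ?_).symm
    rw [MulAction.toPerm_apply]
    congr 2
    have hx : (g * mv a b h)⁻¹ • (g • x) = (mv a b h)⁻¹ • x := by
      rw [mul_inv_rev, ← mul_smul, inv_mul_cancel_right]
    rw [← hx]
    refine hwd ?_ ?_ _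
    · rw [mul_smul, hmv₁, hmv₁]
    · rw [mul_smul, hmv₂, hmv₂]
  have hone : ∀ u a b (h : a ≠ b) (t : ZMod p),
      F u a b h (fun _ => t) = t * ∑ x, u (cl x) := by
    intro u a b h t
    show ∑ x, _ * t = _
    rw [← Finset.sum_mul, mul_comm]
    congr 1
    refine Fintype.sum_equiv (MulAction.toPerm (mv a b h)⁻¹) _ _ fun x => ?_
    rfl
  set X : α → ZMod p := xfun (ZMod p) e
  have hXe : ∀ j, X (e j) = j := fun j => by
    rw [show X (e j) = pt (ZMod p) j from xfun_apply _ e j,
      RingHom.congr_fun (Subsingleton.elim (pt (ZMod p)) (RingHom.id _)) j, RingHom.id_apply]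
  have hε0 : ε ≠ 0 := fun h => hε (h ▸ IsSquare.zero)
  have h01 : e 0 ≠ e 1 := fun h => zero_ne_one (e.injective h)
  have h0ε : e 0 ≠ e ε := fun h => hε0 (e.injective h).symm
  let u : orbitRel.Quotient ↥H α → ZMod p := fun q => Quotient.liftOn' q u₀ (by
    rintro x y ⟨⟨g, hg⟩, rfl⟩
    exact hu₀ g hg y)
  have hucl : ∀ x, u (cl x) = u₀ x := fun x => rfl
  have hS : ∑ x, u (cl x) = 0 := hS₀
  have hFbase : ∀ (g : G) (a b : α) (h : a ≠ b), g • a₀ = a → g • b₀ = b →
      F u a b h X = ∑ x, u₀ x * X (g • x) := by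
    intro g a b h ga gb
    refine (Fintype.sum_equiv (MulAction.toPerm g) _ _ fun x => ?_).symm
    rw [MulAction.toPerm_apply, hwd (g := mv a b h) (g' := g) (by rw [hmv₁, ga]) (by rw [hmv₂, gb]),
      inv_smul_smul, hucl]
  have h1 : F u (e 0) (e 1) h01 X = 0 := (hFbase g₁ _ _ _ ha1 hb1).trans hs1
  have hε' : F u (e 0) (e ε) h0ε X = 0 := (hFbase gε _ _ _ haε hbε).trans hsε
  have hcong : ∀ {a b a' b'} (h : a ≠ b) (h' : a' ≠ b') v, a = a' → b = b' →
      F u a b h v = F u a' b' h' v := by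
    rintro a b _ _ h h' v rfl rfl; rfl
  have hbase : ∀ d (hd : e 0 ≠ e d), F u (e 0) (e d) hd X = 0 := by
    intro d hd
    have hd0 : d ≠ 0 := fun h => hd (by rw [h])
    obtain ⟨c, d', hd', hcd⟩ : ∃ c d', (d' = 1 ∨ d' = ε) ∧ d = c ^ 2 * d' := by
      by_cases h : IsSquare d
      · obtain ⟨c, rfl⟩ := h
        exact ⟨c, 1, Or.inl rfl, by ring⟩
      · have hsqr : IsSquare (d * ε) := by
          by_contra h'
          have a := (quadraticChar_neg_one_iff_not_isSquare).2 h
          have b := (quadraticChar_neg_one_iff_not_isSquare).2 hε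
          have c' := (quadraticChar_neg_one_iff_not_isSquare).2 h'
          rw [map_mul, a, b] at c'
          exact absurd c' (by decide)
        obtain ⟨c, hc⟩ := hsqr
        exact ⟨c / ε, ε, Or.inr rfl, by field_simp; linear_combination hc⟩
    have hc0 : c ≠ 0 := fun h => hd0 (by rw [hcd, h]; ring)
    obtain ⟨g, hg, hgj⟩ := hsq c hc0
    have hd'0 : e 0 ≠ e d' := by rcases hd' with rfl | rfl <;> assumption
    have e1 : (⟨g, hg⟩ : G) • e 0 = e 0 := (hgj 0).trans (by rw [mul_zero])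
    have e2 : (⟨g, hg⟩ : G) • e d' = e d := (hgj d').trans (by rw [← hcd])
    rw [hcong hd (by rw [e1, e2]; exact hd) X e1.symm e2.symm, hequiv u _ _ hd'0]
    have hv : (fun x => X ((⟨g, hg⟩ : G) • x)) = fun x => c ^ 2 * X x := by
      funext x
      obtain ⟨j, rfl⟩ := e.surjective x
      rw [show (⟨g, hg⟩ : G) • e j = e (c ^ 2 * j) from hgj j, hXe, hXe]
    rw [hv]
    have hsum : F u (e 0) (e d') hd'0 (fun x => c ^ 2 * X x) =
        c ^ 2 * F u (e 0) (e d') hd'0 X := by
      show ∑ x, _ = c ^ 2 * ∑ x, _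
      rw [Finset.mul_sum]
      exact Finset.sum_congr rfl fun x _ => by ring
    rw [hsum]
    rcases hd' with rfl | rfl
    · rw [h1, mul_zero]
    · rw [hε', mul_zero]
  have hall : ∀ a b (h : a ≠ b), F u a b h X = 0 := by
    intro a b h
    obtain ⟨i, rfl⟩ := e.surjective a
    obtain ⟨k, rfl⟩ := e.surjective b
    obtain ⟨g, hg, hgj⟩ := he i
    have hd : e 0 ≠ e (k - i) := fun h' => h (by
      rw [sub_eq_zero.1 (e.injective h').symm])
    have e1 : (⟨g, hg⟩ : G) • e 0 = e i := (hgj 0).trans (by rw [zero_add])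
    have e2 : (⟨g, hg⟩ : G) • e (k - i) = e k := (hgj (k - i)).trans (by rw [sub_add_cancel])
    rw [hcong h (by rw [e1, e2]; exact h) X e1.symm e2.symm, hequiv u _ _ hd]
    have hv : (fun x => X ((⟨g, hg⟩ : G) • x)) = X + fun _ => i := by
      funext x
      obtain ⟨j, rfl⟩ := e.surjective x
      rw [Pi.add_apply, show (⟨g, hg⟩ : G) • e j = e (j + i) from hgj j, hXe, hXe]
    rw [hv]
    have hsum : F u (e 0) (e (k - i)) hd (X + fun _ => i) =
        F u (e 0) (e (k - i)) hd X + F u (e 0) (e (k - i)) hd (fun _ => i) := by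
      show ∑ x, _ = (∑ x, _) + ∑ x, _
      rw [← Finset.sum_add_distrib]
      exact Finset.sum_congr rfl fun x _ => by rw [Pi.add_apply, mul_add]
    rw [hsum, hbase _ hd, hone, hS, mul_zero, add_zero]
  let U : Subrepresentation (Cfsg.permRep (ZMod p) G α) :=
    { toSubmodule :=
        { carrier := {v | v ∈ (Cfsg.permSumZero (ZMod p) G α).toSubmodule ∧
            ∀ a b (h : a ≠ b), F u a b h v = 0}
          zero_mem' := ⟨Submodule.zero_mem _, fun a b h => by simp [F]⟩
          add_mem' := fun {v w} hv hw => ⟨Submodule.add_mem _ hv.1 hw.1, fun a b h => by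
            have e1 := hv.2 a b h
            have e2 := hw.2 a b h
            simp only [F] at e1 e2 ⊢
            simp only [Pi.add_apply, mul_add, Finset.sum_add_distrib, e1, e2, add_zero]⟩
          smul_mem' := fun c {v} hv => ⟨Submodule.smul_mem _ c hv.1, fun a b h => by
            have e1 := hv.2 a b h
            simp only [F] at e1 ⊢
            simp only [Pi.smul_apply, smul_eq_mul, mul_left_comm _ c, ← Finset.mul_sum, e1,
              mul_zero]⟩ }
      apply_mem_toSubmodule := by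
        rintro g v ⟨hv, hv'⟩
        refine ⟨(Cfsg.permSumZero (ZMod p) G α).apply_mem_toSubmodule g hv, fun a b h => ?_⟩
        have h' : g⁻¹ • a ≠ g⁻¹ • b := fun h' => h (smul_left_cancel _ h')
        rw [show Cfsg.permRep (ZMod p) G α g v = fun x => v (g⁻¹ • x) from
          funext fun x => permRep_apply (K := ZMod p) g v x, ← hequiv u a b h g⁻¹ h']
        exact hv' _ _ h' }
  have hC : (Cfsg.permConstants (ZMod p) G α).toSubmodule ≤ U.toSubmodule := by
    intro v hv
    obtain ⟨c, hc⟩ := mem_permConstants_iff.mp hv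
    refine ⟨mem_permSumZero_iff.mpr (by simp [hc, hα]), fun a b h => ?_⟩
    rw [show v = fun _ => c from funext hc, hone, hS, mul_zero]
  have hUtop : U = Cfsg.permSumZero (ZMod p) G α := by
    rcases heart_irreducible (ZMod p) hα G hG U hC (fun v hv => hv.1) with h | h
    · exact absurd (h ▸ (⟨xfun_mem_sumZero _ G e (by omega), hall⟩ : X ∈ U.toSubmodule))
        (xfun_not_mem_constants (ZMod p) G e)
    · exact h
  intro y
  rw [← hucl, ← hucl a₀]
  symm
  set g := mv a₀ b₀ hab with hg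
  have hmem : Pi.single (g • a₀) (1 : ZMod p) - Pi.single (g • y) 1 ∈ U.toSubmodule := by
    rw [hUtop, mem_permSumZero_iff]
    simp [Finset.sum_sub_distrib, Finset.sum_pi_single']
  have h0 := hmem.2 a₀ b₀ hab
  simp only [F, ← hg] at h0
  simp only [Pi.sub_apply, mul_sub, Finset.sum_sub_distrib, Pi.single_apply, mul_ite, mul_one,
    mul_zero, Finset.sum_ite_eq', Finset.mem_univ, if_true, inv_smul_smul] at h0
  exact sub_eq_zero.1 h0

/-- For `p ≡ 1 mod 4` a two-point stabiliser is transitive on the other points. -/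
theorem card_orbits_le_three (hα : Fintype.card α = p) (G : Subgroup (Equiv.Perm α))
    [IsPretransitive G α] (hG : ¬ Group.IsSolvable G) (e : ZMod p ≃ α)
    (he : HasTranslations G e) (hsq : HasSquares G e) (h4 : p % 4 = 1) :
    Nat.card (orbitRel.Quotient ↥(stabilizer G (e 0) ⊓ stabilizer G (e 1)) α) ≤ 3 := by
  have hp := (Fact.out : p.Prime)
  have h5 := five_le_of_insoluble hα G hG
  have h2 := two_transitive_of_insoluble hα G hG
  have h01 : e 0 ≠ e 1 := fun h => zero_ne_one (e.injective h)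
  have hle4 := card_orbits_le hα G hG e he hsq h01
  by_contra hcon
  set H := stabilizer G (e 0) ⊓ stabilizer G (e 1) with hH
  have hHfix : ∀ h ∈ H, h • e 0 = e 0 ∧ h • e 1 = e 1 := fun h hh =>
    ⟨(Subgroup.mem_inf.1 hh).1, (Subgroup.mem_inf.1 hh).2⟩
  -- the affine swaps
  obtain ⟨i, hi⟩ : IsSquare (-1 : ZMod p) := ZMod.exists_sq_eq_neg_one_iff.2 (by omega)
  have hi0 : i ≠ 0 := by
    rintro rfl
    rw [mul_zero] at hi
    exact one_ne_zero (neg_eq_zero.1 hi)
  have hswap : ∀ d : ZMod p, ∃ τ : G, ∀ j, τ • e j = e (d - j) := by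
    intro d
    obtain ⟨g, hg, hgj⟩ := hsq i hi0
    obtain ⟨t, ht, htj⟩ := he d
    refine ⟨⟨t * g, G.mul_mem ht hg⟩, fun j => ?_⟩
    show t (g (e j)) = _
    rw [hgj, htj, sq, ← hi]
    congr 1
    ring
  obtain ⟨τ, hτ⟩ := hswap 1
  have hτ0 : τ • e 0 = e 1 := by rw [hτ, sub_zero]
  have hτ1 : τ • e 1 = e 0 := by rw [hτ, sub_self]
  have hτH : ∀ h ∈ H, τ * h * τ⁻¹ ∈ H := fun h hh => Subgroup.mem_inf.2
    ⟨by rw [mem_stabilizer_iff, mul_smul, mul_smul, inv_smul_eq_iff.2 hτ1.symm, (hHfix h hh).2, hτ1],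
     by rw [mem_stabilizer_iff, mul_smul, mul_smul, inv_smul_eq_iff.2 hτ0.symm, (hHfix h hh).1, hτ0]⟩
  -- the two classes
  let cl : α → orbitRel.Quotient ↥H α := Quotient.mk''
  have hcl : ∀ x y, cl x = cl y → ∃ h ∈ H, h • y = x := fun x y he => by
    obtain ⟨⟨h, hh⟩, e'⟩ := Quotient.eq''.1 he
    exact ⟨h, hh, e'⟩
  have hcl' : ∀ h ∈ H, ∀ x, cl (h • x) = cl x := fun h hh x => Quotient.eq''.2 ⟨⟨h, hh⟩, rfl⟩
  have : Fintype (orbitRel.Quotient ↥H α) := Fintype.ofFinite _
  rw [Nat.card_eq_fintype_card] at hle4 hcon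
  have hc0 : ∀ x, cl x = cl (e 0) → x = e 0 := fun x he => by
    obtain ⟨h, hh, rfl⟩ := hcl _ _ he
    exact (hHfix h hh).1
  have hc1 : ∀ x, cl x = cl (e 1) → x = e 1 := fun x he => by
    obtain ⟨h, hh, rfl⟩ := hcl _ _ he
    exact (hHfix h hh).2
  obtain ⟨qR, qN, hRN, hrest⟩ : ∃ qR qN, qR ≠ qN ∧
      ((Finset.univ.erase (cl (e 0))).erase (cl (e 1))) = {qR, qN} := by
    refine Finset.card_eq_two.1 ?_
    rw [Finset.card_erase_of_mem (Finset.mem_erase.2 ⟨fun h => h01 (hc0 _ h).symm, Finset.mem_univ _⟩),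
      Finset.card_erase_of_mem (Finset.mem_univ _), Finset.card_univ]
    omega
  set R : Finset α := Finset.univ.filter fun x => cl x = qR with hRdef
  set N : Finset α := Finset.univ.filter fun x => cl x = qN with hNdef
  have hq : ∀ q, q ≠ cl (e 0) → q ≠ cl (e 1) → q = qR ∨ q = qN := fun q a b => by
    have : q ∈ ({qR, qN} : Finset (orbitRel.Quotient ↥H α)) := by
      rw [← hrest]; simp [a, b]
    simpa using this
  have hqR : qR ≠ cl (e 0) ∧ qR ≠ cl (e 1) := by
    have : qR ∈ ((Finset.univ.erase (cl (e 0))).erase (cl (e 1))) := by rw [hrest]; simp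
    simp only [Finset.mem_erase] at this
    exact ⟨this.2.1, this.1⟩
  have hqN : qN ≠ cl (e 0) ∧ qN ≠ cl (e 1) := by
    have : qN ∈ ((Finset.univ.erase (cl (e 0))).erase (cl (e 1))) := by rw [hrest]; simp
    simp only [Finset.mem_erase] at this
    exact ⟨this.2.1, this.1⟩
  have hsum : R.card + N.card + 2 = p := by
    have h := Finset.card_eq_sum_card_fiberwise (f := cl) (s := Finset.univ) (t := Finset.univ)
      (fun x _ => Finset.mem_univ _)
    rw [Finset.card_univ, hα, ← Finset.add_sum_erase _ _ (Finset.mem_univ (cl (e 0))),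
      ← Finset.add_sum_erase _ _ (Finset.mem_erase.2 ⟨fun h => h01 (hc0 _ h).symm, Finset.mem_univ (cl (e 1))⟩),
      hrest, Finset.sum_pair hRN] at h
    have e0 : (Finset.univ.filter fun x => cl x = cl (e 0)) = {e 0} := by
      ext x; simp only [Finset.mem_filter, Finset.mem_univ, true_and, Finset.mem_singleton]
      exact ⟨hc0 x, fun h => by rw [h]⟩
    have e1 : (Finset.univ.filter fun x => cl x = cl (e 1)) = {e 1} := by
      ext x; simp only [Finset.mem_filter, Finset.mem_univ, true_and, Finset.mem_singleton]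
      exact ⟨hc1 x, fun h => by rw [h]⟩
    rw [e0, e1, Finset.card_singleton, Finset.card_singleton, ← hRdef, ← hNdef] at h
    omega
  -- the swap keeps the first class
  have hτR : ∀ x ∈ R, τ • x ∈ R := by
    by_contra hbad
    simp only [not_forall] at hbad
    obtain ⟨x, hxR, hx⟩ := hbad
    simp only [hRdef, Finset.mem_filter, Finset.mem_univ, true_and] at hxR hx
    have hτinj : Function.Injective fun y : α => τ • y := fun a b h => smul_left_cancel τ h
    have hcarry : ∀ y, cl y = qR → cl (τ • y) = cl (τ • x) := by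
      intro y hy
      obtain ⟨h, hh, rfl⟩ := hcl _ _ (hy.trans hxR.symm)
      rw [show τ • h • x = (τ * h * τ⁻¹) • τ • x by simp [mul_smul]]
      exact hcl' _ (hτH h hh) _
    have htx : cl (τ • x) = qN := (hq _
      (fun h => hqR.2 (by rw [← hxR, show x = e 1 from hτinj ((hc0 _ h).trans hτ1.symm)]))
      (fun h => hqR.1 (by rw [← hxR, show x = e 0 from hτinj ((hc1 _ h).trans hτ0.symm)]))).resolve_left hx
    have h1 : R.card ≤ N.card := Finset.card_le_card_of_injOn (fun y => τ • y)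
      (fun y hy => by
        simp only [hRdef, Finset.coe_filter, Finset.mem_univ, true_and, Set.mem_setOf_eq] at hy
        simp only [hNdef, Finset.coe_filter, Finset.mem_univ, true_and, Set.mem_setOf_eq]
        exact (hcarry y hy).trans htx) hτinj.injOn
    have hτ2 : ∀ y : α, τ • τ • y = y := fun y => by
      obtain ⟨j, rfl⟩ := e.surjective y
      rw [hτ, hτ, sub_sub_cancel]
    have h2' : N.card ≤ R.card := Finset.card_le_card_of_injOn (fun y => τ • y)
      (fun y hy => by
        simp only [hNdef, Finset.coe_filter, Finset.mem_univ, true_and, Set.mem_setOf_eq] at hy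
        simp only [hRdef, Finset.coe_filter, Finset.mem_univ, true_and, Set.mem_setOf_eq]
        obtain ⟨h, hh, rfl⟩ := hcl _ _ (hy.trans htx.symm)
        rw [show τ • h • τ • x = (τ * h * τ⁻¹) • τ • τ • x by simp [mul_smul], hcl' _ (hτH h hh), hτ2]
        exact hxR) hτinj.injOn
    obtain ⟨c, hc⟩ := hp.odd_of_ne_two (by omega)
    omega
  -- a function with vanishing sums
  set m : ZMod p := (R.card : ZMod p) with hm
  set u₀ : α → ZMod p := fun x => 2 * (if cl x = qR then 1 else 0) -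
    m * ((if x = e 0 then 1 else 0) + (if x = e 1 then 1 else 0)) with hu₀def
  have hu₀ : ∀ g ∈ H, ∀ x, u₀ (g • x) = u₀ x := by
    intro g hg x
    have a := (hHfix g hg).1
    have b := (hHfix g hg).2
    simp only [hu₀def, hcl' g hg, show (g • x = e 0) = (x = e 0) from
      propext ⟨fun h => smul_left_cancel g (h.trans a.symm), fun h => by rw [h, a]⟩,
      show (g • x = e 1) = (x = e 1) from
      propext ⟨fun h => smul_left_cancel g (h.trans b.symm), fun h => by rw [h, b]⟩]
  have hX : ∀ f : α → ZMod p, ∑ x, u₀ x * f x = 2 * ∑ x ∈ R, f x - m * (f (e 0) + f (e 1)) := by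
    intro f
    simp only [hu₀def, sub_mul, Finset.sum_sub_distrib, mul_assoc, ← Finset.mul_sum, add_mul,
      ite_mul, one_mul, zero_mul, Finset.sum_add_distrib, Finset.sum_ite_eq', Finset.mem_univ, if_true,
      hRdef, Finset.sum_filter]
  have hS : ∑ x, u₀ x = 0 := by
    have := hX fun _ => 1
    simp only [mul_one, Finset.sum_const, nsmul_eq_mul] at this
    rw [this, hm]; ring
  obtain ⟨ε, hε⟩ := FiniteField.exists_nonsquare (F := ZMod p) (by
    rw [ZMod.ringChar_zmod_n]; omega)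
  have hε0 : ε ≠ 0 := fun h => hε (h ▸ IsSquare.zero)
  obtain ⟨gε, gε0, gε1⟩ := is_two_pretransitive_iff.mp h2 h01
    (show e 0 ≠ e ε from fun h => hε0 (e.injective h).symm)
  -- a swap of the ends of any pair keeps the image of the class
  have hsums : ∀ (g : G) (d : ZMod p), g • e 0 = e 0 → g • e 1 = e d →
      ∑ x, u₀ x * xfun (ZMod p) e (g • x) = 0 := by
    intro g d g0 g1
    obtain ⟨σ, hσ⟩ := hswap d
    have hmem : τ⁻¹ * (g⁻¹ * σ * g) ∈ H := Subgroup.mem_inf.2
      ⟨by rw [mem_stabilizer_iff, mul_smul, mul_smul, mul_smul, g0, hσ, sub_zero, ← g1, inv_smul_smul,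
          inv_smul_eq_iff, hτ0],
       by rw [mem_stabilizer_iff, mul_smul, mul_smul, mul_smul, g1, hσ, sub_self, inv_smul_eq_iff.2 g0.symm,
          inv_smul_eq_iff, hτ1]⟩
    have hperm : ∀ x ∈ R, (g⁻¹ * σ * g) • x ∈ R := by
      intro x hx
      have : (g⁻¹ * σ * g) • x = τ • ((τ⁻¹ * (g⁻¹ * σ * g)) • x) := by
        rw [← mul_smul, mul_inv_cancel_left]
      rw [this]
      refine hτR _ ?_
      simp only [hRdef, Finset.mem_filter, Finset.mem_univ, true_and] at hx ⊢
      rw [hcl' _ hmem, hx]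
    have hXe : ∀ j, xfun (ZMod p) e (e j) = j := fun j => by
      rw [xfun_apply, RingHom.congr_fun (Subsingleton.elim (pt (ZMod p)) (RingHom.id _)) j,
        RingHom.id_apply]
    have hrev : ∀ x, xfun (ZMod p) e (g • (g⁻¹ * σ * g) • x) = d - xfun (ZMod p) e (g • x) := by
      intro x
      obtain ⟨j, hj⟩ := e.surjective (g • x)
      rw [mul_smul, mul_smul, smul_inv_smul, ← hj, hσ, hXe, hXe]
    have hbij : ∑ x ∈ R, xfun (ZMod p) e (g • (g⁻¹ * σ * g) • x) = ∑ x ∈ R, xfun (ZMod p) e (g • x) := by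
      refine Finset.sum_bij (fun x _ => (g⁻¹ * σ * g) • x) (fun x hx => hperm x hx)
        (fun x _ y _ h => smul_left_cancel _ h) (fun y hy => ?_) (fun x _ => rfl)
      obtain ⟨x, hx, hxy⟩ := Finset.surj_on_of_inj_on_of_card_le (s := R) (t := R)
        (fun x _ => (g⁻¹ * σ * g) • x) hperm (fun x y _ _ h => smul_left_cancel _ h) le_rfl y hy
      exact ⟨x, hx, hxy.symm⟩
    simp only [hrev, Finset.sum_sub_distrib, Finset.sum_const, nsmul_eq_mul, ← hm] at hbij
    have := hX fun x => xfun (ZMod p) e (g • x)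
    rw [this, g0, g1, hXe, hXe]
    linear_combination -hbij
  have hconst := const_of_sums hα G hG e he hsq h01 u₀ hu₀ hS hε (g₁ := 1) (gε := gε)
    (one_smul _ _) (one_smul _ _) gε0 gε1 (hsums 1 1 (one_smul _ _) (one_smul _ _))
    (hsums gε ε gε0 gε1)
  obtain ⟨xR, hxR⟩ := Quotient.mk''_surjective qR
  obtain ⟨xN, hxN⟩ := Quotient.mk''_surjective qN
  have hR' := hconst xR
  have hN' := hconst xN
  have e1 : cl xR = qR := hxR
  have e2 : cl xN = qN := hxN
  have a1 : xR ≠ e 0 := fun h => hqR.1 (by rw [← e1, h])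
  have a2 : xR ≠ e 1 := fun h => hqR.2 (by rw [← e1, h])
  have a3 : xN ≠ e 0 := fun h => hqN.1 (by rw [← e2, h])
  have a4 : xN ≠ e 1 := fun h => hqN.2 (by rw [← e2, h])
  rw [← hN'] at hR'
  simp only [hu₀def, e1, e2, if_neg hRN.symm, if_true, if_neg a1, if_neg a2, if_neg a3, if_neg a4,
    add_zero, mul_zero, sub_zero, mul_one] at hR'
  have : ((2 : ℕ) : ZMod p) = 0 := by exact_mod_cast hR'
  rw [CharP.cast_eq_zero_iff (ZMod p) p] at this
  exact absurd (Nat.le_of_dvd two_pos this) (by omega)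

end CfsgLib.PermGroup.Half
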