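import Cfsg.Agent.Lib.PermGroup.HalfAction
import Cfsg.Agent.Lib.PermGroup.HalfLines

/-!
For an insoluble group of degree `p > 7` with a Sylow normaliser of order `p (p - 1) / 2`, a point
stabiliser is primitive on the other points: a nontrivial block is the trace of a linear space.
-/

set_option autoImplicit false
set_option linter.unusedSectionVars false

open MulAction

namespace CfsgLib.PermGroup.Half

variable {G Ω : Type*} [Group G] [MulAction G Ω]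

/-- The triples carried to the point and the block. -/
def BlockTriple (G : Type*) {Ω : Type*} [Group G] [MulAction G Ω] (α : Ω) (B : Set Ω) (a b c : Ω) :
    Prop :=
  a ≠ b ∧ a ≠ c ∧ b ≠ c ∧ ∃ g : G, g • a = α ∧ g • b ∈ B ∧ g • c ∈ B

theorem blockTriple_smul {α : Ω} {B : Set Ω} (g : G) (a b c : Ω) :
    BlockTriple G α B (g • a) (g • b) (g • c) ↔ BlockTriple G α B a b c := by
  constructor
  · rintro ⟨h1, h2, h3, k, hk⟩
    exact ⟨fun h => h1 (h ▸ rfl), fun h => h2 (h ▸ rfl), fun h => h3 (h ▸ rfl), k * g,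
      by simpa only [mul_smul] using hk⟩
  · rintro ⟨h1, h2, h3, k, hk⟩
    exact ⟨(smul_left_cancel g).mt h1, (smul_left_cancel g).mt h2, (smul_left_cancel g).mt h3,
      k * g⁻¹, by simpa only [mul_smul, inv_smul_smul] using hk⟩

theorem blockTriple_iff {α : Ω} {B : Set Ω}
    (hB : ∀ g : G, g • α = α → ∀ x ∈ B, g • x ∈ B → ∀ y ∈ B, g • y ∈ B) {a b c : Ω}
    (hd : a ≠ b ∧ a ≠ c ∧ b ≠ c) {k : G} (ha : k • a = α) (hb : k • b ∈ B) :
    BlockTriple G α B a b c ↔ k • c ∈ B := by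
  refine ⟨?_, fun hc => ⟨hd.1, hd.2.1, hd.2.2, k, ha, hb, hc⟩⟩
  rintro ⟨-, -, -, g, ga, gb, gc⟩
  have h := hB (k * g⁻¹) (by rw [mul_smul, inv_smul_eq_iff.2 ga.symm, ha]) (g • b) gb
    (by rwa [mul_smul, inv_smul_smul]) (g • c) gc
  rwa [mul_smul, inv_smul_smul] at h

/-- The linear space of a nontrivial block. -/
theorem not_nontrivial_block [Finite G] [FaithfulSMul G Ω] [Finite Ω] {p : ℕ} (hp : p.Prime)
    (hΩ : Nat.card Ω = p) (ht : IsPretransitive G Ω) (hins : ¬ Group.IsSolvable G) (P : Sylow p G)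
    (hN : p * (p - 1) ≤ 2 * Nat.card (Subgroup.normalizer ((P : Subgroup G) : Set G))) (hp7 : 7 < p)
    {α β γ δ : Ω} {B : Set Ω}
    (hB : ∀ g : G, g • α = α → ∀ x ∈ B, g • x ∈ B → ∀ y ∈ B, g • y ∈ B)
    (hαB : α ∉ B) (hβ : β ∈ B) (hγ : γ ∈ B) (hβγ : β ≠ γ) (hδα : δ ≠ α) (hδ : δ ∉ B) : False := by
  classical
  have : Fact p.Prime := ⟨hp⟩
  have : Fintype Ω := Fintype.ofFinite Ω
  have hΩ' : Fintype.card Ω = p := by rwa [Nat.card_eq_fintype_card] at hΩ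
  obtain ⟨e, he, hsq⟩ := exists_squares_action hΩ' ht P hN
  have h2 := two_transitive hp hΩ ht hins
  have h2' : ∀ {a b c d : Ω}, a ≠ b → c ≠ d → ∃ g : G, g • a = c ∧ g • b = d :=
    fun hab hcd => is_two_pretransitive_iff.mp h2 hab hcd
  have hαβ : α ≠ β := fun h => hαB (h ▸ hβ)
  set Q := BlockTriple G α B with hQdef
  set H := stabilizer G α ⊓ stabilizer G β with hH
  -- two points off the base line with the same colour are conjugate
  have key : ∀ x y : Ω, x ≠ α → x ≠ β → y ≠ α → y ≠ β → (x ∈ B ↔ y ∈ B) →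
      ∃ h : G, h • α = α ∧ h • β = β ∧ h • x = y := by
    intro x y hxa hxb hya hyb hxy
    by_contra hno
    let cl : Ω → orbitRel.Quotient ↥H Ω := Quotient.mk''
    have hfix : ∀ h : H, (h : G) • α = α ∧ (h : G) • β = β := fun h =>
      ⟨(Subgroup.mem_inf.1 h.2).1, (Subgroup.mem_inf.1 h.2).2⟩
    have hne : ∀ u v : Ω, (∀ h : H, (h : G) • v ≠ u) → cl u ≠ cl v := fun u v huv he => by
      obtain ⟨h, hh⟩ := Quotient.eq''.1 he
      exact huv h hh
    have hfa : ∀ u : Ω, u ≠ α → cl u ≠ cl α := fun u hu =>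
      hne u α fun h hh => hu (hh.symm.trans (hfix h).1)
    have hfb : ∀ u : Ω, u ≠ β → cl u ≠ cl β := fun u hu =>
      hne u β fun h hh => hu (hh.symm.trans (hfix h).2)
    have hcol : ∀ u v : Ω, v ∈ B → u ∉ B → cl u ≠ cl v := fun u v hv hu =>
      hne u v fun h hh => hu (hh ▸ hB h (hfix h).1 β hβ ((hfix h).2.symm ▸ hβ) v hv)
    have hxy' : cl y ≠ cl x :=
      hne y x fun h hh => hno ⟨h, (hfix h).1, (hfix h).2, hh⟩
    obtain ⟨z, hza, hzb, hzx, hzy⟩ : ∃ z, z ≠ α ∧ z ≠ β ∧ cl z ≠ cl x ∧ cl z ≠ cl y := by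
      by_cases hx : x ∈ B
      · exact ⟨δ, hδα, fun h => hδ (h ▸ hβ), hcol δ x hx hδ, hcol δ y (hxy.1 hx) hδ⟩
      · exact ⟨γ, fun h => hαB (h ▸ hγ), hβγ.symm, (hcol x γ hγ hx).symm,
          (hcol y γ hγ fun hy => hx (hxy.2 hy)).symm⟩
    have : Fintype (orbitRel.Quotient ↥H Ω) := Fintype.ofFinite _
    have h5 : ({cl z, cl y, cl x, cl β, cl α} : Finset (orbitRel.Quotient ↥H Ω)).card = 5 := by
      rw [Finset.card_insert_of_notMem, Finset.card_insert_of_notMem, Finset.card_insert_of_notMem,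
        Finset.card_pair (hfa β hαβ.symm)] <;>
      simp only [Finset.mem_insert, Finset.mem_singleton, not_or]
      exacts [⟨hfb x hxb, hfa x hxa⟩, ⟨hxy', hfb y hyb, hfa y hya⟩,
        ⟨hzy, hzx, hfb z hzb, hfa z hza⟩]
    have h4 : Nat.card (orbitRel.Quotient ↥H Ω) ≤ 4 :=
      card_orbits_le_four hp hΩ ht hins P hN hαβ
    have := Finset.card_le_univ
      ({cl z, cl y, cl x, cl β, cl α} : Finset (orbitRel.Quotient ↥H Ω))
    rw [Nat.card_eq_fintype_card] at h4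
    omega
  have trans : ∀ {a b c a' b' c' : Ω}, (a ≠ b ∧ a ≠ c ∧ b ≠ c) → (a' ≠ b' ∧ a' ≠ c' ∧ b' ≠ c') →
      (Q a b c ↔ Q a' b' c') → ∃ g : G, g • a = a' ∧ g • b = b' ∧ g • c = c' := by
    intro a b c a' b' c' hd hd' hQ
    obtain ⟨g, ga, gb⟩ := h2' hd.1 hαβ
    obtain ⟨k, ka, kb⟩ := h2' hd'.1 hαβ
    rw [hQdef, blockTriple_iff hB hd ga (gb ▸ hβ), blockTriple_iff hB hd' ka (kb ▸ hβ)] at hQ
    obtain ⟨h, ha, hb, hc⟩ := key (g • c) (k • c')
      (fun h => hd.2.1 (smul_left_cancel g (ga.trans h.symm)))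
      (fun h => hd.2.2 (smul_left_cancel g (gb.trans h.symm)))
      (fun h => hd'.2.1 (smul_left_cancel k (ka.trans h.symm)))
      (fun h => hd'.2.2 (smul_left_cancel k (kb.trans h.symm))) hQ
    refine ⟨k⁻¹ * h * g, ?_, ?_, ?_⟩ <;> rw [mul_smul, mul_smul, inv_smul_eq_iff]
    · rw [ga, ka, ha]
    · rw [gb, kb, hb]
    · rw [hc]
  have inv : ∀ (g : G) (a b c : Ω), Q (g • a) (g • b) (g • c) ↔ Q a b c := blockTriple_smul
  have s23 : ∀ {a b c : Ω}, Q a b c → Q a c b := by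
    rintro a b c ⟨h1, h2, h3, g, h4, h5, h6⟩
    exact ⟨h2, h1, h3.symm, g, h4, h6, h5⟩
  have hd0 : α ≠ β ∧ α ≠ γ ∧ β ≠ γ := ⟨hαβ, fun h => hαB (h ▸ hγ), hβγ⟩
  have hQ0 : Q α β γ := ⟨hd0.1, hd0.2.1, hd0.2.2, 1, one_smul G α, by rwa [one_smul], by rwa [one_smul]⟩
  have s12 : ∀ {a b c : Ω}, Q a b c → Q b a c := by
    suffices hex : ∃ a b c, Q a b c ∧ Q b a c by
      obtain ⟨a, b, c, h, h'⟩ := hex
      intro x y z hx
      obtain ⟨g, rfl, rfl, rfl⟩ := trans ⟨h.1, h.2.1, h.2.2.1⟩ ⟨hx.1, hx.2.1, hx.2.2.1⟩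
        (iff_of_true h hx)
      exact (inv g b a c).2 h'
    by_contra hno
    have hA : ∀ a b c, Q a b c → ¬ Q b a c := fun a b c h h' => hno ⟨a, b, c, h, h'⟩
    have hC : ∀ a b c : Ω, (a ≠ b ∧ a ≠ c ∧ b ≠ c) → ¬ Q a b c → Q b a c := by
      intro a b c hd h
      obtain ⟨g, rfl, rfl, rfl⟩ := trans (a := β) (b := α) (c := γ)
        ⟨hd0.1.symm, hd0.2.2, hd0.2.1⟩ hd (iff_of_false (hA _ _ _ hQ0) h)
      exact (inv g α β γ).2 hQ0
    have n1 : ¬ Q β γ α := fun h => hA _ _ _ hQ0 (s23 h)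
    exact hA _ _ _ (s23 (hC _ _ _ ⟨hd0.2.2, hd0.1.symm, hd0.2.1.symm⟩ n1)) (s23 hQ0)
  have hperm : ∀ g : G, ∀ i j k : ZMod p,
      Q (e (e.symm (g • e i))) (e (e.symm (g • e j))) (e (e.symm (g • e k))) ↔
        Q (e i) (e j) (e k) := fun g i j k => by
    simp only [Equiv.apply_symm_apply]
    exact inv g _ _ _
  let T : Tri p :=
  { R := fun i j k => Q (e i) (e j) (e k)
    ne := fun h => ⟨fun h' => h.1 (congrArg e h'), fun h' => h.2.1 (congrArg e h'),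
      fun h' => h.2.2.1 (congrArg e h')⟩
    swap₂₃ := s23
    swap₁₂ := s12
    line := by
      rintro a b c d h h' hcd
      obtain ⟨h1, h2, h3, g, ga, gb, gd⟩ := h'
      have gc := (blockTriple_iff hB ⟨h.1, h.2.1, h.2.2.1⟩ ga gb).1 h
      exact ⟨h.2.1, h2, fun he => hcd (e.injective he), g, ga, gc, gd⟩
    shift := by
      intro a b c v h
      obtain ⟨_, ⟨g, rfl⟩, hg⟩ := he v
      have hg' : ∀ j, g • e j = e (j + v) := hg
      rw [← hg', ← hg', ← hg']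
      exact (inv g _ _ _).2 h
    scale := by
      intro a b c u hu h
      obtain ⟨_, ⟨g, rfl⟩, hg⟩ := hsq u hu
      have hg' : ∀ j, g • e j = e (u ^ 2 * j) := hg
      rw [← hg', ← hg', ← hg']
      exact (inv g _ _ _).2 h
    move := by
      intro a b a' b' h h'
      obtain ⟨g, ga, gb⟩ := h2' (e.injective.ne h) (e.injective.ne h')
      exact ⟨(e.trans (MulAction.toPerm g)).trans e.symm, by simp [ga], by simp [gb], hperm g⟩
    move_off := by
      intro a b x y hab hxa hxb hya hyb hx hy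
      obtain ⟨g, ga, gb, gx⟩ := trans (a := e a) (b := e b) (c := e x) (a' := e a) (b' := e b) (c' := e y)
        ⟨e.injective.ne hab, e.injective.ne hxa.symm, e.injective.ne hxb.symm⟩
        ⟨e.injective.ne hab, e.injective.ne hya.symm, e.injective.ne hyb.symm⟩ (iff_of_false hx hy)
      exact ⟨(e.trans (MulAction.toPerm g)).trans e.symm, by simp [ga], by simp [gb], by simp [gx],
        hperm g⟩
    ex := ⟨e.symm α, e.symm β, e.symm γ, by simpa only [Equiv.apply_symm_apply] using hQ0⟩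
    exnot := by
      have hd1 : α ≠ β ∧ α ≠ δ ∧ β ≠ δ := ⟨hαβ, hδα.symm, fun h => hδ (h ▸ hβ)⟩
      refine ⟨e.symm α, e.symm β, e.symm δ, e.symm.injective.ne hd1.1, e.symm.injective.ne hd1.2.1,
        e.symm.injective.ne hd1.2.2, ?_⟩
      simp only [Equiv.apply_symm_apply]
      rw [hQdef, blockTriple_iff hB hd1 (one_smul G α) (by rwa [one_smul]), one_smul]
      exact hδ }
  exact Tri.false_of_tri T hp7

theorem stabilizer_preprimitive [Finite G] [FaithfulSMul G Ω] [Finite Ω] {p : ℕ} (hp : p.Prime)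
    (hΩ : Nat.card Ω = p) (ht : IsPretransitive G Ω) (hins : ¬ Group.IsSolvable G) (P : Sylow p G)
    (hN : p * (p - 1) ≤ 2 * Nat.card (Subgroup.normalizer ((P : Subgroup G) : Set G))) (hp7 : 7 < p)
    (α : Ω) :
    IsPreprimitive ↥(stabilizer G α) ↥(SubMulAction.ofStabilizer G α) := by
  have h2 := two_transitive hp hΩ ht hins
  have : IsPretransitive ↥(stabilizer G α) ↥(SubMulAction.ofStabilizer G α) := ⟨fun x y => by
    obtain ⟨g, ga, gx⟩ := is_two_pretransitive_iff.mp h2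
      (show α ≠ x.1 from fun h => x.2 h.symm) (show α ≠ y.1 from fun h => y.2 h.symm)
    exact ⟨⟨g, ga⟩, Subtype.ext gx⟩⟩
  constructor
  intro B hB
  by_contra htriv
  simp only [IsTrivialBlock, not_or] at htriv
  obtain ⟨hns, hnu⟩ := htriv
  obtain ⟨β, hβ, γ, hγ, hβγ⟩ := Set.not_subsingleton_iff.mp hns
  obtain ⟨δ, hδ⟩ := (Set.ne_univ_iff_exists_notMem B).mp hnu
  refine not_nontrivial_block hp hΩ ht hins P hN hp7 (α := α) (β := β.1) (γ := γ.1) (δ := δ.1)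
    (B := Subtype.val '' B) ?_ ?_ ⟨β, hβ, rfl⟩ ⟨γ, hγ, rfl⟩ (fun h => hβγ (Subtype.ext h)) δ.2 ?_
  · rintro g hg _ ⟨x, hx, rfl⟩ ⟨x', hx', hxx'⟩ _ ⟨y, hy, rfl⟩
    have hgx : (⟨g, hg⟩ : stabilizer G α) • x ∈ B := by
      convert hx'
      exact Subtype.ext hxx'.symm
    rcases isBlock_iff_smul_eq_or_disjoint.mp hB ⟨g, hg⟩ with h | h
    · exact ⟨_, h ▸ Set.smul_mem_smul_set hy, rfl⟩
    · exact absurd hgx (Set.disjoint_left.mp h ⟨x, hx, rfl⟩)
  · rintro ⟨x, -, hx⟩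
    exact x.2 hx
  · rintro ⟨x, hx, hxd⟩
    exact hδ (Subtype.ext hxd ▸ hx)

end CfsgLib.PermGroup.Half
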