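import Cfsg.Agent.Lib.PermGroup.ThreeTrans
import Mathlib.LinearAlgebra.Dimension.StrongRankCondition

/-! Subgroups of index equal to the degree in groups of prime degree. -/

open MulAction
open scoped Classical Pointwise

namespace CfsgLib.PermGroup

/-- Fisher's bound for a family of rows with constant sums and products. -/
theorem fisher_le {ι κ : Type*} [Fintype ι] [Fintype κ] (v : ι → κ → ℚ) (l m : ℚ) (hm : 0 ≤ m)
    (hlm : m < l) (hd : ∀ i, ∑ x, v i x * v i x = l)
    (ho : ∀ i j, i ≠ j → ∑ x, v i x * v j x = m) : Fintype.card ι ≤ Fintype.card κ := by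
  have hli : LinearIndependent ℚ v := by
    rw [Fintype.linearIndependent_iff]
    intro c hc
    have key : ∀ j, (l - m) * c j + m * ∑ i, c i = 0 := by
      intro j
      have h : ∑ i, c i * ∑ x, v i x * v j x = 0 := by
        have h0 : ∑ x, (∑ i, c i * v i x) * v j x = 0 :=
          Finset.sum_eq_zero fun x _ => by
            have := congrFun hc x
            simp only [Finset.sum_apply, Pi.smul_apply, smul_eq_mul, Pi.zero_apply] at this
            rw [this, zero_mul]
        rw [← h0]
        simp only [Finset.sum_mul, Finset.mul_sum]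
        rw [Finset.sum_comm]
        exact Finset.sum_congr rfl fun x _ => Finset.sum_congr rfl fun i _ => by ring
      rw [← Finset.add_sum_erase _ _ (Finset.mem_univ j), hd,
        Finset.sum_congr rfl fun i hi => by rw [ho i j (Finset.ne_of_mem_erase hi)],
        ← Finset.sum_mul] at h
      rw [← Finset.add_sum_erase _ _ (Finset.mem_univ j)]
      linear_combination h
    have hS : (∑ i, c i) = 0 := by
      have h := Finset.sum_eq_zero (fun j (_ : j ∈ Finset.univ) => key j)
      rw [Finset.sum_add_distrib, ← Finset.mul_sum, Finset.sum_const, Finset.card_univ, nsmul_eq_mul]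
        at h
      have hpos : (l - m) + (Fintype.card ι : ℚ) * m ≠ 0 := by
        have : (0 : ℚ) ≤ (Fintype.card ι : ℚ) * m := mul_nonneg (Nat.cast_nonneg _) hm
        linarith
      have : ((l - m) + (Fintype.card ι : ℚ) * m) * ∑ i, c i = 0 := by linear_combination h
      exact (mul_eq_zero.mp this).resolve_left hpos
    intro j
    have := key j
    rw [hS, mul_zero, add_zero] at this
    exact (mul_eq_zero.mp this).resolve_left (by linarith)
  have := hli.fintype_card_le_finrank
  rwa [Module.finrank_fintype_fun_eq_card] at this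

/-- A triply transitive action moves any three distinct points to any other three. -/
theorem exists_smul_triple {G X : Type*} [Group G] [MulAction G X]
    (h3 : IsMultiplyPretransitive G X 3) {a b c a' b' c' : X} (hab : a ≠ b) (hac : a ≠ c)
    (hbc : b ≠ c) (hab' : a' ≠ b') (hac' : a' ≠ c') (hbc' : b' ≠ c') :
    ∃ g : G, g • a = a' ∧ g • b = b' ∧ g • c = c' := by
  have mk : ∀ u v w : X, u ≠ v → u ≠ w → v ≠ w → Function.Injective ![u, v, w] := by
    intro u v w h1 h2 h3 i j h
    match i, j with
    | 0, 0 => rfl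
    | 1, 1 => rfl
    | 2, 2 => rfl
    | 0, 1 => exact absurd h h1
    | 1, 0 => exact absurd h.symm h1
    | 0, 2 => exact absurd h h2
    | 2, 0 => exact absurd h.symm h2
    | 1, 2 => exact absurd h h3
    | 2, 1 => exact absurd h.symm h3
  obtain ⟨g, hg⟩ := h3.exists_smul_eq ⟨_, mk a b c hab hac hbc⟩ ⟨_, mk a' b' c' hab' hac' hbc'⟩
  exact ⟨g, congrArg (fun e : Fin 3 ↪ X => e 0) hg, congrArg (fun e : Fin 3 ↪ X => e 1) hg,
    congrArg (fun e : Fin 3 ↪ X => e 2) hg⟩

variable {α : Type*} [Fintype α] {p : ℕ} [Fact p.Prime]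

/-- In a triply transitive group of prime degree every subgroup of that index fixes a point. -/
theorem exists_fixed_of_index (hα : Fintype.card α = p) (G : Subgroup (Equiv.Perm α))
    (h5 : 5 ≤ p) (h3 : IsMultiplyPretransitive G α 3) (H : Subgroup G) (hH : H.index = p) :
    ∃ a : α, ∀ h ∈ H, h • a = a := by
  have hp := (Fact.out : p.Prime)
  have hnα : Nat.card α = p := by rw [Nat.card_eq_fintype_card, hα]
  have h1 : IsPretransitive G α := isPretransitive_of_two_le h3 (by norm_num) (by omega)
  obtain ⟨a⟩ : Nonempty α := Fintype.card_pos_iff.mp (by omega)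
  set B : Set α := orbit H a with hB
  have hHB : ∀ h ∈ H, h • B = B := fun h hh => smul_orbit (⟨h, hh⟩ : H) a
  let blk : G ⧸ H → Set α := fun β => Quotient.liftOn' β (fun g => g • B) (fun g g' hgg => by
    rw [QuotientGroup.leftRel_apply] at hgg
    show g • B = g' • B
    conv_rhs => rw [← mul_inv_cancel_left g g', mul_smul, hHB _ hgg])
  have : Fintype (G ⧸ H) := Fintype.ofFinite _
  have hblk : ∀ (g : G) (β : G ⧸ H), blk (g • β) = g • blk β := by
    intro g β
    induction β using Quotient.inductionOn' with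
    | h u =>
      show (g * u) • B = g • u • B
      rw [mul_smul]
  let N : α → G ⧸ H → Prop := fun x β => x ∈ blk β
  let T : Finset (G ⧸ H) := Finset.univ.filter (N a)
  let lam : α → ℕ := fun b => (T.filter (N b)).card
  let mu : α → α → ℕ := fun b c => ((T.filter (N b)).filter (N c)).card
  -- invariance
  have hmove : ∀ (g : G), g • a = a → ∀ b c, mu (g • b) (g • c) = mu b c := by
    intro g hg b c
    refine (Finset.card_bij (fun β _ => g • β) ?_ ?_ ?_).symm
    · intro β hβ
      simp only [T, N, Finset.mem_filter, Finset.mem_univ, true_and, hblk,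
        Set.smul_mem_smul_set_iff] at hβ ⊢
      refine ⟨⟨?_, hβ.1.2⟩, hβ.2⟩
      rw [← hg, Set.smul_mem_smul_set_iff]
      exact hβ.1.1
    · intro β _ γ _ h; exact smul_left_cancel g h
    · intro β hβ
      refine ⟨g⁻¹ • β, ?_, smul_inv_smul g β⟩
      simp only [T, N, Finset.mem_filter, Finset.mem_univ, true_and, hblk,
        Set.mem_inv_smul_set_iff] at hβ ⊢
      refine ⟨⟨?_, hβ.1.2⟩, hβ.2⟩
      rw [hg]; exact hβ.1.1
  have h3' : ∀ b c b' c' : α, b ≠ a → c ≠ a → b' ≠ a → c' ≠ a → b ≠ c → b' ≠ c' →
      ∃ g : G, g • a = a ∧ g • b = b' ∧ g • c = c' := by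
    intro b c b' c' hb hc hb' hc' hbc hbc'
    exact exists_smul_triple h3 (Ne.symm hb) (Ne.symm hc) hbc (Ne.symm hb') (Ne.symm hc') hbc'
  have hlam : ∀ b, lam b = mu b b := fun b => by
    refine congrArg Finset.card (Finset.ext fun β => ?_)
    simp only [Finset.mem_filter]
    tauto
  -- the number of blocks through `a` is the size of `B`
  have hT : T.card = B.ncard := by
    have hrow : ∀ x y : α, (Finset.univ.filter (N x)).card = (Finset.univ.filter (N y)).card := by
      intro x y
      obtain ⟨g, rfl⟩ := exists_smul_eq G x y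
      refine Finset.card_bij (fun β _ => g • β) ?_ ?_ ?_
      · intro β hβ
        simp only [N, Finset.mem_filter, Finset.mem_univ, true_and, hblk] at hβ ⊢
        exact Set.smul_mem_smul_set_iff.mpr hβ
      · intro β _ γ _ h; exact smul_left_cancel g h
      · intro β hβ
        refine ⟨g⁻¹ • β, ?_, smul_inv_smul g β⟩
        simp only [N, Finset.mem_filter, Finset.mem_univ, true_and, hblk,
          Set.mem_inv_smul_set_iff] at hβ ⊢
        exact hβ
    have hcol : ∀ β, (Finset.univ.filter (fun x => N x β)).card = B.ncard := by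
      intro β
      induction β using Quotient.inductionOn' with
      | h g =>
        rw [← Set.ncard_smul_set g B, ← Set.ncard_coe_finset]
        congr 1
        ext x
        rw [Finset.mem_coe, Finset.mem_filter]; exact ⟨fun h => h.2, fun h => ⟨Finset.mem_univ x, h⟩⟩
    have h := Finset.sum_card_bipartiteAbove_eq_sum_card_bipartiteBelow N
      (s := (Finset.univ : Finset α)) (t := (Finset.univ : Finset (G ⧸ H)))
    simp only [Finset.bipartiteAbove, Finset.bipartiteBelow] at h
    rw [Finset.sum_const_nat (m := T.card) (fun x _ => hrow x a),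
      Finset.sum_const_nat (m := B.ncard) (fun β _ => hcol β), Finset.card_univ, Finset.card_univ,
      hα, show Fintype.card (G ⧸ H) = p by rw [← Nat.card_eq_fintype_card]; exact hH] at h
    exact Nat.eq_of_mul_eq_mul_left hp.pos h
  have hBle : B.ncard ≤ p := by
    rw [← hnα, ← Set.ncard_univ]
    exact Set.ncard_le_ncard (Set.subset_univ _)
  have hBp : B.ncard ≠ p := by
    intro h
    have hd : B.ncard ∣ Nat.card H := by
      rw [← Nat.card_coe_set_eq, hB, ← Nat.card_congr (orbitEquivQuotientStabilizer H a).symm]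
      exact Subgroup.card_quotient_dvd_card _
    rw [h] at hd
    refine sq_not_dvd_card hα G ?_
    rw [← H.card_mul_index, hH]
    exact Nat.mul_dvd_mul_right hd p
  by_cases h1B : B.ncard = 1
  · obtain ⟨x, hx⟩ := Set.ncard_eq_one.mp h1B
    refine ⟨a, fun h hh => ?_⟩
    have h' : h • a ∈ B := ⟨⟨h, hh⟩, rfl⟩
    have h'' : a ∈ B := mem_orbit_self a
    rw [hx] at h' h''
    exact h'.trans h''.symm
  have hpm : p - 1 ≤ B.ncard := by
    by_contra hlt
    have hpos : 1 < B.ncard := by
      have : 0 < B.ncard := (Set.ncard_pos (Set.toFinite _)).mpr ⟨a, mem_orbit_self a⟩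
      omega
    obtain ⟨b₀, hb₀B, hb₀⟩ := Set.exists_ne_of_one_lt_ncard hpos a
    obtain ⟨c₀, hc₀⟩ : ∃ c, c ∉ B := by
      by_contra hne
      simp only [not_exists, not_not] at hne
      exact hBp (by rw [show B = Set.univ from Set.eq_univ_of_forall hne, Set.ncard_univ, hnα])
    have hc₀a : c₀ ≠ a := fun h => hc₀ (h ▸ mem_orbit_self a)
    have hbc₀ : b₀ ≠ c₀ := fun h => hc₀ (h ▸ hb₀B)
    have hlt' : mu b₀ c₀ < lam b₀ := by
      refine Finset.card_lt_card ⟨Finset.filter_subset _ _, fun hsub => ?_⟩
      have hmem : ((1 : G) : G ⧸ H) ∈ T.filter (N b₀) := by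
        have e1 : blk ((1 : G) : G ⧸ H) = B := one_smul G B
        simp only [T, N, Finset.mem_filter, Finset.mem_univ, true_and, e1]
        exact ⟨mem_orbit_self a, hb₀B⟩
      have := (Finset.mem_filter.mp (hsub hmem)).2
      simp only [N] at this
      rw [show blk ((1 : G) : G ⧸ H) = B from one_smul G B] at this
      exact hc₀ this
    have hfish := fisher_le (ι := {b : α // b ≠ a}) (κ := T)
      (fun b β => if N b β.1 then 1 else 0) (lam b₀) (mu b₀ c₀) (Nat.cast_nonneg _)
      (by exact_mod_cast hlt') (fun b => by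
        obtain ⟨c, hcb, hca⟩ : ∃ c, c ≠ b.1 ∧ c ≠ a := by
          rcases eq_or_ne b.1 b₀ with h | h
          · exact ⟨c₀, h ▸ hbc₀.symm, hc₀a⟩
          · exact ⟨b₀, Ne.symm h, hb₀⟩
        obtain ⟨g, hga, hgb, -⟩ := h3' b₀ c₀ b.1 c hb₀ hc₀a b.2 hca hbc₀ hcb.symm
        have e : lam b.1 = lam b₀ := by rw [hlam, hlam, ← hgb, hmove g hga]
        rw [← e]
        simp only [lam]
        rw [Finset.natCast_card_filter, ← Finset.sum_coe_sort T]
        exact Finset.sum_congr rfl fun β _ => by split_ifs <;> simp) (fun b c hbc => by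
        obtain ⟨g, hga, hgb, hgc⟩ := h3' b₀ c₀ b.1 c.1 hb₀ hc₀a b.2 c.2 hbc₀
          (fun h => hbc (Subtype.ext h))
        have e : mu b.1 c.1 = mu b₀ c₀ := by rw [← hgb, ← hgc, hmove g hga]
        rw [← e]
        simp only [mu]
        rw [Finset.filter_filter, Finset.natCast_card_filter, ← Finset.sum_coe_sort T]
        exact Finset.sum_congr rfl fun β _ => by
          by_cases h1 : N b.1 β.1 <;> by_cases h2 : N c.1 β.1 <;> simp [h1, h2])
    rw [Fintype.card_subtype_compl, Fintype.card_subtype_eq, hα, Fintype.card_coe, hT] at hfish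
    omega
  -- the single point outside `B` is fixed
  have hc : Bᶜ.ncard = 1 := by
    rw [Set.ncard_compl, hnα]; omega
  obtain ⟨x, hx⟩ := Set.ncard_eq_one.mp hc
  refine ⟨x, fun h hh => ?_⟩
  have h' : h • x ∈ h • Bᶜ := Set.smul_mem_smul_set (by rw [hx]; rfl)
  rw [Set.smul_set_compl, hHB h hh, hx] at h'
  exact h'

/-- With an even Sylow normalizer the subgroups of index `p` are the point stabilizers. -/
theorem eq_stabilizer_of_index (hα : Fintype.card α = p) (G : Subgroup (Equiv.Perm α))
    [IsPretransitive G α] (P : Sylow p G)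
    (heven : Even (Nat.card (Subgroup.normalizer ((P : Subgroup G) : Set G))))
    (H : Subgroup G) (hH : H.index = p) : ∃ a : α, H = stabilizer G a := by
  have hp := (Fact.out : p.Prime)
  suffices h : ∃ a : α, ∀ h ∈ H, h • a = a by
    obtain ⟨a, ha⟩ := h
    refine ⟨a, Subgroup.eq_of_le_of_card_ge (fun h hh => ha h hh) ?_⟩
    have h1 := (stabilizer G a).card_mul_index
    have h2 := H.card_mul_index
    rw [index_stabilizer_of_transitive, Nat.card_eq_fintype_card (α := α), hα] at h1
    rw [hH, ← h1] at h2
    exact (Nat.eq_of_mul_eq_mul_right hp.pos h2).ge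
  by_cases hG : Group.IsSolvable G
  · obtain ⟨e, htr, haff⟩ := affine_of_solvable hα G hG
    have hcop : ¬ p ∣ Nat.card H := fun h => sq_not_dvd_card hα G (by
      rw [← H.card_mul_index, hH]; exact Nat.mul_dvd_mul_right h p)
    by_cases hbot : H = ⊥
    · exact ⟨e 0, fun h hh => by rw [hbot, Subgroup.mem_bot] at hh; rw [hh, one_smul]⟩
    obtain ⟨h₀, hh₀, hne⟩ := H.bot_or_exists_ne_one.resolve_left hbot
    have trans_eq_one : ∀ u ∈ H, ∀ v, (∀ j, (u : Equiv.Perm α) (e j) = e (j + v)) → u = 1 := by
      intro u hu v hv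
      have hup : u ^ p = 1 := by
        refine Subtype.ext (Equiv.ext fun x => ?_)
        obtain ⟨j, rfl⟩ := e.surjective x
        rw [Subgroup.coe_pow]
        have : ∀ n : ℕ, ((u : Equiv.Perm α) ^ n) (e j) = e (j + n * v) := by
          intro n
          induction n with
          | zero => simp
          | succ n ih =>
            rw [pow_succ', Equiv.Perm.mul_apply, ih, hv, Nat.cast_succ]; congr 1; ring
        rw [this, ZMod.natCast_self, zero_mul, add_zero]
        rfl
      rcases (Nat.dvd_prime hp).mp (orderOf_dvd_of_pow_eq_one hup) with h | h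
      · exact orderOf_eq_one_iff.mp h
      · exfalso
        refine hcop ?_
        rw [← h, ← Subgroup.orderOf_mk u hu]
        exact orderOf_dvd_natCard _
    obtain ⟨k, v, hkv⟩ := haff h₀ h₀.2
    have hk : k ≠ 1 := fun h => hne (trans_eq_one h₀ hh₀ v (fun j => by rw [hkv, h, one_mul]))
    set c := -v / (k - 1) with hc
    have hfix : k * c + v = c := by
      have : (k - 1) * c = -v := by rw [hc, mul_div_cancel₀ _ (sub_ne_zero.mpr hk)]
      linear_combination this
    refine ⟨e c, fun u hu => ?_⟩
    obtain ⟨k', v', hkv'⟩ := haff u u.2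
    -- commutators are translations lying in `H`, hence trivial
    have hcom : u * h₀ = h₀ * u := by
      have hq : ∀ j, ((u * h₀ : G) : Equiv.Perm α) (e j) = e (k' * (k * j + v) + v') := fun j => by
        rw [Subgroup.coe_mul, Equiv.Perm.mul_apply, hkv, hkv']
      have hq' : ∀ j, ((h₀ * u : G) : Equiv.Perm α) (e j) = e (k * (k' * j + v') + v) := fun j => by
        rw [Subgroup.coe_mul, Equiv.Perm.mul_apply, hkv', hkv]
      have hone : (u * h₀) * (h₀ * u)⁻¹ = 1 := by
        refine trans_eq_one _ (H.mul_mem (H.mul_mem hu hh₀) (H.inv_mem (H.mul_mem hh₀ hu)))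
          ((k' * v + v') - (k * v' + v)) fun j => ?_
        obtain ⟨x, hx⟩ := e.surjective (((h₀ * u : G) : Equiv.Perm α)⁻¹ (e j))
        rw [Subgroup.coe_mul, Subgroup.coe_inv, Equiv.Perm.mul_apply, ← hx, hq]
        have hj : e (k * (k' * x + v') + v) = e j := by
          rw [← hq' x, hx, Equiv.Perm.inv_def, Equiv.apply_symm_apply]
        rw [← e.injective hj]
        congr 1; ring
      exact mul_inv_eq_one.mp hone
    have h0 : (h₀ : Equiv.Perm α) ((u : Equiv.Perm α) (e c)) = (u : Equiv.Perm α) (e c) := by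
      have := congrArg (fun w : G => (w : Equiv.Perm α) (e c)) hcom
      simp only [Subgroup.coe_mul, Equiv.Perm.mul_apply] at this
      rw [← this, hkv, hfix]
    show (u : Equiv.Perm α) (e c) = e c
    obtain ⟨d, hd⟩ := e.surjective ((u : Equiv.Perm α) (e c))
    rw [← hd, hkv] at h0
    have hd' : k * d + v = d := e.injective h0
    rw [← hd]
    congr 1
    have : (k - 1) * (d - c) = 0 := by linear_combination hd' - hfix
    exact sub_eq_zero.mp ((mul_eq_zero.mp this).resolve_left (sub_ne_zero.mpr hk))
  · exact exists_fixed_of_index hα G (five_le_of_insoluble hα G hG)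
      (three_transitive_of_even hα G hG P heven) H hH

end CfsgLib.PermGroup
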