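import Cfsg.Agent.Lib.PermGroup.SharpTwoKernel
import Cfsg.Prelude.Def_Perm
import Mathlib.Algebra.Group.TransferInstance
import Mathlib.GroupTheory.Perm.Basic
import Mathlib.GroupTheory.Perm.Subgroup

/-! Near-fields and sharply 2-transitive groups. -/

open MulAction

namespace CfsgLib.PermGroup.NF

variable {F : Type*} [Cfsg.NearField F]

theorem zero_mul' (a : F) : 0 * a = 0 := by
  have h := Cfsg.NearField.right_distrib (0 : F) 0 a
  rw [add_zero] at h
  exact left_eq_add.mp h

theorem ne_zero_mul {a b : F} (ha : a ≠ 0) (hb : b ≠ 0) : a * b ≠ 0 := by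
  intro h
  obtain ⟨c, hc, -⟩ := Cfsg.NearField.exists_inv b hb
  apply ha
  rw [← mul_one a, ← hc, ← mul_assoc, h, zero_mul']

theorem neg_mul' (a c : F) : (-a) * c = -(a * c) := by
  refine eq_neg_of_add_eq_zero_left ?_
  rw [← Cfsg.NearField.right_distrib, neg_add_cancel, zero_mul']

theorem sub_mul' (a b c : F) : (a - b) * c = a * c - b * c := by
  rw [sub_eq_add_neg, sub_eq_add_neg, Cfsg.NearField.right_distrib, neg_mul']

end CfsgLib.PermGroup.NF
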