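import Cfsg.Agent.Lib.PermGroup.HalfPrimitive
import Cfsg.Agent.Lib.PermGroup.HalfOneModFour
import Cfsg.Agent.Lib.PrimRecog.PSLTwoSquareSpectrum
import Cfsg.Agent.Lib.PSL2.Basic
import Cfsg.Agent.S3572
import Cfsg.Agent.S0206

/-!
An even group of degree `p + 1` properly containing a doubly transitive `PSL(2, p)` is 4-transitive.

For `p ≡ 3 mod 4` the stabiliser of a pair, in the subgroup, is a regular dihedral group on the
remaining points, which forces the pointwise stabiliser to be doubly transitive there.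
-/

set_option autoImplicit false
set_option linter.unusedSectionVars false

open MulAction
open scoped Pointwise

namespace CfsgLib.PermGroup.PSLExt

variable {X Ω : Type*} [Group X] [Finite X] [MulAction X Ω] [FaithfulSMul X Ω]

theorem smul_ne {a z : Ω} {g : X} (hg : g • a = a) (hz : z ≠ a) : g • z ≠ a := fun h =>
  hz (smul_left_cancel g (h.trans hg.symm))

instance faithful_stabilizer (a : Ω) : FaithfulSMul ↥(stabilizer X a) ↥(SubMulAction.ofStabilizer X a) :=
  ⟨fun {g h} e => Subtype.ext (FaithfulSMul.eq_of_smul_eq_smul fun z : Ω => by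
    by_cases hz : z = a
    · subst hz; rw [mem_stabilizer_iff.1 g.2, mem_stabilizer_iff.1 h.2]
    · exact congrArg Subtype.val (e ⟨z, hz⟩))⟩

/-- The slope subgroup of an affine group without full multipliers. -/
theorem card_le_of_affine {α : Type*} [Fintype α] [DecidableEq α] {p : ℕ} [Fact p.Prime] (hp : 3 ≤ p)
    (G : Subgroup (Equiv.Perm α)) (e : ZMod p ≃ α) (he : PermGroup.HasTranslations G e)
    (ha : ∀ g ∈ G, PermGroup.IsAffineOn e g) (heven : ∀ g ∈ G, Equiv.Perm.sign g = 1) :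
    2 * Nat.card G ≤ p * (p - 1) := by
  classical
  have hfac := (Fact.out : p.Prime)
  let S : Subgroup (ZMod p)ˣ :=
    { carrier := {c | ∃ g ∈ G, ∀ j, g (e j) = e (c * j)}
      one_mem' := ⟨1, G.one_mem, fun j => by simp⟩
      mul_mem' := by
        rintro c c' ⟨g, hg, hgj⟩ ⟨g', hg', hgj'⟩
        exact ⟨g * g', G.mul_mem hg hg', fun j => by
          rw [Equiv.Perm.mul_apply, hgj', hgj, Units.val_mul, mul_assoc]⟩
      inv_mem' := by
        rintro c ⟨g, hg, hgj⟩
        refine ⟨g⁻¹, G.inv_mem hg, fun j => ?_⟩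
        rw [Equiv.Perm.inv_def, Equiv.symm_apply_eq, hgj, Units.mul_inv_cancel_left] }
  have hdata : ∀ n : G, ∃ c : S, ∃ v : ZMod p, ∀ j,
      (n : Equiv.Perm α) (e j) = e (((c : (ZMod p)ˣ) : ZMod p) * j + v) := by
    intro n
    obtain ⟨k, v, hkv⟩ := ha n n.2
    have hk : k ≠ 0 := by
      rintro rfl
      have h := (n : Equiv.Perm α).injective ((hkv 1).trans (by rw [hkv 0]; simp))
      exact one_ne_zero (e.injective h)
    obtain ⟨t, ht, htj⟩ := he (-v)
    refine ⟨⟨Units.mk0 k hk, t * (n : Equiv.Perm α), G.mul_mem ht n.2, fun j => ?_⟩, v, hkv⟩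
    rw [Equiv.Perm.mul_apply, hkv, htj, Units.val_mk0, add_neg_cancel_right]
  choose fc fv hf using hdata
  have hinj : Function.Injective fun n => (fc n, fv n) := by
    intro n n' h
    refine Subtype.ext (Equiv.ext fun x => ?_)
    obtain ⟨j, rfl⟩ := e.surjective x
    simp only [Prod.mk.injEq] at h
    rw [hf, hf, h.1, h.2]
  have hle := Nat.card_le_card_of_injective _ hinj
  rw [Nat.card_prod, Nat.card_zmod] at hle
  have hStop : S ≠ ⊤ := by
    intro htop
    obtain ⟨k, hk⟩ := IsCyclic.exists_generator (α := (ZMod p)ˣ)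
    obtain ⟨g, hg, hgj⟩ : k ∈ S := htop ▸ Subgroup.mem_top k
    let μ : Equiv.Perm (ZMod p) := Equiv.mulLeft₀ (k : ZMod p) k.ne_zero
    have hconj : g = e.permCongr μ := by
      refine Equiv.ext fun x => ?_
      obtain ⟨j, rfl⟩ := e.surjective x
      rw [hgj, Equiv.permCongr_apply, e.symm_apply_apply]
      rfl
    have h1 := heven g hg
    rw [hconj, Equiv.Perm.sign_permCongr] at h1
    have hk1 : (k : ZMod p) ≠ 1 := fun h => by
      have : Fintype.card (ZMod p)ˣ = 1 := by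
        rw [Fintype.card_eq_one_iff]
        refine ⟨k, fun y => ?_⟩
        obtain ⟨n, rfl⟩ := Subgroup.mem_zpowers_iff.1 (hk y)
        rw [Units.val_eq_one] at h
        rw [h, one_zpow]
      rw [ZMod.card_units] at this
      omega
    have hcyc : μ.IsCycle := by
      refine ⟨1, by simpa [μ] using hk1, fun y hy => ?_⟩
      have hy0 : y ≠ 0 := fun h => hy (by simp [μ, h])
      obtain ⟨n, hn⟩ := (IsOfFinOrder.mem_powers_iff_mem_zpowers (isOfFinOrder_of_finite k)).2
        (hk (Units.mk0 y hy0))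
      refine ⟨(n : ℤ), ?_⟩
      rw [zpow_natCast]
      have key : ∀ i : ℕ, (μ ^ i) 1 = ((k ^ i : (ZMod p)ˣ) : ZMod p) := by
        intro i
        induction i with
        | zero => simp
        | succ i ih => rw [pow_succ', Equiv.Perm.mul_apply, ih, pow_succ', Units.val_mul]; rfl
      rw [key, show k ^ n = Units.mk0 y hy0 from hn, Units.val_mk0]
    have hsupp : μ.support = Finset.univ.erase 0 := by
      ext y
      simp only [Equiv.Perm.mem_support, Finset.mem_erase, Finset.mem_univ, and_true]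
      change (k : ZMod p) * y ≠ y ↔ y ≠ 0
      refine ⟨fun h hy => h (by rw [hy, mul_zero]), fun hy h => hk1 ?_⟩
      exact mul_right_cancel₀ hy (h.trans (one_mul y).symm)
    rw [hcyc.sign, hsupp, Finset.card_erase_of_mem (Finset.mem_univ _), Finset.card_univ, ZMod.card] at h1
    obtain ⟨c, hc⟩ := hfac.odd_of_ne_two (by omega)
    rw [Even.neg_one_pow ⟨c, by omega⟩] at h1
    exact absurd h1 (by decide)
  have hidx := S.card_mul_index
  rw [Nat.card_units, Nat.card_zmod] at hidx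
  have h2 : 2 ≤ S.index := by
    rcases (show S.index = 0 ∨ S.index = 1 ∨ 2 ≤ S.index by omega) with h | h | h
    · exact absurd h Subgroup.index_ne_zero_of_finite
    · exact absurd (Subgroup.index_eq_one.1 h) hStop
    · exact h
  calc 2 * Nat.card G ≤ 2 * (Nat.card S * p) := by omega
    _ = p * (Nat.card S * 2) := by ring
    _ ≤ p * (Nat.card S * S.index) := Nat.mul_le_mul_left _ (Nat.mul_le_mul_left _ h2)
    _ = _ := by rw [hidx]

variable [Fintype Ω] [DecidableEq Ω]

/-- The point stabiliser is a half-normaliser group. -/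
theorem stabilizer_facts {p : ℕ} (hp : p.Prime) (hp7 : 7 < p) (hΩ : Fintype.card Ω = p + 1)
    (heven : ∀ x : X, Equiv.Perm.sign (MulAction.toPerm x : Equiv.Perm Ω) = 1)
    (L : Subgroup X) (hLcard : 2 * Nat.card L = (p + 1) * (p * (p - 1)))
    (hLt : IsMultiplyPretransitive ↥L Ω 2) (hLX : L ≠ ⊤) (a : Ω) :
    Nat.card ↥(SubMulAction.ofStabilizer X a) = p ∧
    IsPretransitive ↥(stabilizer X a) ↥(SubMulAction.ofStabilizer X a) ∧
    ¬ Group.IsSolvable ↥(stabilizer X a) ∧
    ∃ P : Sylow p ↥(stabilizer X a),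
      (P : Subgroup ↥(stabilizer X a)) ≤ L.subgroupOf (stabilizer X a) ∧
      Nat.card P = p ∧ L.subgroupOf (stabilizer X a) ≤
        Subgroup.normalizer ((P : Subgroup ↥(stabilizer X a)) : Set ↥(stabilizer X a)) ∧
      2 * Nat.card ↥(L.subgroupOf (stabilizer X a)) = p * (p - 1) := by
  have : Fact p.Prime := ⟨hp⟩
  have hLp : IsPretransitive ↥L Ω := by haveI := hLt; exact isPretransitive_of_is_two_pretransitive
  have hcard : Nat.card ↥(SubMulAction.ofStabilizer X a) = p := by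
    rw [SubMulAction.nat_card_ofStabilizer_eq, Nat.card_eq_fintype_card, hΩ, Nat.add_sub_cancel]
  have h2' : ∀ {u v u' v' : Ω}, u ≠ v → u' ≠ v' → ∃ g : L, g • u = u' ∧ g • v = v' :=
    fun h h' => is_two_pretransitive_iff.mp hLt h h'
  have htr : IsPretransitive ↥(stabilizer X a) ↥(SubMulAction.ofStabilizer X a) := ⟨fun u v => by
    obtain ⟨g, ga, gu⟩ := h2' (show a ≠ u.1 from fun h => u.2 h.symm) (show a ≠ v.1 from fun h => v.2 h.symm)
    exact ⟨⟨(g : X), ga⟩, Subtype.ext gu⟩⟩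
  set La := L.subgroupOf (stabilizer X a) with hLa
  have hLacard : 2 * Nat.card La = p * (p - 1) := by
    have h1 : Nat.card La = Nat.card (stabilizer ↥L a) := Nat.card_congr
      { toFun := fun g => ⟨⟨(g.1 : X), g.2⟩, g.1.2⟩
        invFun := fun g => ⟨⟨(g.1 : X), g.2⟩, g.1.2⟩
        left_inv := fun g => rfl
        right_inv := fun g => rfl }
    have h2 := (stabilizer ↥L a).card_mul_index
    rw [index_stabilizer_of_transitive, Nat.card_eq_fintype_card (α := Ω), hΩ] at h2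
    rw [h1]
    refine Nat.eq_of_mul_eq_mul_right (Nat.add_one_pos p) ?_
    calc 2 * Nat.card (stabilizer ↥L a) * (p + 1) = 2 * Nat.card L := by rw [mul_assoc, h2]
      _ = _ := by rw [hLcard]; ring
  have hpdvd : ∀ {Y : Type _} [Group Y] [Finite Y] (ι : Y →* ↥(stabilizer X a)), Function.Injective ι →
      ¬ p * p ∣ Nat.card Y := by
    intro Y _ _ ι hι h
    have h1 := h.trans ((Subgroup.card_dvd_of_injective ι hι).trans
      (Subgroup.card_dvd_of_injective (MulAction.toPermHom ↥(stabilizer X a) ↥(SubMulAction.ofStabilizer X a))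
        MulAction.toPerm_injective))
    rw [Nat.card_perm, hcard, ← sq, hp.pow_dvd_iff_le_factorization p.factorial_ne_zero,
      Nat.factorization_factorial hp (show Nat.log p p < 2 by
        exact Nat.log_lt_of_lt_pow' two_ne_zero (by nlinarith [hp.two_le]))] at h1
    simp [Nat.div_self hp.pos] at h1
  obtain ⟨Q⟩ : Nonempty (Sylow p La) := inferInstance
  have hQcard : Nat.card Q = p := by
    obtain ⟨n, hn⟩ := IsPGroup.iff_card.mp Q.isPGroup'
    have hd : p ∣ Nat.card La := by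
      have : p ∣ 2 * Nat.card La := hLacard ▸ Dvd.intro _ rfl
      exact (hp.dvd_mul.1 this).resolve_left fun h => by
        have := Nat.le_of_dvd two_pos h
        omega
    have hn1 : n ≠ 0 := fun h0 => by
      have h2 := Q.not_dvd_index
      rw [← (Q : Subgroup La).card_mul_index, hn, h0, pow_zero, one_mul] at hd
      exact h2 hd
    have hn2 : n < 2 := by
      by_contra h
      exact hpdvd La.subtype La.subtype_injective
        ((sq p ▸ pow_dvd_pow p (not_lt.1 h) : p * p ∣ p ^ n).trans (hn ▸ Subgroup.card_subgroup_dvd_card _))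
    rw [hn, show n = 1 by omega, pow_one]
  have hQn : (Q : Subgroup La).Normal := by
    have h1 := Sylow.card_eq_index_normalizer Q
    have h2 : Nat.card (Sylow p La) ≡ 1 [MOD p] := card_sylow_modEq_one p La
    have h3 : Nat.card (Sylow p La) ∣ (Q : Subgroup La).index := Sylow.card_dvd_index Q
    have h4 := (Q : Subgroup La).card_mul_index
    rw [show Nat.card (Q : Subgroup La) = p from hQcard] at h4
    have h5 : 2 * (Q : Subgroup La).index = p - 1 := by
      refine Nat.eq_of_mul_eq_mul_left hp.pos ?_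
      rw [← hLacard, ← h4]; ring
    have hle := Nat.le_of_dvd (Nat.pos_of_ne_zero Subgroup.index_ne_zero_of_finite) h3
    have h6 : Nat.card (Sylow p La) = 1 :=
      Nat.ModEq.eq_of_lt_of_lt h2 (by omega) hp.one_lt
    have : Subsingleton (Sylow p La) := (Nat.card_eq_one_iff_unique.1 h6).1
    exact Sylow.normal_of_subsingleton Q
  set Q' : Subgroup ↥(stabilizer X a) := (Q : Subgroup La).map La.subtype with hQ'
  obtain ⟨P, hP⟩ := (Q.isPGroup'.map La.subtype).exists_le_sylow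
  have hQ'card : Nat.card Q' = p := by
    rw [hQ', Subgroup.card_map_of_injective La.subtype_injective, hQcard]
  have hPcard : Nat.card P = p := by
    obtain ⟨n, hn⟩ := IsPGroup.iff_card.mp P.isPGroup'
    have hd : p ∣ p ^ n := by
      have h := Subgroup.card_dvd_of_le hP
      rw [hQ'card] at h
      exact hn ▸ h
    have hn0 : n ≠ 0 := fun h => by
      rw [h, pow_zero] at hd
      exact hp.one_lt.ne' (Nat.dvd_one.1 hd)
    have hn2 : n < 2 := by
      by_contra h
      exact hpdvd (MonoidHom.id _) Function.injective_id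
        ((sq p ▸ pow_dvd_pow p (not_lt.1 h) : p * p ∣ p ^ n).trans (hn ▸ Subgroup.card_subgroup_dvd_card _))
    rw [hn, show n = 1 by omega, pow_one]
  have hPQ : (P : Subgroup ↥(stabilizer X a)) = Q' :=
    (Subgroup.eq_of_le_of_card_ge hP (by rw [hQ'card]; exact hPcard.le)).symm
  have hnorm : La ≤ Subgroup.normalizer ((P : Subgroup ↥(stabilizer X a)) : Set ↥(stabilizer X a)) := by
    rw [hPQ, hQ']
    intro g hg
    rw [Subgroup.mem_normalizer_iff]
    intro z
    constructor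
    · rintro ⟨q, hq, rfl⟩
      exact ⟨⟨g, hg⟩ * q * ⟨g, hg⟩⁻¹, hQn.conj_mem q hq _, rfl⟩
    · rintro ⟨q, hq, hqz⟩
      refine ⟨⟨g, hg⟩⁻¹ * q * (⟨g, hg⟩⁻¹)⁻¹, hQn.conj_mem q hq _, ?_⟩
      show g⁻¹ * La.subtype q * (g⁻¹)⁻¹ = z
      rw [hqz]; group
  refine ⟨hcard, htr, fun hsol => hLX ?_, P, hPQ ▸ Subgroup.map_subtype_le _, hPcard, hnorm, hLacard⟩
  -- a soluble stabiliser would be affine, hence inside the subgroup
  classical
  have := Half.img_pretransitive (G := ↥(stabilizer X a)) (Ω := ↥(SubMulAction.ofStabilizer X a)) htr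
  have hsol' : Group.IsSolvable (Half.img ↥(stabilizer X a) ↥(SubMulAction.ofStabilizer X a)) :=
    solvable_of_surjective (f := (Half.imgEquiv (G := ↥(stabilizer X a))
      (Ω := ↥(SubMulAction.ofStabilizer X a))).toMonoidHom) (MulEquiv.surjective _)
  have hcard' : Fintype.card ↥(SubMulAction.ofStabilizer X a) = p := by
    rw [← Nat.card_eq_fintype_card, hcard]
  obtain ⟨e, he, hae⟩ := PermGroup.affine_of_solvable hcard'
    (Half.img ↥(stabilizer X a) ↥(SubMulAction.ofStabilizer X a)) hsol'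
  have hle := card_le_of_affine (by omega) _ e he hae (by
    rintro _ ⟨g, rfl⟩
    refine Eq.trans ?_ (heven (g : X))
    have hfix : ∀ z : Ω, (MulAction.toPerm (g : X) : Equiv.Perm Ω) z ≠ z → z ≠ a := fun z hz h =>
      hz (by subst h; exact g.2)
    refine Equiv.Perm.sign_bij (fun z _ => z.1) (fun z _ h => rfl) (fun z z' _ _ h => Subtype.ext h)
      (fun z hz => ⟨⟨z, hfix z hz⟩, ?_, rfl⟩)
    exact fun h => hz (congrArg Subtype.val h))
  rw [← Nat.card_congr (Half.imgEquiv (G := ↥(stabilizer X a))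
    (Ω := ↥(SubMulAction.ofStabilizer X a))).toEquiv] at hle
  have hXt : IsPretransitive X Ω := ⟨fun u v => by
    obtain ⟨g, hg⟩ := hLp.exists_smul_eq u v
    exact ⟨(g : X), hg⟩⟩
  have hX := (stabilizer X a).card_mul_index
  rw [index_stabilizer_of_transitive, Nat.card_eq_fintype_card (α := Ω), hΩ] at hX
  refine Subgroup.eq_top_of_card_eq L (le_antisymm (Subgroup.card_le_card_group L) ?_)
  have h := Nat.mul_le_mul_right (p + 1) hle
  rw [mul_assoc, hX, mul_comm (p * (p - 1)), ← hLcard] at h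
  omega

/-- A rank-three stabiliser whose suborbits can be interchanged needs an even count. -/
theorem two_trans_of_pair {p : ℕ} (hodd : Odd p) (hΩ : Fintype.card Ω = p + 1) (a : Ω)
    (b : ↥(SubMulAction.ofStabilizer X a))
    (hfour : ∀ {c : ↥(SubMulAction.ofStabilizer X a)}, b ≠ c →
      Nat.card (orbitRel.Quotient ↥(stabilizer ↥(stabilizer X a) b ⊓ stabilizer ↥(stabilizer X a) c)
        ↥(SubMulAction.ofStabilizer X a)) ≤ 4)
    (hprim : IsPreprimitive ↥(stabilizer ↥(stabilizer X a) b)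
      ↥(SubMulAction.ofStabilizer ↥(stabilizer X a) b))
    (hK : ∀ c d d' : Ω, c ≠ a → c ≠ b.1 → d ≠ a → d ≠ b.1 → d' ≠ a → d' ≠ b.1 → d ≠ c → d' ≠ c →
      ∃ k : X, ((k • a = a ∧ k • b.1 = b.1) ∨ (k • a = b.1 ∧ k • b.1 = a)) ∧ k • c = c ∧ k • d = d') :
    IsMultiplyPretransitive ↥(stabilizer ↥(stabilizer X a) b)
      ↥(SubMulAction.ofStabilizer ↥(stabilizer X a) b) 2 := by
  classical
  have hab : a ≠ b.1 := fun h => b.2 h.symm
  obtain ⟨s, hs⟩ := hodd
  rw [is_two_pretransitive_iff]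
  intro x y x' y' hxy hxy'
  obtain ⟨g0, hg0⟩ := hprim.exists_smul_eq x x'
  have hy'' : g0 • y ≠ x' := fun h => hxy (smul_left_cancel g0 (hg0.trans h.symm))
  suffices hh : ∀ d d' : ↥(SubMulAction.ofStabilizer ↥(stabilizer X a) b), d ≠ x' → d' ≠ x' →
      ∃ g : ↥(stabilizer ↥(stabilizer X a) b), g • x' = x' ∧ g • d = d' by
    obtain ⟨g1, h1, h2⟩ := hh (g0 • y) y' hy'' hxy'.symm
    exact ⟨g1 * g0, by rw [mul_smul, hg0, h1], by rw [mul_smul, h2]⟩
  intro d d' hd hd'
  by_contra hno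
  have hno' : ∀ g : X, g • a = a → g • b.1 = b.1 → g • x'.1.1 = x'.1.1 → g • d.1.1 ≠ d'.1.1 := by
    intro g ga gb gx gd
    exact hno ⟨⟨⟨g, ga⟩, Subtype.ext gb⟩, Subtype.ext (Subtype.ext gx), Subtype.ext (Subtype.ext gd)⟩
  set c' : Ω := x'.1.1 with hc'
  have hc'a : c' ≠ a := x'.1.2
  have hc'b : c' ≠ b.1 := fun h => x'.2 (Subtype.ext h)
  set Y : Subgroup X := stabilizer X a ⊓ stabilizer X b.1 ⊓ stabilizer X c' with hY
  have h4 : Nat.card (orbitRel.Quotient ↥(stabilizer ↥(stabilizer X a) b ⊓ stabilizer ↥(stabilizer X a) x'.1)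
      ↥(SubMulAction.ofStabilizer X a)) ≤ 4 :=
    hfour (fun h => x'.2 h.symm)
  set Y' := stabilizer ↥(stabilizer X a) b ⊓ stabilizer ↥(stabilizer X a) x'.1
  have hY' : ∀ g : ↥Y', ((g : ↥(stabilizer X a)) : X) ∈ Y := fun g =>
    ⟨⟨(g : ↥(stabilizer X a)).2, congrArg Subtype.val (mem_stabilizer_iff.1 g.2.1)⟩,
      congrArg Subtype.val (mem_stabilizer_iff.1 g.2.2)⟩
  let cl : ↥(SubMulAction.ofStabilizer X a) → orbitRel.Quotient ↥Y' ↥(SubMulAction.ofStabilizer X a) :=
    Quotient.mk''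
  have hcl : ∀ u v, cl u = cl v → u.1 ∈ orbit ↥Y v.1 := fun u v e => by
    obtain ⟨g, hg⟩ := Quotient.eq''.1 e
    exact ⟨⟨_, hY' g⟩, congrArg Subtype.val hg⟩
  have hfb : ∀ u, u ∈ orbit ↥Y b.1 → u = b.1 := by
    rintro u ⟨g, rfl⟩; exact g.2.1.2
  have hfc : ∀ u, u ∈ orbit ↥Y c' → u = c' := by
    rintro u ⟨g, rfl⟩; exact g.2.2
  have hdd : d'.1.1 ∉ orbit ↥Y d.1.1 := by
    rintro ⟨g, hg⟩; exact hno' g g.2.1.1 g.2.1.2 g.2.2 hg
  have hdb : d.1.1 ≠ b.1 := fun h => d.2 (Subtype.ext h)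
  have hdb' : d'.1.1 ≠ b.1 := fun h => d'.2 (Subtype.ext h)
  have hdc : d.1.1 ≠ c' := fun h => hd (Subtype.ext (Subtype.ext h))
  have hdc' : d'.1.1 ≠ c' := fun h => hd' (Subtype.ext (Subtype.ext h))
  have hcover : ∀ z, z ≠ a → z ≠ b.1 → z ≠ c' → z ∈ orbit ↥Y d.1.1 ∪ orbit ↥Y d'.1.1 := by
    intro z hza hzb hzc
    by_contra hz
    have : Fintype (orbitRel.Quotient ↥Y' ↥(SubMulAction.ofStabilizer X a)) := Fintype.ofFinite _
    rw [Nat.card_eq_fintype_card] at h4
    have hne : ∀ u v : ↥(SubMulAction.ofStabilizer X a), u.1 ∉ orbit ↥Y v.1 → cl u ≠ cl v :=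
      fun u v h e => h (hcl u v e)
    simp only [Set.mem_union, not_or] at hz
    have h5 : ({cl ⟨z, hza⟩, cl d'.1, cl d.1, cl x'.1, cl b} : Finset _).card = 5 := by
      rw [Finset.card_insert_of_notMem, Finset.card_insert_of_notMem, Finset.card_insert_of_notMem,
        Finset.card_pair (hne _ _ fun h => hc'b (hfb _ h))] <;>
      simp only [Finset.mem_insert, Finset.mem_singleton, not_or]
      exacts [⟨hne _ _ fun h => hdc (hfc _ h), hne _ _ fun h => hdb (hfb _ h)⟩,
        ⟨hne _ _ hdd, hne _ _ fun h => hdc' (hfc _ h), hne _ _ fun h => hdb' (hfb _ h)⟩,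
        ⟨hne _ _ hz.2, hne _ _ hz.1, hne _ _ fun h => hzc (hfc _ h), hne _ _ fun h => hzb (hfb _ h)⟩]
    have := Finset.card_le_univ ({cl ⟨z, hza⟩, cl d'.1, cl d.1, cl x'.1, cl b} : Finset _)
    omega
  have hout : ∀ v, v ≠ a → v ≠ b.1 → v ≠ c' → ∀ z ∈ orbit ↥Y v, z ≠ a ∧ z ≠ b.1 ∧ z ≠ c' := by
    rintro v v1 v2 v3 _ ⟨g, rfl⟩
    exact ⟨smul_ne g.2.1.1 v1, smul_ne g.2.1.2 v2, smul_ne g.2.2 v3⟩
  have hun : orbit ↥Y d.1.1 ∪ orbit ↥Y d'.1.1 = ({a, b.1, c'} : Set Ω)ᶜ := by
    ext z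
    simp only [Set.mem_compl_iff, Set.mem_insert_iff, Set.mem_singleton_iff, not_or]
    exact ⟨fun h => h.elim (hout _ d.1.2 hdb hdc z) (hout _ d'.1.2 hdb' hdc' z),
      fun h => hcover z h.1 h.2.1 h.2.2⟩
  have hdisj : Disjoint (orbit ↥Y d.1.1) (orbit ↥Y d'.1.1) := by
    rw [Set.disjoint_left]
    intro z h1 h2
    exact hdd (by rw [← orbit_eq_iff.2 h1, orbit_eq_iff.2 h2]; exact mem_orbit_self _)
  have hsum := congrArg Set.ncard hun
  rw [Set.ncard_union_eq hdisj, Set.ncard_compl, Nat.card_eq_fintype_card, hΩ,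
    Set.ncard_eq_three.2 ⟨a, b.1, c', hab, hc'a.symm, hc'b.symm, rfl⟩] at hsum
  obtain ⟨k, hk, hkc, hkd⟩ := hK c' d.1.1 d'.1.1 hc'a hc'b d.1.2 hdb d'.1.2 hdb' hdc hdc'
  have hkY : ∀ (k : X), (k • a = a ∧ k • b.1 = b.1) ∨ (k • a = b.1 ∧ k • b.1 = a) → k • c' = c' →
      ∀ g ∈ Y, k * g * k⁻¹ ∈ Y := by
    intro k hk hkc g hg
    obtain ⟨⟨g1, g2⟩, g3⟩ := hg
    rcases hk with ⟨k1, k2⟩ | ⟨k1, k2⟩
    · refine ⟨⟨?_, ?_⟩, ?_⟩ <;> show (k * g * k⁻¹) • _ = _ <;> rw [mul_smul, mul_smul]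
      · rw [inv_smul_eq_iff.2 k1.symm, g1, k1]
      · rw [inv_smul_eq_iff.2 k2.symm, g2, k2]
      · rw [inv_smul_eq_iff.2 hkc.symm, g3, hkc]
    · refine ⟨⟨?_, ?_⟩, ?_⟩ <;> show (k * g * k⁻¹) • _ = _ <;> rw [mul_smul, mul_smul]
      · rw [inv_smul_eq_iff.2 k2.symm, g2, k2]
      · rw [inv_smul_eq_iff.2 k1.symm, g1, k1]
      · rw [inv_smul_eq_iff.2 hkc.symm, g3, hkc]
  have himg : ∀ (k : X), (k • a = a ∧ k • b.1 = b.1) ∨ (k • a = b.1 ∧ k • b.1 = a) → k • c' = c' →
      ∀ v : Ω, (orbit ↥Y v).ncard ≤ (orbit ↥Y (k • v)).ncard := by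
    intro k hk hkc v
    refine Set.ncard_le_ncard_of_injOn (fun z => k • z) ?_ (fun u _ u' _ h => smul_left_cancel k h)
      (Set.toFinite _)
    rintro _ ⟨g, rfl⟩
    exact ⟨⟨k * g * k⁻¹, hkY k hk hkc g g.2⟩, by show (k * (g : X) * k⁻¹) • k • v = _; simp [mul_smul]; rfl⟩
  have e1 := himg k hk hkc d.1.1
  have e2 := himg k⁻¹ (hk.imp (fun h => ⟨inv_smul_eq_iff.2 h.1.symm, inv_smul_eq_iff.2 h.2.symm⟩)
    fun h => ⟨inv_smul_eq_iff.2 h.2.symm, inv_smul_eq_iff.2 h.1.symm⟩) (inv_smul_eq_iff.2 hkc.symm) d'.1.1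
  rw [hkd] at e1
  rw [← hkd, inv_smul_smul, hkd] at e2
  have h0 : 0 < (orbit ↥Y d.1.1).ncard := (Set.ncard_pos (Set.toFinite _)).2 ⟨_, mem_orbit_self _⟩
  omega

set_option maxHeartbeats 1000000 in
/-- For `p ≡ 3 mod 4`, from the regular dihedral group. -/
theorem two_trans_of_dihedral {p : ℕ} (hp : p.Prime) (hp7 : 7 < p) (h4 : p % 4 = 3)
    (hΩ : Fintype.card Ω = p + 1)
    (heven : ∀ x : X, Equiv.Perm.sign (MulAction.toPerm x : Equiv.Perm Ω) = 1)
    (L : Subgroup X) (eL : ↥L ≃* Matrix.ProjectiveSpecialLinearGroup (Fin 2) (ZMod p))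
    (hLcard : 2 * Nat.card L = (p + 1) * (p * (p - 1)))
    (hLt : IsMultiplyPretransitive ↥L Ω 2) (hLX : L ≠ ⊤) (a : Ω) :
    IsMultiplyPretransitive ↥(stabilizer X a) ↥(SubMulAction.ofStabilizer X a) 3 := by
  classical
  have : Fact p.Prime := ⟨hp⟩
  obtain ⟨hcard, htr, hins, P, hPL, hPcard, hLN, hLacard⟩ :=
    stabilizer_facts hp hp7 hΩ heven L hLcard hLt hLX a
  set La := L.subgroupOf (stabilizer X a) with hLa
  have hN : p * (p - 1) ≤ 2 * Nat.card (Subgroup.normalizer ((P : Subgroup ↥(stabilizer X a)) : Set ↥(stabilizer X a))) :=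
    hLacard ▸ Nat.mul_le_mul_left 2 (Subgroup.card_le_of_le hLN)
  have : Nonempty ↥(SubMulAction.ofStabilizer X a) := (Nat.card_pos_iff.1 (hcard ▸ hp.pos)).1
  obtain ⟨b⟩ := this
  rw [SubMulAction.ofStabilizer.isMultiplyPretransitive (a := b)]
  have hab : a ≠ b.1 := fun h => b.2 h.symm
  have hprim := Half.stabilizer_preprimitive hp hcard htr hins P hN hp7 b
  set r := (p - 1) / 2 with hr
  have hr2 : p = 2 * r + 1 := by omega
  -- the rest, acted on by the stabiliser of the pair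
  let K : Subgroup X :=
    { carrier := {g | (g • a = a ∧ g • b.1 = b.1) ∨ (g • a = b.1 ∧ g • b.1 = a)}
      one_mem' := Or.inl ⟨one_smul X a, one_smul X b.1⟩
      mul_mem' := by
        rintro g g' (⟨h1, h2⟩ | ⟨h1, h2⟩) (⟨h3, h4⟩ | ⟨h3, h4⟩)
        · exact Or.inl ⟨by rw [mul_smul, h3, h1], by rw [mul_smul, h4, h2]⟩
        · exact Or.inr ⟨by rw [mul_smul, h3, h2], by rw [mul_smul, h4, h1]⟩
        · exact Or.inr ⟨by rw [mul_smul, h3, h1], by rw [mul_smul, h4, h2]⟩
        · exact Or.inl ⟨by rw [mul_smul, h3, h2], by rw [mul_smul, h4, h1]⟩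
      inv_mem' := by
        rintro g (⟨h1, h2⟩ | ⟨h1, h2⟩)
        · exact Or.inl ⟨inv_smul_eq_iff.2 h1.symm, inv_smul_eq_iff.2 h2.symm⟩
        · exact Or.inr ⟨inv_smul_eq_iff.2 h2.symm, inv_smul_eq_iff.2 h1.symm⟩ }
  let Δ : SubMulAction ↥K Ω :=
    { carrier := {z | z ≠ a ∧ z ≠ b.1}
      smul_mem' := by
        rintro ⟨g, hg⟩ z ⟨hza, hzb⟩
        rcases hg with ⟨h1, h2⟩ | ⟨h1, h2⟩
        · exact ⟨smul_ne h1 hza, smul_ne h2 hzb⟩
        · exact ⟨fun h => hzb (smul_left_cancel g (h.trans h2.symm)),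
            fun h => hza (smul_left_cancel g (h.trans h1.symm))⟩ }
  have hΔcard : Nat.card ↥Δ = p - 1 := by
    rw [show Nat.card ↥Δ = (({a, b.1} : Finset Ω)ᶜ).card from ?_, Finset.card_compl, hΩ,
      Finset.card_pair hab]
    · omega
    · rw [Nat.card_eq_fintype_card, Fintype.card_of_subtype (p := fun z => z ∈ Δ)
        ((({a, b.1} : Finset Ω))ᶜ)]
      intro z
      show z ∈ ({a, b.1} : Finset Ω)ᶜ ↔ z ≠ a ∧ z ≠ b.1
      simp
  have hswap_odd : ∀ k : X, k • a = b.1 → k • b.1 = a → ∀ z, z ≠ a → z ≠ b.1 → (∀ c, c ≠ a → c ≠ b.1 → k • c = c) → False := by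
    intro k ka kb z _ _ hk
    have : (MulAction.toPerm k : Equiv.Perm Ω) = Equiv.swap a b.1 := Equiv.ext fun c => by
      by_cases h1 : c = a
      · subst h1; rw [Equiv.swap_apply_left]; exact ka
      by_cases h2 : c = b.1
      · subst h2; rw [Equiv.swap_apply_right]; exact kb
      · rw [Equiv.swap_apply_of_ne_of_ne h1 h2]; exact hk c h1 h2
    have h := heven k
    rw [this, Equiv.Perm.sign_swap hab] at h
    exact absurd h (by decide)
  obtain ⟨z0⟩ : Nonempty ↥Δ := (Nat.card_pos_iff.1 (by omega : 0 < Nat.card ↥Δ)).1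
  have : FaithfulSMul ↥K ↥Δ := ⟨fun {g h} e => by
    rw [← inv_mul_eq_one]
    refine Subtype.ext (FaithfulSMul.eq_of_smul_eq_smul (α := Ω) fun z => ?_)
    have hfix : ∀ c, c ≠ a → c ≠ b.1 → ((g⁻¹ * h : ↥K) : X) • c = c := fun c h1 h2 => by
      have := congrArg Subtype.val (e ⟨c, h1, h2⟩)
      show ((g : X)⁻¹ * (h : X)) • c = c
      rw [mul_smul, inv_smul_eq_iff]
      exact this.symm
    rw [Subgroup.coe_one, one_smul]
    rcases (g⁻¹ * h).2 with ⟨h1, h2⟩ | ⟨h1, h2⟩
    · by_cases hza : z = a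
      · subst hza; exact h1
      by_cases hzb : z = b.1
      · subst hzb; exact h2
      exact hfix z hza hzb
    · exact (hswap_odd _ h1 h2 _ z0.2.1 z0.2.2 hfix).elim⟩
  -- primitivity
  let φ : ↥(stabilizer ↥(stabilizer X a) b) → ↥K := fun g =>
    ⟨((g : ↥(stabilizer X a)) : X), Or.inl ⟨(g : ↥(stabilizer X a)).2, congrArg Subtype.val g.2⟩⟩
  let f : ↥(SubMulAction.ofStabilizer ↥(stabilizer X a) b) →ₑ[φ] ↥Δ :=
    { toFun := fun z => ⟨z.1.1, z.1.2, fun h => z.2 (Subtype.ext h)⟩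
      map_smul' := fun g z => rfl }
  have hKprim : IsPreprimitive ↥K ↥Δ := by
    refine IsPreprimitive.of_surjective (f := f) fun z => ?_
    exact ⟨⟨⟨z.1, z.2.1⟩, fun h => z.2.2 (congrArg Subtype.val h)⟩, rfl⟩
  -- the subgroup fixes no three points
  have h2' : ∀ {u v u' v' : Ω}, u ≠ v → u' ≠ v' → ∃ g : L, g • u = u' ∧ g • v = v' :=
    fun h h' => is_two_pretransitive_iff.mp hLt h h'
  have hPtr : ∀ c : ↥(SubMulAction.ofStabilizer X a), ∃ q ∈ (P : Subgroup ↥(stabilizer X a)), q • b = c := by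
    intro c
    have hPp : IsPretransitive ↥(P : Subgroup ↥(stabilizer X a)) ↥(SubMulAction.ofStabilizer X a) := by
      obtain ⟨q, hq⟩ := exists_prime_orderOf_dvd_card' (G := (P : Subgroup ↥(stabilizer X a))) p (by rw [hPcard])
      obtain ⟨y, hy⟩ : ∃ y : ↥(SubMulAction.ofStabilizer X a), q • y ≠ y := by
        by_contra! hc
        have : q = 1 := Subtype.ext (FaithfulSMul.eq_of_smul_eq_smul
          (α := ↥(SubMulAction.ofStabilizer X a)) fun y => (hc y).trans (one_smul _ y).symm)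
        rw [this, orderOf_one] at hq
        exact hp.one_lt.ne hq
      have hd := (orbit ↥(P : Subgroup ↥(stabilizer X a)) y).ncard
      have h1 : (orbit ↥(P : Subgroup ↥(stabilizer X a)) y).ncard = p := by
        have hdvd : (orbit ↥(P : Subgroup ↥(stabilizer X a)) y).ncard ∣ p := by
          rw [← index_stabilizer]
          exact (Subgroup.index_dvd_card _).trans (dvd_of_eq hPcard)
        rcases (Nat.dvd_prime hp).1 hdvd with h | h
        · obtain ⟨w, hw⟩ := Set.ncard_eq_one.1 h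
          have e1 : q • y = w := by simpa [hw] using (mem_orbit y q)
          have e2 : y = w := by simpa [hw] using (mem_orbit_self y : y ∈ orbit ↥(P : Subgroup ↥(stabilizer X a)) y)
          exact absurd (e1.trans e2.symm) hy
        · exact h
      have h2 : orbit ↥(P : Subgroup ↥(stabilizer X a)) y = Set.univ :=
        Set.eq_of_subset_of_ncard_le (Set.subset_univ _) (by rw [Set.ncard_univ, hcard, h1]) (Set.toFinite _)
      refine ⟨fun u v => ?_⟩
      obtain ⟨g, hg⟩ := (h2 ▸ Set.mem_univ u : u ∈ orbit _ y)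
      obtain ⟨g', hg'⟩ := (h2 ▸ Set.mem_univ v : v ∈ orbit _ y)
      exact ⟨g' * g⁻¹, by rw [← hg, ← hg', mul_smul, inv_smul_smul]⟩
    obtain ⟨q, hq⟩ := hPp.exists_smul_eq b c
    exact ⟨q, q.2, hq⟩
  have hPreg : ∀ q ∈ (P : Subgroup ↥(stabilizer X a)), q • b = b → q = 1 := by
    have hf : Function.Surjective fun q : ↥(P : Subgroup ↥(stabilizer X a)) => (q : ↥(stabilizer X a)) • b :=
      fun c => by obtain ⟨q, hq, e⟩ := hPtr c; exact ⟨⟨q, hq⟩, e⟩
    have hinj := ((Nat.bijective_iff_surjective_and_card _).2 ⟨hf, by rw [hPcard, hcard]⟩).1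
    intro q hq h
    exact congrArg Subtype.val (hinj (a₁ := ⟨q, hq⟩) (a₂ := 1) (h.trans (one_smul _ b).symm))
  set C : Subgroup ↥(stabilizer X a) := La ⊓ stabilizer ↥(stabilizer X a) b with hC
  have hCcent : ∀ g ∈ C, ∀ q ∈ (P : Subgroup ↥(stabilizer X a)), q ≠ 1 →
      g • (q • b) = q • b → g = 1 := by
    intro g hg q hq hq1 hgq
    have hgb : g • b = b := mem_stabilizer_iff.1 hg.2
    have hqP : g * q * g⁻¹ ∈ (P : Subgroup ↥(stabilizer X a)) :=
      (Subgroup.mem_normalizer_iff.1 (hLN hg.1) q).1 hq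
    have hcomm : g * q * g⁻¹ = q := by
      have h := hPreg (q⁻¹ * (g * q * g⁻¹)) (mul_mem (inv_mem hq) hqP) (by
        rw [mul_smul, mul_smul, mul_smul, inv_smul_eq_iff.2 hgb.symm, hgq, inv_smul_smul])
      exact (inv_mul_eq_one.1 h).symm
    have hz : Subgroup.zpowers q = (P : Subgroup ↥(stabilizer X a)) := by
      refine Subgroup.eq_of_le_of_card_ge (by rwa [Subgroup.zpowers_le]) ?_
      have hd : Nat.card (Subgroup.zpowers q) ∣ p :=
        hPcard ▸ Subgroup.card_dvd_of_le ((Subgroup.zpowers_le).2 hq)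
      rcases (Nat.dvd_prime hp).1 hd with h | h
      · rw [Nat.card_zpowers, orderOf_eq_one_iff] at h; exact absurd h hq1
      · rw [h, hPcard]
    refine FaithfulSMul.eq_of_smul_eq_smul (α := ↥(SubMulAction.ofStabilizer X a)) fun c => ?_
    obtain ⟨q', hq', rfl⟩ := hPtr c
    obtain ⟨i, rfl⟩ := Subgroup.mem_zpowers_iff.1 (hz ▸ hq' : q' ∈ Subgroup.zpowers q)
    have hc : Commute g q := mul_inv_eq_iff_eq_mul.1 hcomm
    rw [one_smul, ← mul_smul, (hc.zpow_right i).eq, mul_smul, hgb]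
  have hfix3 : ∀ g : X, g ∈ L → g • a = a → g • b.1 = b.1 → ∀ c, c ≠ a → c ≠ b.1 → g • c = c → g = 1 := by
    intro g hgL ga gb c hca hcb gc
    obtain ⟨q, hq, hqb⟩ := hPtr ⟨c, hca⟩
    have := hCcent ⟨g, ga⟩ ⟨hgL, Subtype.ext gb⟩ q hq
      (fun h => hcb (by rw [h, one_smul] at hqb; exact congrArg Subtype.val hqb.symm))
      (by rw [hqb]; exact Subtype.ext gc)
    exact congrArg Subtype.val this
  -- orders
  have hLaodd : Odd (Nat.card La) := by
    have h : Nat.card La = p * r := by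
      have : 2 * Nat.card La = 2 * (p * r) := by rw [hLacard, show p - 1 = 2 * r by omega]; ring
      omega
    rw [h]
    exact Nat.odd_mul.2 ⟨hp.odd_of_ne_two (by omega), Nat.odd_iff.2 (by omega)⟩
  have hno_swap_fix : ∀ g : X, g ∈ L → g • a = b.1 → g • b.1 = a → ∀ c : Ω, g • c ≠ c := by
    intro g hgL ga gb c gc
    obtain ⟨h, hc, -⟩ := h2' (u := c) (v := if c = a then b.1 else a) (u' := a) (v' := b.1)
      (by split_ifs with h <;> [exact fun e => hab (h ▸ e); exact h]) hab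
    have hc' : (h : X) • c = a := hc
    have hmem : (⟨(h : X) * g * (h : X)⁻¹, by
        rw [mem_stabilizer_iff, mul_smul, mul_smul, ← hc', inv_smul_smul, gc]⟩ : ↥(stabilizer X a)) ∈ La :=
      mul_mem (mul_mem h.2 hgL) (inv_mem h.2)
    have hod := Subgroup.orderOf_dvd_natCard La hmem
    rw [Subgroup.orderOf_mk, ← MulAut.conj_apply, (MulAut.conj (h : X)).orderOf_eq] at hod
    obtain ⟨i, hi⟩ := hLaodd.of_dvd_nat hod
    have hpow : ∀ j : ℕ, (g ^ (2 * j)) • a = a := by
      intro j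
      induction j with
      | zero => simp
      | succ j ih => rw [show 2 * (j + 1) = 2 * j + 1 + 1 by ring, pow_succ, pow_succ, mul_smul, mul_smul, ga, gb, ih]
    have h1 : (g ^ orderOf g) • a = b.1 := by
      rw [hi, pow_succ', mul_smul, hpow, ga]
    rw [pow_orderOf_eq_one, one_smul] at h1
    exact hab h1
  have hswap_invol : ∀ g : X, g ∈ L → g • a = b.1 → g • b.1 = a → orderOf g = 2 := by
    intro g hgL ga gb
    have hmem : (⟨g ^ 2, by rw [mem_stabilizer_iff, sq, mul_smul, ga, gb]⟩ : ↥(stabilizer X a)) ∈ C :=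
      ⟨pow_mem hgL 2, Subtype.ext (by show (g ^ 2) • b.1 = b.1; rw [sq, mul_smul, gb, ga])⟩
    have hodd : Odd (orderOf (g ^ 2)) := by
      have := Subgroup.orderOf_dvd_natCard La hmem.1
      rw [Subgroup.orderOf_mk] at this
      exact hLaodd.of_dvd_nat this
    have hC_r : orderOf (g ^ 2) ∣ r := by
      have h : Nat.card C ∣ r := by
        have hidx : (stabilizer ↥La b).index = p := by
          have : IsPretransitive ↥La ↥(SubMulAction.ofStabilizer X a) := ⟨fun u v => by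
            obtain ⟨q, hq, hqu⟩ := hPtr u
            obtain ⟨q', hq', hqv⟩ := hPtr v
            exact ⟨⟨q' * q⁻¹, mul_mem (hPL hq') (inv_mem (hPL hq))⟩, by
              show (q' * q⁻¹) • u = v
              rw [← hqu, ← hqv, mul_smul, inv_smul_smul]⟩⟩
          rw [index_stabilizer_of_transitive, hcard]
        have h1 := (stabilizer ↥La b).card_mul_index
        have h2 : Nat.card C = Nat.card (stabilizer ↥La b) := Nat.card_congr
          { toFun := fun g => ⟨⟨g.1, g.2.1⟩, g.2.2⟩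
            invFun := fun g => ⟨g.1.1, g.1.2, g.2⟩
            left_inv := fun g => rfl
            right_inv := fun g => rfl }
        rw [hidx] at h1
        have h3 : 2 * Nat.card (stabilizer ↥La b) * p = 2 * r * p := by
          rw [mul_assoc, h1, hLacard, show p - 1 = 2 * r by omega]; ring
        have := Nat.eq_of_mul_eq_mul_right hp.pos h3
        rw [h2, show Nat.card (stabilizer ↥La b) = r by omega]
      have h2 := Subgroup.orderOf_dvd_natCard C hmem
      rw [Subgroup.orderOf_mk] at h2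
      exact h2.trans h
    have hord : orderOf (eL ⟨g, hgL⟩) ∈ PrimRecog.PSLSquare.orders p (ZMod p) := by
      rw [← PrimRecog.PSLSquare.range_orderOf_psl]; exact ⟨_, rfl⟩
    rw [eL.orderOf_eq, Subgroup.orderOf_mk] at hord
    simp only [PrimRecog.PSLSquare.orders, Set.mem_setOf_eq, ZMod.card] at hord
    have hg2 : 2 ∣ orderOf g := by
      by_contra h
      obtain ⟨i, hi⟩ := (Nat.odd_iff.2 (by omega) : Odd (orderOf g))
      have hpow : ∀ j : ℕ, (g ^ (2 * j)) • a = a := by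
        intro j
        induction j with
        | zero => simp
        | succ j ih => rw [show 2 * (j + 1) = 2 * j + 1 + 1 by ring, pow_succ, pow_succ, mul_smul, mul_smul, ga, gb, ih]
      have h1 : (g ^ orderOf g) • a = b.1 := by rw [hi, pow_succ', mul_smul, hpow, ga]
      rw [pow_orderOf_eq_one, one_smul] at h1
      exact hab h1
    have hgcd : Nat.gcd 2 (p - 1) = 2 := Nat.gcd_eq_left ⟨r, by omega⟩
    rw [hgcd] at hord
    have hdvd : orderOf g ∣ r + 1 := by
      rcases hord with h | h | h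
      · rw [show (p - 1) / 2 = r by omega] at h
        have := hg2.trans h
        omega
      · rwa [show (p + 1) / 2 = r + 1 by omega] at h
      · have := (Nat.prime_dvd_prime_iff_eq Nat.prime_two hp).1 (hg2.trans h)
        omega
    have h21 : orderOf (g ^ 2) = 1 := by
      refine Nat.dvd_one.1 ?_
      have := Nat.dvd_sub (orderOf_pow_dvd 2 |>.trans hdvd) hC_r
      rwa [Nat.add_sub_cancel_left] at this
    rw [orderOf_eq_one_iff] at h21
    refine le_antisymm (Nat.le_of_dvd two_pos (orderOf_dvd_of_pow_eq_one h21)) (Nat.le_of_dvd (orderOf_pos g) hg2)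
  -- the dihedral group
  obtain ⟨w, hwa, hwb⟩ := h2' hab hab.symm
  have hCcyc : IsCyclic C := by
    have hnorm : C ≤ Subgroup.normalizer ((P : Subgroup ↥(stabilizer X a)) : Set ↥(stabilizer X a)) :=
      inf_le_left.trans hLN
    let ψ : C →* MulAut ↥(P : Subgroup ↥(stabilizer X a)) :=
      (Subgroup.normalizerMonoidHom (P : Subgroup ↥(stabilizer X a))).comp (Subgroup.inclusion hnorm)
    have : IsCyclic ↥(P : Subgroup ↥(stabilizer X a)) := isCyclic_of_prime_card (p := p) hPcard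
    have : IsCyclic (MulAut ↥(P : Subgroup ↥(stabilizer X a))) := by
      have : IsCyclic (ZMod (Nat.card ↥(P : Subgroup ↥(stabilizer X a))))ˣ := by rw [hPcard]; infer_instance
      exact isCyclic_of_surjective (IsCyclic.mulAutMulEquiv ↥(P : Subgroup ↥(stabilizer X a))).symm
        (MulEquiv.surjective _)
    refine isCyclic_of_injective ψ ((injective_iff_map_eq_one ψ).2 fun g hg => ?_)
    obtain ⟨q, hq, hqc⟩ : ∃ q ∈ (P : Subgroup ↥(stabilizer X a)), q • b ≠ b := by
      have : ¬ ∀ c : ↥(SubMulAction.ofStabilizer X a), c = b := fun h => by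
        have : Subsingleton ↥(SubMulAction.ofStabilizer X a) := ⟨fun u v => (h u).trans (h v).symm⟩
        rw [Nat.card_of_subsingleton b] at hcard
        omega
      obtain ⟨c, hc⟩ := not_forall.1 this
      obtain ⟨q, hq, rfl⟩ := hPtr c
      exact ⟨q, hq, hc⟩
    have hconj : (g : ↥(stabilizer X a)) * q * (g : ↥(stabilizer X a))⁻¹ = q :=
      congrArg Subtype.val (DFunLike.congr_fun hg (⟨q, hq⟩ : ↥(P : Subgroup ↥(stabilizer X a))))
    refine Subtype.ext (hCcent g g.2 q hq (fun h => hqc (by rw [h, one_smul])) ?_)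
    conv_rhs => rw [← hconj, mul_smul, mul_smul, inv_smul_eq_iff.2 (mem_stabilizer_iff.1 g.2.2).symm]
  obtain ⟨c, hc⟩ := hCcyc.exists_generator
  set cX : X := ((c : ↥(stabilizer X a)) : X) with hcX
  have hca : cX • a = a := (c : ↥(stabilizer X a)).2
  have hcb : cX • b.1 = b.1 := congrArg Subtype.val (mem_stabilizer_iff.1 c.2.2)
  have hcL : cX ∈ L := c.2.1
  have hwo := hswap_invol (w : X) w.2 hwa hwb
  have hwco := hswap_invol ((w : X) * cX) (mul_mem w.2 hcL) (by rw [mul_smul, hca]; exact hwa)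
    (by rw [mul_smul, hcb]; exact hwb)
  set wK : ↥K := ⟨(w : X), Or.inr ⟨hwa, hwb⟩⟩
  set cK : ↥K := ⟨cX, Or.inl ⟨hca, hcb⟩⟩
  set D : Subgroup ↥K := Subgroup.closure {wK, wK * cK} with hD
  obtain ⟨eD⟩ := Cfsg.Agent.S0206.result wK (wK * cK)
    (by rw [← Subgroup.orderOf_coe]; exact hwo) (by rw [← Subgroup.orderOf_coe]; exact hwco) (fun h => by
      have hc1 : cX = 1 := congrArg Subtype.val (left_eq_mul.1 h)
      have hcard1 : Nat.card C = 1 := by
        rw [Nat.card_eq_one_iff_unique]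
        refine ⟨⟨fun u v => ?_⟩, ⟨1⟩⟩
        obtain ⟨i, rfl⟩ := Subgroup.mem_zpowers_iff.1 (hc u)
        obtain ⟨j, rfl⟩ := Subgroup.mem_zpowers_iff.1 (hc v)
        rw [show c = 1 from Subtype.ext (Subtype.ext hc1)]
        simp
      have hidx : Nat.card La ≤ p * Nat.card C := by
        have : IsPretransitive ↥La ↥(SubMulAction.ofStabilizer X a) := ⟨fun u v => by
          obtain ⟨q, hq, hqu⟩ := hPtr u
          obtain ⟨q', hq', hqv⟩ := hPtr v
          exact ⟨⟨q' * q⁻¹, mul_mem (hPL hq') (inv_mem (hPL hq))⟩, by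
            show (q' * q⁻¹) • u = v
            rw [← hqu, ← hqv, mul_smul, inv_smul_smul]⟩⟩
        have h1 := (stabilizer ↥La b).card_mul_index
        rw [index_stabilizer_of_transitive, hcard] at h1
        have h2 : Nat.card C = Nat.card (stabilizer ↥La b) := Nat.card_congr
          { toFun := fun g => ⟨⟨g.1, g.2.1⟩, g.2.2⟩
            invFun := fun g => ⟨g.1.1, g.1.2, g.2⟩
            left_inv := fun g => rfl
            right_inv := fun g => rfl }
        rw [h2, mul_comm, h1]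
      rw [hcard1, mul_one] at hidx
      have := Nat.mul_le_mul_left 2 hidx
      rw [hLacard, mul_comm 2 p] at this
      have := Nat.le_of_mul_le_mul_left this hp.pos
      omega)
  have hDL : ∀ g ∈ D, ((g : ↥K) : X) ∈ L := fun g hg => by
    have : D ≤ L.comap K.subtype := (Subgroup.closure_le _).2 (by
      rintro _ (rfl | rfl)
      exacts [w.2, mul_mem w.2 hcL])
    exact this hg
  have hsemi : ∀ z : ↥Δ, stabilizer ↥D z = ⊥ := fun z => by
    rw [eq_bot_iff]
    intro g hg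
    rw [Subgroup.mem_bot]
    have hfix : ((g : ↥K) : X) • z.1 = z.1 := congrArg Subtype.val hg
    refine Subtype.ext (Subtype.ext ?_)
    rcases (g : ↥K).2 with ⟨h1, h2⟩ | ⟨h1, h2⟩
    · exact hfix3 _ (hDL _ g.2) h1 h2 _ z.2.1 z.2.2 hfix
    · exact absurd hfix (hno_swap_fix _ (hDL _ g.2) h1 h2 _)
  have hCD : ∀ g (hgC : g ∈ C), (⟨((g : ↥(stabilizer X a)) : X), Or.inl ⟨g.2, congrArg Subtype.val (mem_stabilizer_iff.1 hgC.2)⟩⟩ : ↥K) ∈ D := by
    intro g hg
    obtain ⟨i, hi⟩ := Subgroup.mem_zpowers_iff.1 (hc ⟨g, hg⟩)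
    have hcD : cK ∈ D := by
      have := mul_mem (inv_mem (Subgroup.subset_closure (Set.mem_insert wK _) : wK ∈ D))
        (Subgroup.subset_closure (Set.mem_insert_of_mem _ rfl) : wK * cK ∈ D)
      rwa [inv_mul_cancel_left] at this
    refine (congrArg (· ∈ D) (Subtype.ext ?_ : _ = cK ^ i)).mpr (zpow_mem hcD i)
    rw [Subgroup.coe_zpow]
    show (g : X) = cX ^ i
    rw [hcX]
    have h := congrArg (fun u : ↥C => (((u : ↥(stabilizer X a))) : X)) hi
    simp only [Subgroup.coe_zpow] at h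
    exact h.symm
  have hDt : IsPretransitive ↥D ↥Δ := by
    have hinj : ∀ z : ↥Δ, Function.Injective fun g : D => g • z := fun z g h e => by
      have : g⁻¹ * h ∈ stabilizer ↥D z := by
        rw [mem_stabilizer_iff, mul_smul, inv_smul_eq_iff]; exact e.symm
      rwa [hsemi, Subgroup.mem_bot, inv_mul_eq_one] at this
    have hle : Nat.card ↥D ≤ Nat.card ↥Δ := Nat.card_le_card_of_injective _ (hinj z0)
    have hCle : 2 * Nat.card C ≤ Nat.card ↥D := by
      rw [mul_comm, ← Fintype.card_bool, ← Nat.card_eq_fintype_card (α := Bool), ← Nat.card_prod]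
      refine Nat.card_le_card_of_injective (fun x : C × Bool => (if x.2
        then (⟨wK, Subgroup.subset_closure (Set.mem_insert _ _)⟩ : ↥D) else 1) *
          ⟨_, hCD x.1 x.1.2⟩) ?_
      rintro ⟨g, s⟩ ⟨g', s'⟩ e
      have e' := congrArg (fun x : ↥D => (((x : ↥K)) : X) • a) e
      have hg : ((g : ↥(stabilizer X a)) : X) • a = a := (g : ↥(stabilizer X a)).2
      have hg' : ((g' : ↥(stabilizer X a)) : X) • a = a := (g' : ↥(stabilizer X a)).2
      have hwa' : (w : X) • a = b.1 := hwa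
      have hs : s = s' := by
        cases s <;> cases s' <;> simp [mul_smul, hg, hg', wK, hab, hab.symm, hwa'] at e' ⊢
      subst hs
      have e2 := congrArg (fun x : ↥D => (((x : ↥K)) : X)) e
      simp only [Subgroup.coe_mul] at e2
      exact Prod.ext (Subtype.ext (Subtype.ext (mul_left_cancel e2))) rfl
    have hCcard : Nat.card La ≤ p * Nat.card C := by
      have : IsPretransitive ↥La ↥(SubMulAction.ofStabilizer X a) := ⟨fun u v => by
        obtain ⟨q, hq, hqu⟩ := hPtr u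
        obtain ⟨q', hq', hqv⟩ := hPtr v
        exact ⟨⟨q' * q⁻¹, mul_mem (hPL hq') (inv_mem (hPL hq))⟩, by
          show (q' * q⁻¹) • u = v
          rw [← hqu, ← hqv, mul_smul, inv_smul_smul]⟩⟩
      have h1 := (stabilizer ↥La b).card_mul_index
      rw [index_stabilizer_of_transitive, hcard] at h1
      have h2 : Nat.card C = Nat.card (stabilizer ↥La b) := Nat.card_congr
        { toFun := fun g => ⟨⟨g.1, g.2.1⟩, g.2.2⟩
          invFun := fun g => ⟨g.1.1, g.1.2, g.2⟩
          left_inv := fun g => rfl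
          right_inv := fun g => rfl }
      rw [h2, mul_comm, h1]
    have h5 : p - 1 ≤ 2 * Nat.card C := by
      have := Nat.mul_le_mul_left 2 hCcard
      rw [hLacard, mul_left_comm 2 p] at this
      exact Nat.le_of_mul_le_mul_left this hp.pos
    have hbij : ∀ z : ↥Δ, Function.Surjective fun g : D => g • z := fun z =>
      ((Nat.bijective_iff_injective_and_card _).2 ⟨hinj z, by omega⟩).2
    exact ⟨fun u v => hbij u v⟩
  have hK2 := Cfsg.Agent.S3572.result hKprim D _ ⟨eD⟩ ⟨hDt, hsemi⟩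
  have hK2' : ∀ {u v u' v' : ↥Δ}, u ≠ v → u' ≠ v' → ∃ g : ↥K, g • u = u' ∧ g • v = v' :=
    fun h h' => is_two_pretransitive_iff.mp hK2 h h'
  refine two_trans_of_pair (hp.odd_of_ne_two (by omega)) hΩ a b
    (fun h => Half.card_orbits_le_four hp hcard htr hins P hN h) hprim
    fun c d d' h1 h2 h3 h4 h5 h6 h7 h8 => ?_
  obtain ⟨k, hk1, hk2⟩ := hK2' (u := ⟨c, h1, h2⟩) (v := ⟨d, h3, h4⟩) (u' := ⟨c, h1, h2⟩) (v' := ⟨d', h5, h6⟩)
    (fun h => h7 (congrArg Subtype.val h).symm) (fun h => h8 (congrArg Subtype.val h).symm)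
  exact ⟨k, k.2, congrArg Subtype.val hk1, congrArg Subtype.val hk2⟩

end CfsgLib.PermGroup.PSLExt
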