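import Mathlib.Algebra.Polynomial.Eval.Defs
import Mathlib.Algebra.Polynomial.Coeff
import Mathlib.Algebra.Polynomial.Roots
import Mathlib.Algebra.CharP.Algebra
import Mathlib.Algebra.Field.ZMod
import Mathlib.FieldTheory.Finite.Basic
import Mathlib.RingTheory.Polynomial.Basic
import Mathlib.LinearAlgebra.Lagrange
import Mathlib.LinearAlgebra.Dimension.Constructions

/-! Translation invariant spaces of functions on `ZMod p` in characteristic `p`. -/

open Polynomial

namespace CfsgLib.PermGroup

variable {p : ℕ} [Fact p.Prime] {K : Type*} [Field K] [CharP K p]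

/-- The point of `K` belonging to a residue. -/
noncomputable def pt (K : Type*) [Field K] {p : ℕ} [CharP K p] : ZMod p →+* K :=
  ZMod.castHom (dvd_refl p) K

theorem pt_eq (j : ZMod p) : pt K j = (ZMod.cast j : K) := rfl

theorem pt_injective : Function.Injective (pt K (p := p)) := (pt K (p := p)).injective

/-- Evaluation of a polynomial on the prime subfield. -/
noncomputable def evalFun : K[X] →ₗ[K] (ZMod p → K) where
  toFun P j := P.eval (pt K j)
  map_add' P Q := by funext j; simp
  map_smul' c P := by funext j; simp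

theorem evalFun_apply (P : K[X]) (j : ZMod p) : evalFun P j = P.eval (pt K j) := rfl

theorem evalFun_eq_zero {P : K[X]} (hd : P ∈ degreeLT K p) (h : evalFun (p := p) P = 0) :
    P = 0 := by
  rw [mem_degreeLT] at hd
  refine Polynomial.eq_zero_of_degree_lt_of_eval_index_eq_zero (Finset.univ : Finset (ZMod p))
    (Set.injOn_of_injective pt_injective) ?_ (fun j _ => congrFun h j)
  rwa [Finset.card_univ, ZMod.card]

theorem evalFun_inj {P Q : K[X]} (hP : P ∈ degreeLT K p) (hQ : Q ∈ degreeLT K p)
    (h : evalFun (p := p) P = evalFun Q) : P = Q :=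
  sub_eq_zero.mp (evalFun_eq_zero (Submodule.sub_mem _ hP hQ) (by rw [map_sub, h, sub_self]))

theorem exists_poly (f : ZMod p → K) : ∃ P ∈ degreeLT K p, evalFun P = f := by
  have hi : Function.Injective ((evalFun (p := p)).comp (degreeLT K p).subtype) := fun P Q h =>
    Subtype.ext (evalFun_inj P.2 Q.2 h)
  have : Module.Finite K (degreeLT K p) := Module.Finite.equiv (degreeLTEquiv K p).symm
  have hr : Module.finrank K (degreeLT K p) = Module.finrank K (ZMod p → K) := by
    rw [(degreeLTEquiv K p).finrank_eq, Module.finrank_fintype_fun_eq_card,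
      Module.finrank_fintype_fun_eq_card, Fintype.card_fin, ZMod.card]
  obtain ⟨P, hP⟩ := (LinearMap.injective_iff_surjective_of_finrank_eq_finrank hr).mp hi f
  exact ⟨P, P.2, hP⟩

theorem natDegree_lt_of_mem {P : K[X]} {r : ℕ} (hP : P ∈ degreeLT K r) (h0 : P ≠ 0) :
    P.natDegree < r := by
  rw [mem_degreeLT, degree_eq_natDegree h0] at hP
  exact_mod_cast hP

theorem mem_degreeLT_of_natDegree {P : K[X]} {r : ℕ} (h : P.natDegree < r) : P ∈ degreeLT K r := by
  rw [mem_degreeLT]
  exact degree_le_natDegree.trans_lt (by exact_mod_cast h)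

theorem degreeLT_le {r s : ℕ} (h : r ≤ s) : degreeLT K r ≤ degreeLT K s := fun P hP => by
  rw [mem_degreeLT] at hP ⊢
  exact hP.trans_le (by exact_mod_cast h)

theorem coeff_shift_sub {P : K[X]} {d : ℕ} (hd : P.natDegree = d + 1) :
    (P.comp (X + C (-1)) - P).natDegree ≤ d + 1 ∧ (P.comp (X + C (-1)) - P).coeff (d + 1) = 0 ∧
      (P.comp (X + C (-1)) - P).coeff d = -((d + 1 : ℕ) : K) * P.coeff (d + 1) := by
  set Q := P.comp (X + C (-1 : K)) with hQ
  have hsum : Q = ∑ i ∈ Finset.range (d + 2), C (P.coeff i) * (X + C (-1 : K)) ^ i := by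
    rw [hQ]
    conv_lhs => rw [P.as_sum_range_C_mul_X_pow, hd]
    simp only [Polynomial.sum_comp, mul_comp, C_comp, X_pow_comp]
  have hQd : Q.natDegree ≤ d + 1 := by
    rw [hQ, natDegree_comp, hd, natDegree_X_add_C, mul_one]
  have hco : ∀ m, Q.coeff m =
      ∑ i ∈ Finset.range (d + 2), P.coeff i * ((-1 : K) ^ (i - m) * (i.choose m : K)) := by
    intro m
    rw [hsum, finsetSum_coeff]
    refine Finset.sum_congr rfl fun i _ => ?_
    rw [coeff_C_mul, coeff_X_add_C_pow]
  have hz : ∀ m, ∀ i < m, P.coeff i * ((-1 : K) ^ (i - m) * (i.choose m : K)) = 0 := fun m i hi => by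
    rw [Nat.choose_eq_zero_of_lt hi, Nat.cast_zero, mul_zero, mul_zero]
  refine ⟨(natDegree_sub_le _ _).trans (max_le hQd hd.le), ?_, ?_⟩
  · rw [coeff_sub, hco, Finset.sum_range_succ,
      Finset.sum_eq_zero fun i hi => hz (d + 1) i (Finset.mem_range.mp hi)]
    simp
  · rw [coeff_sub, hco, Finset.sum_range_succ, Finset.sum_range_succ,
      Finset.sum_eq_zero fun i hi => hz d i (Finset.mem_range.mp hi)]
    simp only [Nat.sub_self, pow_zero, Nat.choose_self, Nat.cast_one, mul_one, zero_add,
      Nat.add_sub_cancel_left, pow_one, Nat.choose_succ_self_right]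
    ring

/-- A translation invariant subspace consists of the polynomial functions of degree less than
some `r ≤ p`. -/
theorem exists_degree (W : Submodule K (ZMod p → K))
    (hW : ∀ f ∈ W, (fun j => f (j - 1)) ∈ W) :
    ∃ r ≤ p, W = (degreeLT K r).map (evalFun (p := p)) := by
  classical
  set U : Submodule K K[X] := W.comap (evalFun (p := p)) ⊓ degreeLT K p with hU
  have hshift : ∀ P : K[X], P.natDegree < p → evalFun P ∈ W →
      evalFun (P.comp (X + C (-1 : K)) - P) ∈ W := by
    intro P _ hP
    rw [map_sub]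
    refine W.sub_mem ?_ hP
    have : evalFun (P.comp (X + C (-1 : K))) = fun j : ZMod p => evalFun P (j - 1) := by
      funext j
      rw [evalFun_apply, evalFun_apply, eval_comp, eval_add, eval_X, eval_C, map_sub, map_one,
        sub_eq_add_neg]
    rw [this]
    exact hW _ hP
  have key : ∀ d : ℕ, ∀ P ∈ U, P ≠ 0 → P.natDegree = d → degreeLT K (d + 1) ≤ U := by
    intro d
    induction d with
    | zero =>
      intro P hP hP0 hd Q hQ
      by_cases hQ0 : Q = 0
      · rw [hQ0]; exact U.zero_mem
      have hQd : Q.natDegree = 0 := Nat.lt_one_iff.mp (natDegree_lt_of_mem hQ hQ0)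
      rw [eq_C_of_natDegree_eq_zero hQd]
      rw [eq_C_of_natDegree_eq_zero hd] at hP hP0
      have hc : P.coeff 0 ≠ 0 := fun h => hP0 (by rw [h, C_0])
      have := U.smul_mem (Q.coeff 0 / P.coeff 0) hP
      rwa [smul_C, smul_eq_mul, div_mul_cancel₀ _ hc] at this
    | succ d ih =>
      intro P hP hP0 hd
      obtain ⟨hdeg, htop, hnext⟩ := coeff_shift_sub hd
      have hlt : d + 1 < p := hd ▸ natDegree_lt_of_mem hP.2 hP0
      set D := P.comp (X + C (-1 : K)) - P with hD
      have hne : D.coeff d ≠ 0 := by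
        rw [hnext]
        refine mul_ne_zero (neg_ne_zero.mpr ?_) ?_
        · rw [Ne, CharP.cast_eq_zero_iff K p]
          exact fun h => absurd (Nat.le_of_dvd (by omega) h) (by omega)
        · rw [← hd]; exact leadingCoeff_ne_zero.mpr hP0
      have hDd : D.natDegree = d := by
        refine le_antisymm ?_ (le_natDegree_of_ne_zero hne)
        refine natDegree_le_iff_coeff_eq_zero.mpr fun N hN => ?_
        rcases Nat.eq_or_lt_of_le (Nat.succ_le_of_lt hN) with h | h
        · rw [← h]; exact htop
        · exact coeff_eq_zero_of_natDegree_lt (hdeg.trans_lt h)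
      have hDU : D ∈ U := ⟨hshift P (by omega) hP.1,
        mem_degreeLT_of_natDegree (by omega)⟩
      have hlow : degreeLT K (d + 1) ≤ U :=
        ih D hDU (fun h => hne (by rw [h, coeff_zero])) hDd
      intro Q hQ
      set c := Q.coeff (d + 1) / P.coeff (d + 1) with hc
      have hP1 : P.coeff (d + 1) ≠ 0 := hd ▸ leadingCoeff_ne_zero.mpr hP0
      have hR : Q - c • P ∈ degreeLT K (d + 1) := by
        rw [mem_degreeLT, degree_lt_iff_coeff_zero]
        intro m hm
        rw [coeff_sub, coeff_smul, smul_eq_mul]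
        rcases Nat.eq_or_lt_of_le hm with h | h
        · rw [← h, hc, div_mul_cancel₀ _ hP1, sub_self]
        · rw [coeff_eq_zero_of_natDegree_lt (by omega : P.natDegree < m), mul_zero, sub_zero]
          rw [mem_degreeLT, degree_lt_iff_coeff_zero] at hQ
          exact hQ m (by omega)
      have := U.add_mem (hlow hR) (U.smul_mem c hP)
      rwa [sub_add_cancel] at this
  have hex : ∃ r, U ≤ degreeLT K r := ⟨p, inf_le_right⟩
  refine ⟨Nat.find hex, Nat.find_min' hex inf_le_right, ?_⟩
  have hge : degreeLT K (Nat.find hex) ≤ U := by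
    rcases Nat.eq_zero_or_pos (Nat.find hex) with h0 | hpos
    · intro Q hQ
      by_cases hQ0 : Q = 0
      · rw [hQ0]; exact U.zero_mem
      · exact absurd (natDegree_lt_of_mem hQ hQ0) (by omega)
    · have hnot := Nat.find_min hex (Nat.sub_lt hpos Nat.one_pos)
      rw [SetLike.not_le_iff_exists] at hnot
      obtain ⟨P, hP, hPn⟩ := hnot
      have hP0 : P ≠ 0 := fun h => hPn (h ▸ Submodule.zero_mem _)
      have h1 := natDegree_lt_of_mem (Nat.find_spec hex hP) hP0
      have h2 : Nat.find hex - 1 ≤ P.natDegree := by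
        by_contra h
        exact hPn (mem_degreeLT_of_natDegree (by omega))
      have := key P.natDegree P hP hP0 rfl
      rwa [show P.natDegree + 1 = Nat.find hex by omega] at this
  refine le_antisymm ?_ ?_
  · intro f hf
    obtain ⟨P, hP, rfl⟩ := exists_poly f
    exact Submodule.mem_map_of_mem (Nat.find_spec hex ⟨hf, hP⟩)
  · rintro _ ⟨P, hP, rfl⟩
    exact (hge hP).1

theorem finrank_map_degreeLT {r : ℕ} (hr : r ≤ p) :
    Module.finrank K ((degreeLT K r).map (evalFun (p := p))) = r := by
  rw [← (degreeLT K r).range_subtype, ← LinearMap.range_comp]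
  rw [LinearMap.finrank_range_of_inj, (degreeLTEquiv K r).finrank_eq,
    Module.finrank_fintype_fun_eq_card, Fintype.card_fin]
  exact fun P Q h => Subtype.ext (evalFun_inj (degreeLT_le hr P.2) (degreeLT_le hr Q.2) h)

theorem sum_pt_pow {i : ℕ} (hi : i < p - 1) : ∑ j : ZMod p, pt K j ^ i = 0 := by
  simp only [← map_pow, ← map_sum]
  rw [FiniteField.sum_pow_lt_card_sub_one (ZMod p) i (by rwa [ZMod.card]), map_zero]

theorem sum_pt_pow_top : ∑ j : ZMod p, pt K j ^ (p - 1) = -1 := by
  have hp := (Fact.out : p.Prime)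
  have h : ∑ j : ZMod p, j ^ (p - 1) = -1 := by
    rw [← Finset.add_sum_erase _ _ (Finset.mem_univ (0 : ZMod p)),
      zero_pow (by have := hp.two_le; omega), zero_add,
      Finset.sum_congr rfl fun j hj => ZMod.pow_card_sub_one_eq_one (Finset.ne_of_mem_erase hj)]
    rw [Finset.sum_const, nsmul_one, Finset.card_erase_of_mem (Finset.mem_univ _),
      Finset.card_univ, ZMod.card, Nat.cast_sub hp.one_le, ZMod.natCast_self,
      Nat.cast_one, zero_sub]
  simp only [← map_pow, ← map_sum]
  rw [h, map_neg, map_one]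

theorem sum_evalFun {P : K[X]} {d : ℕ} (hd : P.natDegree ≤ d) (hdp : d ≤ p - 1) :
    ∑ j : ZMod p, evalFun P j = -(P.coeff (p - 1)) := by
  simp only [evalFun_apply, eval_eq_sum_range' (Nat.lt_succ_of_le (hd.trans hdp))]
  rw [Finset.sum_comm, Finset.sum_range_succ]
  simp only [← Finset.mul_sum]
  rw [Finset.sum_eq_zero, sum_pt_pow_top]
  · ring
  · intro i hi
    rw [sum_pt_pow (Finset.mem_range.mp hi), mul_zero]

end CfsgLib.PermGroup
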