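import Cfsg.Agent.Lib.PermGroup.PolyFun
import Cfsg.Agent.Lib.PermGroup.PermModule

/-! Transitive permutation groups of prime degree. -/

open MulAction Polynomial
open scoped Classical

namespace CfsgLib.PermGroup

variable {α : Type*} [Fintype α] {p : ℕ} [Fact p.Prime]

/-- `G` contains all the translations of the labelling `e`. -/
def HasTranslations (G : Subgroup (Equiv.Perm α)) (e : ZMod p ≃ α) : Prop :=
  ∀ c : ZMod p, ∃ g ∈ G, ∀ j, g (e j) = e (j + c)

/-- `g` is affine in the labelling `e`. -/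
def IsAffineOn (e : ZMod p ≃ α) (g : Equiv.Perm α) : Prop :=
  ∃ k v : ZMod p, ∀ j, g (e j) = e (k * j + v)

omit [Fintype α] in
theorem hasTranslations_of_step {G : Subgroup (Equiv.Perm α)} {e : ZMod p ≃ α} {σ : Equiv.Perm α}
    (hσ : σ ∈ G) (h : ∀ j, σ (e j) = e (j + 1)) : HasTranslations G e := by
  intro c
  refine ⟨σ ^ c.val, G.pow_mem hσ _, fun j => ?_⟩
  suffices ∀ n : ℕ, (σ ^ n) (e j) = e (j + n) by rw [this, ZMod.natCast_zmod_val]
  intro n
  induction n with
  | zero => simp
  | succ n ih => rw [pow_succ', Equiv.Perm.mul_apply, ih, h, Nat.cast_succ, add_assoc]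

/-- A non-trivial permutation of prime order on that many points is a labelled cycle. -/
theorem exists_labelling (hα : Fintype.card α = p) {σ : Equiv.Perm α} (hσ : σ ^ p = 1) {a : α}
    (ha : σ a ≠ a) : ∃ e : ZMod p ≃ α, e 0 = a ∧ ∀ j, σ (e j) = e (j + 1) := by
  have hp := (Fact.out : p.Prime)
  have hper : MulAction.period σ a = p := by
    have h1 : MulAction.period σ a ∣ p :=
      MulAction.pow_smul_eq_iff_period_dvd.mp (by rw [hσ, one_smul])
    rcases (Nat.dvd_prime hp).mp h1 with h | h
    · exact absurd (by have := MulAction.pow_period_smul σ a; rwa [h, pow_one] at this) ha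
    · exact h
  have hmod : ∀ n m : ℕ, (n : ZMod p) = m → (σ ^ n) a = (σ ^ m) a := by
    intro n m h
    have h' : n % p = m % p := (ZMod.natCast_eq_natCast_iff' n m p).mp h
    show σ ^ n • a = σ ^ m • a
    rw [← MulAction.pow_mod_period_smul n, hper, h']
    conv_rhs => rw [← MulAction.pow_mod_period_smul m, hper]
  have hinj : Function.Injective (fun j : ZMod p => (σ ^ j.val) a) := by
    intro i j h
    have key : ∀ i j : ZMod p, i.val ≤ j.val → (σ ^ i.val) a = (σ ^ j.val) a → i = j := by
      intro i j hij h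
      have h2 : σ ^ (j.val - i.val) • a = a := by
        show (σ ^ (j.val - i.val)) a = a
        apply (σ ^ i.val).injective
        rw [← Equiv.Perm.mul_apply, ← pow_add, Nat.add_sub_cancel' hij, h]
      have h3 := MulAction.pow_smul_eq_iff_period_dvd.mp h2
      rw [hper] at h3
      have h4 : j.val - i.val = 0 := Nat.eq_zero_of_dvd_of_lt h3 (by
        have := j.val_lt; omega)
      exact ZMod.val_injective p (by omega)
    rcases le_total i.val j.val with hij | hij
    · exact key i j hij h
    · exact (key j i hij h.symm).symm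
  refine ⟨Equiv.ofBijective _ ((Fintype.bijective_iff_injective_and_card _).mpr
    ⟨hinj, by rw [ZMod.card, hα]⟩), ?_, fun j => ?_⟩
  · show (σ ^ (0 : ZMod p).val) a = a
    simp
  · show σ ((σ ^ j.val) a) = (σ ^ (j + 1).val) a
    rw [← Equiv.Perm.mul_apply, ← pow_succ']
    refine hmod _ _ ?_
    rw [ZMod.natCast_zmod_val, Nat.cast_succ, ZMod.natCast_zmod_val]

theorem prime_dvd_card (hα : Fintype.card α = p) (G : Subgroup (Equiv.Perm α))
    [IsPretransitive G α] : p ∣ Nat.card G := by
  obtain ⟨a⟩ : Nonempty α := Fintype.card_pos_iff.mp (hα ▸ (Fact.out : p.Prime).pos)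
  rw [← hα, ← Nat.card_eq_fintype_card, ← index_stabilizer_of_transitive G a]
  exact Subgroup.index_dvd_card _

theorem sq_not_dvd_card (hα : Fintype.card α = p) (G : Subgroup (Equiv.Perm α)) :
    ¬ p * p ∣ Nat.card G := by
  intro h
  have h1 := h.trans (Subgroup.card_subgroup_dvd_card G)
  rw [Nat.card_perm, Nat.card_eq_fintype_card, hα,
    ← Nat.mul_factorial_pred (Fact.out : p.Prime).ne_zero] at h1
  have h2 := (Nat.mul_dvd_mul_iff_left (Fact.out : p.Prime).pos).mp h1
  have h3 := (Fact.out : p.Prime).dvd_factorial.mp h2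
  have := (Fact.out : p.Prime).two_le
  omega

/-- A transitive group of prime degree contains a labelled cycle. -/
theorem exists_step (hα : Fintype.card α = p) (G : Subgroup (Equiv.Perm α))
    [IsPretransitive G α] :
    ∃ (e : ZMod p ≃ α) (σ : Equiv.Perm α), σ ∈ G ∧ ∀ j, σ (e j) = e (j + 1) := by
  obtain ⟨g, hg⟩ := exists_prime_orderOf_dvd_card' (G := G) p (prime_dvd_card hα G)
  have hg1 : (g : Equiv.Perm α) ^ p = 1 := by
    rw [← hg, ← Subgroup.coe_pow, pow_orderOf_eq_one, Subgroup.coe_one]
  obtain ⟨a, ha⟩ : ∃ a, (g : Equiv.Perm α) a ≠ a := by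
    by_contra h
    simp only [not_exists, not_not] at h
    have : g = 1 := Subtype.ext (Equiv.ext h)
    rw [this, orderOf_one] at hg
    exact (Fact.out : p.Prime).one_lt.ne hg
  obtain ⟨e, -, he⟩ := exists_labelling hα hg1 ha
  exact ⟨e, g, g.2, he⟩

omit [Fintype α] in
/-- The slope of an affine map. -/
theorem affine_slope {e : ZMod p ≃ α} {g : Equiv.Perm α} {k v : ZMod p}
    (h : ∀ j, g (e j) = e (k * j + v)) : k = e.symm (g (e 1)) - e.symm (g (e 0)) := by
  rw [h, h, e.symm_apply_apply, e.symm_apply_apply]; ring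

omit [Fintype α] in
theorem affine_translation {e : ZMod p ≃ α} {g : Equiv.Perm α} (h : IsAffineOn e g)
    (hs : e.symm (g (e 1)) - e.symm (g (e 0)) = 1) : ∃ v, ∀ j, g (e j) = e (j + v) := by
  obtain ⟨k, v, hkv⟩ := h
  have := (affine_slope hkv).trans hs
  exact ⟨v, fun j => by rw [hkv, this, one_mul]⟩

omit [Fintype α] in
/-- A group of affine maps is solvable. -/
theorem solvable_of_affine (G : Subgroup (Equiv.Perm α)) (e : ZMod p ≃ α)
    (h : ∀ g ∈ G, IsAffineOn e g) : Group.IsSolvable G := by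
  let s : G →* ZMod p :=
    { toFun := fun g => e.symm ((g : Equiv.Perm α) (e 1)) - e.symm ((g : Equiv.Perm α) (e 0))
      map_one' := by simp
      map_mul' := by
        intro g g'
        obtain ⟨k, v, hk⟩ := h g g.2
        obtain ⟨k', v', hk'⟩ := h g' g'.2
        simp only [Subgroup.coe_mul, Equiv.Perm.mul_apply]
        rw [hk' 1, hk' 0, hk, hk, hk 1, hk 0]
        simp only [Equiv.symm_apply_apply]
        ring }
  let u : G →* (ZMod p)ˣ := s.toHomUnits
  have : IsMulCommutative u.ker := by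
    refine ⟨⟨fun a b => ?_⟩⟩
    have ha : s a = 1 := by simpa [u, Units.ext_iff] using a.2
    have hb : s b = 1 := by simpa [u, Units.ext_iff] using b.2
    obtain ⟨v, hv⟩ := affine_translation (h _ (a : G).2) ha
    obtain ⟨w, hw⟩ := affine_translation (h _ (b : G).2) hb
    refine Subtype.ext (Subtype.ext (Equiv.ext fun x => ?_))
    obtain ⟨j, rfl⟩ := e.surjective x
    show ((a : G) : Equiv.Perm α) (((b : G) : Equiv.Perm α) (e j)) =
      ((b : G) : Equiv.Perm α) (((a : G) : Equiv.Perm α) (e j))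
    rw [hw, hv, hv, hw]
    congr 1; ring
  have : Group.IsSolvable u.ker := Group.isSolvable_of_comm fun a b => this.is_comm.comm a b
  exact solvable_of_ker_le_range u.ker.subtype u (by rw [Subgroup.range_subtype])

omit [Fintype α] in
/-- A permutation carrying the basic translation to a translation is affine. -/
theorem affine_of_conj {e : ZMod p ≃ α} {g : Equiv.Perm α} {k : ZMod p}
    (h : ∀ j, g (e (j + 1)) = e (e.symm (g (e j)) + k)) : IsAffineOn e g := by
  refine ⟨k, e.symm (g (e 0)), fun j => ?_⟩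
  rw [← ZMod.natCast_zmod_val j]
  suffices ∀ n : ℕ, g (e n) = e (k * n + e.symm (g (e 0))) from this _
  intro n
  induction n with
  | zero => simp
  | succ n ih =>
    rw [Nat.cast_succ, h, ih, e.symm_apply_apply]
    congr 1; ring

/-- A solvable transitive group of prime degree consists of affine maps. -/
theorem affine_of_solvable (hα : Fintype.card α = p) (G : Subgroup (Equiv.Perm α))
    [IsPretransitive G α] (hG : Group.IsSolvable G) :
    ∃ e : ZMod p ≃ α, HasTranslations G e ∧ ∀ g ∈ G, IsAffineOn e g := by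
  have hp := (Fact.out : p.Prime)
  have : IsPreprimitive G α := IsPreprimitive.of_prime_card (by rwa [Nat.card_eq_fintype_card, hα])
  have : Nontrivial G := by
    have h1 : p ≤ Nat.card G := Nat.le_of_dvd Nat.card_pos (prime_dvd_card hα G)
    exact Finite.one_lt_card_iff_nontrivial.mp (by have := hp.two_le; omega)
  obtain ⟨n, hn⟩ := hG.solvable
  classical
  have hex : ∃ n, derivedSeries G n = ⊥ := ⟨n, hn⟩
  have h0 : Nat.find hex ≠ 0 := by
    intro h
    have := Nat.find_spec hex
    rw [h, derivedSeries_zero] at this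
    exact top_ne_bot this
  obtain ⟨m, hm⟩ := Nat.exists_eq_succ_of_ne_zero h0
  set A := derivedSeries G m with hA
  have hAne : A ≠ ⊥ := Nat.find_min hex (by omega)
  have hAn : A.Normal := derivedSeries_normal G m
  have hAc : ∀ a ∈ A, ∀ b ∈ A, a * b = b * a := by
    intro a ha b hb
    have h1 : ⁅A, A⁆ = ⊥ := by
      rw [hA, ← derivedSeries_succ, ← Nat.succ_eq_add_one, ← hm]
      exact Nat.find_spec hex
    exact (Subgroup.mem_centralizer_iff.mp ((Subgroup.commutator_eq_bot_iff_le_centralizer.mp h1) hb)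
      a ha)
  have := isPretransitive_of_normal (X := α) hAne
  set A' : Subgroup (Equiv.Perm α) := A.map G.subtype with hA'
  have : IsPretransitive A' α := ⟨fun a b => by
    obtain ⟨u, hu⟩ := exists_smul_eq A a b
    exact ⟨⟨_, Subgroup.mem_map_of_mem G.subtype u.2⟩, hu⟩⟩
  obtain ⟨e, σ, hσA, hσ⟩ := exists_step hα A'
  obtain ⟨s, hs, rfl⟩ := hσA
  refine ⟨e, hasTranslations_of_step s.2 hσ, fun g hg => ?_⟩
  set t : G := ⟨g, hg⟩ * s * ⟨g, hg⟩⁻¹ with ht
  have htA : t ∈ A := hAn.conj_mem s hs ⟨g, hg⟩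
  have hcomm : ∀ x, (t : Equiv.Perm α) ((s : Equiv.Perm α) x) =
      (s : Equiv.Perm α) ((t : Equiv.Perm α) x) := fun x =>
    congrArg (fun f : G => (f : Equiv.Perm α) x) (hAc t htA s hs)
  set k := e.symm ((t : Equiv.Perm α) (e 0)) with hk
  have htr : ∀ j, (t : Equiv.Perm α) (e j) = e (j + k) := by
    intro j
    rw [← ZMod.natCast_zmod_val j]
    suffices ∀ n : ℕ, (t : Equiv.Perm α) (e n) = e ((n : ZMod p) + k) from this _
    intro n
    induction n with
    | zero => simp [hk]
    | succ n ih =>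
      rw [Nat.cast_succ, ← hσ]
      show (t : Equiv.Perm α) ((s : Equiv.Perm α) (e n)) = _
      rw [hcomm, ih]
      refine (hσ _).trans ?_
      congr 1; ring
  refine affine_of_conj (k := k) fun j => ?_
  rw [← hσ, ← htr, e.apply_symm_apply]
  show g ((s : Equiv.Perm α) (e j)) =
    ((g * (s : Equiv.Perm α) * g⁻¹ : Equiv.Perm α)) (g (e j))
  simp

variable (K : Type*) [Field K] [CharP K p]

/-- The coordinate function of a labelling. -/
noncomputable def xfun (e : ZMod p ≃ α) : α → K := fun a => pt K (e.symm a)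

omit [Fintype α] in
theorem xfun_apply (e : ZMod p ≃ α) (j : ZMod p) : xfun K e (e j) = pt K j := by
  simp [xfun]

theorem xfun_mem_sumZero (G : Subgroup (Equiv.Perm α)) (e : ZMod p ≃ α) (hp : 3 ≤ p) :
    xfun K e ∈ (Cfsg.permSumZero K G α).toSubmodule := by
  rw [mem_permSumZero_iff, Fintype.sum_equiv e.symm (xfun K e) (fun j => pt K j ^ 1)
    (fun a => by rw [pow_one]; rfl)]
  exact sum_pt_pow (by omega)

omit [Fintype α] in
theorem xfun_not_mem_constants (G : Subgroup (Equiv.Perm α)) (e : ZMod p ≃ α) :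
    xfun K e ∉ (Cfsg.permConstants K G α).toSubmodule := by
  rw [mem_permConstants_iff]
  rintro ⟨c, hc⟩
  have h0 := hc (e 0)
  have h1 := hc (e 1)
  rw [xfun_apply, map_zero] at h0
  rw [xfun_apply, map_one, ← h0] at h1
  exact one_ne_zero h1

omit [Fintype α] in
/-- An invariant space of functions of degree less than `r` makes the group affine when `r` is
small. -/
theorem affine_of_degree {G : Subgroup (Equiv.Perm α)} (e : ZMod p ≃ α) {r : ℕ} (hr2 : 2 ≤ r)
    (hr : 2 * r ≤ p + 1) (W : Submodule K (α → K))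
    (hW : ∀ f : α → K, f ∈ W ↔ ∃ P ∈ degreeLT K r, ∀ j, f (e j) = P.eval (pt K j))
    (hinv : ∀ g ∈ G, ∀ f ∈ W, (fun a => f (g a)) ∈ W) : ∀ g ∈ G, IsAffineOn e g := by
  intro g hg
  have hX : xfun K e ∈ W := (hW _).mpr ⟨X, mem_degreeLT_of_natDegree (by rw [natDegree_X]; omega),
    fun j => by rw [xfun_apply, eval_X]⟩
  obtain ⟨Q, hQ, hQe⟩ := (hW _).mp (hinv g hg _ hX)
  have hrp : r < p := by have := (Fact.out : p.Prime).two_le; omega
  by_cases hd : Q.natDegree ≤ 1
  · obtain ⟨τ, hτ⟩ : ∃ τ : ZMod p → ZMod p, ∀ j, g (e j) = e (τ j) :=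
      ⟨fun j => e.symm (g (e j)), fun j => (e.apply_symm_apply _).symm⟩
    have hev : ∀ j, pt K (τ j) = Q.coeff 1 * pt K j + Q.coeff 0 := by
      intro j
      rw [← xfun_apply K e, ← hτ, hQe, eval_eq_sum_range' (Nat.lt_succ_of_le hd)]
      simp [Finset.sum_range_succ]; ring
    refine ⟨τ 1 - τ 0, τ 0, fun j => ?_⟩
    rw [hτ]
    congr 1
    apply pt_injective (K := K)
    rw [map_add, map_mul, map_sub, hev, hev 1, hev 0, map_zero, map_one]
    ring
  · exfalso
    set d := Q.natDegree with hdd
    have hQ0 : Q ≠ 0 := fun h => hd (by rw [hdd, h]; simp)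
    have hdr : d < r := natDegree_lt_of_mem hQ hQ0
    have hex : ∃ k, r ≤ k * d := ⟨r, Nat.le_mul_of_pos_right r (by omega)⟩
    set k := Nat.find hex with hk
    have hkd := Nat.find_spec hex
    rw [← hk] at hkd
    have hkr : k < r := by
      by_contra h
      have := Nat.find_min hex (show r - 1 < k by omega)
      have h2 : (r - 1) * 2 ≤ (r - 1) * d := Nat.mul_le_mul_left _ (by omega)
      omega
    have hkd2 : k * d < p := by
      have hk1 : k ≠ 0 := fun h => by rw [h, zero_mul] at hkd; omega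
      have := Nat.find_min hex (show k - 1 < k by omega)
      obtain ⟨m, hm⟩ := Nat.exists_eq_succ_of_ne_zero hk1
      rw [hm] at this hkd ⊢
      rw [Nat.succ_sub_one] at this
      rw [Nat.succ_mul] at hkd ⊢
      omega
    have hXk : (fun a => xfun K e a ^ k) ∈ W := (hW _).mpr
      ⟨X ^ k, mem_degreeLT_of_natDegree (by rwa [natDegree_X_pow]),
        fun j => by rw [xfun_apply, eval_pow, eval_X]⟩
    obtain ⟨R, hR, hRe⟩ := (hW _).mp (hinv g hg _ hXk)
    have heq : Q ^ k = R := by
      refine evalFun_inj (p := p) (mem_degreeLT_of_natDegree (by rwa [natDegree_pow]))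
        (degreeLT_le hrp.le hR) ?_
      funext j
      rw [evalFun_apply, evalFun_apply, eval_pow, ← hQe, hRe]
    have := natDegree_lt_of_mem hR (heq ▸ pow_ne_zero k hQ0)
    rw [← heq, natDegree_pow] at this
    rw [← hdd] at this; omega

/-- An invariant subspace between constants and sum-zero functions is one of them unless the
group is affine. -/
theorem heart_dichotomy (hα : Fintype.card α = p) (G : Subgroup (Equiv.Perm α)) (e : ZMod p ≃ α)
    (he : HasTranslations G e) (W : Subrepresentation (Cfsg.permRep K G α))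
    (h₁ : (Cfsg.permConstants K G α).toSubmodule ≤ W.toSubmodule)
    (h₂ : W.toSubmodule ≤ (Cfsg.permSumZero K G α).toSubmodule) :
    W = Cfsg.permConstants K G α ∨ W = Cfsg.permSumZero K G α ∨ ∀ g ∈ G, IsAffineOn e g := by
  have hp := (Fact.out : p.Prime)
  -- transport to functions on `ZMod p`
  have transport : ∀ U : Submodule K (α → K), (∀ g ∈ G, ∀ f ∈ U, (fun a => f (g a)) ∈ U) →
      ∃ r ≤ p, ∀ f : α → K, f ∈ U ↔ ∃ P ∈ degreeLT K r, ∀ j, f (e j) = P.eval (pt K j) := by
    intro U hU
    obtain ⟨r, hr, hUr⟩ := exists_degree (U.map (LinearMap.funLeft K K e)) (by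
      rintro _ ⟨f, hf, rfl⟩
      obtain ⟨g, hg, hgj⟩ := he (-1)
      exact ⟨_, hU g hg f hf, funext fun j => by
        show f (g (e j)) = f (e (j - 1))
        rw [hgj, sub_eq_add_neg]⟩)
    refine ⟨r, hr, fun f => ?_⟩
    have hinj : Function.Injective (LinearMap.funLeft K K (e : ZMod p → α)) :=
      LinearMap.funLeft_injective_of_surjective K K _ e.surjective
    rw [← Submodule.comap_map_eq_of_injective hinj U, Submodule.mem_comap, hUr, Submodule.mem_map]
    constructor
    · rintro ⟨P, hP, hPf⟩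
      exact ⟨P, hP, fun j => (congrFun hPf j).symm⟩
    · rintro ⟨P, hP, hPf⟩
      exact ⟨P, hP, funext fun j => (hPf j).symm⟩
  have hWinv : ∀ g ∈ G, ∀ f ∈ W.toSubmodule, (fun a => f (g a)) ∈ W.toSubmodule := by
    intro g hg f hf
    have h := W.apply_mem_toSubmodule (⟨g, hg⟩⁻¹ : G) hf
    convert h using 1
    funext a
    rw [permRep_apply, inv_inv]
    rfl
  obtain ⟨r, hr, hW⟩ := transport W.toSubmodule hWinv
  have hsum : ∀ (f : α → K), ∑ a, f a = ∑ j, f (e j) := fun f => (e.sum_comp f).symm
  have hr1 : 1 ≤ r := by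
    by_contra h
    obtain ⟨P, hP, hPe⟩ := (hW _).mp (h₁ (mem_permConstants_iff.mpr ⟨1, fun _ => rfl⟩))
    have h0 : P = 0 := by
      by_contra h0
      exact absurd (natDegree_lt_of_mem hP h0) (by omega)
    have := hPe 0
    rw [h0, eval_zero] at this
    exact one_ne_zero this
  have hrp : r ≤ p - 1 := by
    by_contra h
    have h3 := h₂ ((hW (fun a => xfun K e a ^ (p - 1))).mpr
      ⟨X ^ (p - 1), mem_degreeLT_of_natDegree (by rw [natDegree_X_pow]; omega),
        fun j => by rw [xfun_apply, eval_pow, eval_X]⟩)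
    rw [mem_permSumZero_iff, hsum] at h3
    simp only [xfun_apply] at h3
    rw [sum_pt_pow_top, neg_eq_zero] at h3
    exact one_ne_zero h3
  by_cases hC : r = 1
  · left
    refine Subrepresentation.toSubmodule_injective (le_antisymm (fun f hf => ?_) h₁)
    obtain ⟨P, hP, hPe⟩ := (hW f).mp hf
    have hP0 : P.natDegree = 0 := by
      by_cases h : P = 0
      · rw [h]; simp
      · have := natDegree_lt_of_mem hP h; omega
    refine mem_permConstants_iff.mpr ⟨P.coeff 0, fun a => ?_⟩
    obtain ⟨j, rfl⟩ := e.surjective a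
    rw [hPe, eq_C_of_natDegree_eq_zero hP0]; simp
  by_cases hS : r = p - 1
  · right; left
    refine Subrepresentation.toSubmodule_injective (le_antisymm h₂ fun f hf => ?_)
    obtain ⟨P, hP, hPe⟩ := exists_poly (K := K) (fun j => f (e j))
    refine (hW f).mpr ⟨P, ?_, fun j => (congrFun hPe j).symm⟩
    have hPd : P.natDegree ≤ p - 1 := by
      by_cases h : P = 0
      · rw [h]; simp
      · have := natDegree_lt_of_mem hP h; omega
    rw [mem_permSumZero_iff, hsum] at hf
    have h4 := sum_evalFun (p := p) hPd le_rfl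
    rw [hPe, hf, eq_comm, neg_eq_zero] at h4
    rw [mem_degreeLT, degree_lt_iff_coeff_zero]
    intro m hm
    rcases Nat.eq_or_lt_of_le hm with h | h
    · rw [← h, hS]; exact h4
    · exact coeff_eq_zero_of_natDegree_lt (by omega)
  right; right
  by_cases hsmall : 2 * r ≤ p + 1
  · exact affine_of_degree K e (by omega) hsmall _ hW hWinv
  -- otherwise use the orthogonal space
  let U : Submodule K (α → K) :=
    { carrier := {u | ∀ v ∈ W.toSubmodule, ∑ a, v a * u a = 0}
      zero_mem' := fun v _ => by simp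
      add_mem' := fun {a b} ha hb v hv => by
        simp only [Pi.add_apply, mul_add, Finset.sum_add_distrib, ha v hv, hb v hv, add_zero]
      smul_mem' := fun c {a} ha v hv => by
        simp only [Pi.smul_apply, smul_eq_mul, mul_left_comm, ← Finset.mul_sum, ha v hv, mul_zero] }
  have hUinv : ∀ g ∈ G, ∀ f ∈ U, (fun a => f (g a)) ∈ U := by
    intro g hg f hf v hv
    have h5 := hWinv g⁻¹ (G.inv_mem hg) v hv
    rw [← hf _ h5]
    refine Fintype.sum_equiv g _ _ fun a => ?_
    simp
  obtain ⟨r', hr', hU⟩ := transport U hUinv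
  have hpoly : ∀ P Q : K[X], P.natDegree + Q.natDegree ≤ p - 1 →
      ∑ a, P.eval (xfun K e a) * Q.eval (xfun K e a) = -((P * Q).coeff (p - 1)) := by
    intro P Q hd
    rw [← sum_evalFun (K := K) (p := p) (natDegree_mul_le.trans hd) le_rfl, hsum]
    simp [evalFun_apply, xfun_apply]
  have hfun : ∀ (V : Submodule K (α → K)) (s : ℕ),
      (∀ f : α → K, f ∈ V ↔ ∃ P ∈ degreeLT K s, ∀ j, f (e j) = P.eval (pt K j)) →
      ∀ f ∈ V, ∃ P ∈ degreeLT K s, ∀ a, f a = P.eval (xfun K e a) := by
    intro V s hV f hf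
    obtain ⟨P, hP, hPe⟩ := (hV f).mp hf
    refine ⟨P, hP, fun a => ?_⟩
    obtain ⟨j, rfl⟩ := e.surjective a
    rw [hPe, xfun_apply]
  -- `r' = p - r`
  have hge : p - r ≤ r' := by
    have hm : (fun a => xfun K e a ^ (p - r - 1)) ∈ U := by
      intro v hv
      obtain ⟨P, hP, hPe⟩ := hfun _ _ hW v hv
      by_cases hP0 : P = 0
      · simp [hPe, hP0]
      have hd := natDegree_lt_of_mem hP hP0
      have h := hpoly P (X ^ (p - r - 1)) (by rw [natDegree_X_pow]; omega)
      simp only [eval_pow, eval_X] at h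
      simp only [hPe]
      rw [h, neg_eq_zero]
      refine coeff_eq_zero_of_natDegree_lt (natDegree_mul_le.trans_lt ?_)
      rw [natDegree_X_pow]; omega
    obtain ⟨P, hP, hPe⟩ := (hU _).mp hm
    by_contra hlt
    have : P = X ^ (p - r - 1) := evalFun_inj (p := p) (degreeLT_le hr' hP)
      (mem_degreeLT_of_natDegree (by rw [natDegree_X_pow]; omega)) (funext fun j => by
        rw [evalFun_apply, evalFun_apply, eval_pow, eval_X, ← hPe, xfun_apply])
    have h6 := natDegree_lt_of_mem hP (this ▸ pow_ne_zero _ X_ne_zero)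
    rw [this, natDegree_X_pow] at h6
    omega
  have hle : r' ≤ p - r := by
    by_contra hlt
    have hm : (fun a => xfun K e a ^ (p - r)) ∈ U := (hU _).mpr
      ⟨X ^ (p - r), mem_degreeLT_of_natDegree (by rw [natDegree_X_pow]; omega),
        fun j => by rw [xfun_apply, eval_pow, eval_X]⟩
    have hv : (fun a => xfun K e a ^ (r - 1)) ∈ W.toSubmodule := (hW _).mpr
      ⟨X ^ (r - 1), mem_degreeLT_of_natDegree (by rw [natDegree_X_pow]; omega),
        fun j => by rw [xfun_apply, eval_pow, eval_X]⟩
    have h := hm _ hv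
    simp only [← pow_add, show r - 1 + (p - r) = p - 1 by omega] at h
    rw [hsum] at h
    simp only [xfun_apply] at h
    rw [sum_pt_pow_top, neg_eq_zero] at h
    exact one_ne_zero h
  exact affine_of_degree K e (by omega) (by omega) U hU hUinv

end CfsgLib.PermGroup
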