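import Cfsg.Agent.Lib.PermGroup.PrimeDegree
import Mathlib.GroupTheory.GroupAction.SubMulAction.Combination
import Mathlib.Data.Finset.Card

/-! Criteria for double and triple transitivity through the permutation module. -/

open MulAction
open scoped Classical Pointwise

namespace CfsgLib.PermGroup

variable {G : Type*} [Group G] {Ω : Type*} [MulAction G Ω]

/-- The unordered pair of two distinct points. -/
noncomputable def pairOf {a b : Ω} (h : a ≠ b) : Set.powersetCard Ω 2 :=
  ⟨{a, b}, by rw [Set.powersetCard.mem_iff, Finset.card_pair h]⟩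

omit [MulAction G Ω] in
theorem mem_pairOf {a b x : Ω} (h : a ≠ b) : x ∈ (pairOf h : Finset Ω) ↔ x = a ∨ x = b := by
  simp [pairOf]

theorem smul_pairOf {a b : Ω} (h : a ≠ b) (g : G) :
    g • pairOf h = pairOf (fun he => h (smul_left_cancel g he) : g • a ≠ g • b) := by
  refine Subtype.ext ?_
  rw [Set.powersetCard.coe_smul]
  simp [pairOf, Finset.smul_finset_insert]

/-- Doubly transitive, even point stabilizers and no map from the heart to the pair module:
triply transitive. -/
theorem three_transitive_of_no_hom [Finite G] {K : Type*} [Field K] {p : ℕ} [Fact p.Prime]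
    [CharP K p] [Fintype Ω] [FaithfulSMul G Ω]
    (h2 : IsMultiplyPretransitive G Ω 2) (hp : p ∣ Fintype.card Ω)
    (heven : ∀ a : Ω, Even (Nat.card (stabilizer G a)))
    (h : ∀ f : Representation.IntertwiningMap (Cfsg.permSumZero K G Ω).toRepresentation
      (Cfsg.permRep K G (Set.powersetCard Ω 2)),
      (∀ v : (Cfsg.permSumZero K G Ω).toSubmodule,
        (v : Ω → K) ∈ (Cfsg.permConstants K G Ω).toSubmodule → f v = 0) → f = 0) :
    IsMultiplyPretransitive G Ω 3 := by
  have h2' : ∀ {a b c d : Ω}, a ≠ b → c ≠ d → ∃ g : G, g • a = c ∧ g • b = d :=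
    fun hab hcd => is_two_pretransitive_iff.mp h2 hab hcd
  let T := Ω × Set.powersetCard Ω 2
  -- two orbits of non-incident (point, pair) would give a forbidden map
  have key : ∀ z w : T, z.1 ∉ (z.2 : Finset Ω) → w.1 ∉ (w.2 : Finset Ω) → w ∈ orbit G z := by
    intro z w hz hw
    by_contra hcon
    let A : T → Set.powersetCard Ω 2 → Ω → K := fun z s x =>
      if ((x, s) : T) ∈ orbit G z then 1 else 0
    have hA : ∀ (z : T) (g : G) s x, A z (g • s) (g • x) = A z s x := by
      intro z g s x
      have : ((g • x, g • s) : T) ∈ orbit G z ↔ ((x, s) : T) ∈ orbit G z := by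
        rw [show ((g • x, g • s) : T) = g • (x, s) from rfl, ← orbit_eq_iff, ← orbit_eq_iff,
          orbit_eq_iff.mpr (mem_orbit (x, s) g)]
      simp only [A, this]
    have hnon : ∀ (z : T), z.1 ∉ (z.2 : Finset Ω) → ∀ (s : Set.powersetCard Ω 2) (x : Ω), x ∈ (s : Finset Ω) → A z s x = 0 := by
      intro z hz s x hx
      refine if_neg fun ⟨g, hg⟩ => hz ?_
      have h1 : g • z.1 = x := congrArg Prod.fst hg
      have h2 : g • z.2 = s := congrArg Prod.snd hg
      rw [← h1, ← h2, Set.powersetCard.coe_smul] at hx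
      rwa [Finset.smul_mem_smul_finset_iff] at hx
    have htrans : ∀ s t : Set.powersetCard Ω 2, ∃ g : G, g • s = t := by
      intro s t
      obtain ⟨a, b, hab, hs⟩ := Finset.card_eq_two.mp s.2
      obtain ⟨c, d, hcd, ht⟩ := Finset.card_eq_two.mp t.2
      obtain ⟨g, hga, hgb⟩ := h2' hab hcd
      refine ⟨g, Subtype.ext ?_⟩
      rw [Set.powersetCard.coe_smul, hs, ht]
      simp [Finset.smul_finset_insert, hga, hgb]
    set φ := kernelMap (A z) with hφ
    set ψ := kernelMap (A w) with hψ
    let o : Ω → K := fun _ => 1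
    have hfix : ∀ z : T, ∀ s t, kernelMap (A z) o s = kernelMap (A z) o t := by
      intro z s t
      obtain ⟨g, rfl⟩ := htrans s t
      have h1 := kernelMap_equivariant (A z) (hA z) g o
      have h2 : Cfsg.permRep K G Ω g o = o := rfl
      rw [h2] at h1
      conv_rhs => rw [h1, permRep_apply, inv_smul_smul]
    -- a combination killing the constants but not vanishing
    obtain ⟨c, d, hcd, hkill⟩ : ∃ c d : K, (c ≠ 0 ∨ d ≠ 0) ∧
        c * φ o z.2 + d * ψ o z.2 = 0 := by
      by_cases hψ0 : ψ o z.2 = 0
      · exact ⟨0, 1, Or.inr one_ne_zero, by simp [hψ0]⟩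
      · exact ⟨ψ o z.2, -(φ o z.2), Or.inl hψ0, by ring⟩
    set χ : (Ω → K) →ₗ[K] (Set.powersetCard Ω 2 → K) := c • φ + d • ψ with hχ
    have hχeq : ∀ (g : G) v, χ (Cfsg.permRep K G Ω g v) =
        Cfsg.permRep K G (Set.powersetCard Ω 2) g (χ v) := by
      intro g v
      simp only [hχ, LinearMap.add_apply, LinearMap.smul_apply, map_add, map_smul, hφ, hψ,
        kernelMap_equivariant _ (hA z), kernelMap_equivariant _ (hA w)]
    have hχo : χ o = 0 := by
      funext s
      show c * φ o s + d * ψ o s = 0
      rw [hφ, hψ, hfix z s z.2, hfix w s z.2]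
      exact hkill
    let f : Representation.IntertwiningMap (Cfsg.permSumZero K G Ω).toRepresentation
        (Cfsg.permRep K G (Set.powersetCard Ω 2)) :=
      (χ.comp (Cfsg.permSumZero K G Ω).toSubmodule.subtype).intertwiningMap_of_isIntertwiningMap
        _ _ (fun g v => hχeq g v)
    have hf : f = 0 := by
      refine h f fun v hv => ?_
      obtain ⟨e, he⟩ := mem_permConstants_iff.mp hv
      show χ (v : Ω → K) = 0
      rw [show (v : Ω → K) = e • o from funext fun x => by simp [o, he x], map_smul, hχo, smul_zero]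
    have hcol : ∀ s x y, c * A z s x + d * A w s x = c * A z s y + d * A w s y := by
      intro s x y
      have hmem : Pi.single x (1 : K) - Pi.single y 1 ∈
          (Cfsg.permSumZero K G Ω).toSubmodule := by
        rw [mem_permSumZero_iff]
        simp [Finset.sum_sub_distrib, Finset.sum_pi_single']
      have h1 : χ (Pi.single x (1 : K) - Pi.single y 1) = 0 :=
        congrArg (fun u : Representation.IntertwiningMap _ _ => u ⟨_, hmem⟩) hf
      have h2 := congrFun h1 s
      simp only [hχ, map_sub, LinearMap.add_apply, LinearMap.smul_apply, Pi.sub_apply,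
        Pi.add_apply, Pi.smul_apply, smul_eq_mul, hφ, hψ, kernelMap_single, Pi.zero_apply] at h2
      linear_combination h2
    have hzero : ∀ u : T, u.1 ∉ (u.2 : Finset Ω) → c * A z u.2 u.1 + d * A w u.2 u.1 = 0 := by
      intro u _
      obtain ⟨a, ha⟩ := Finset.card_pos.mp (u.2.2.ge.trans' (by norm_num) : 0 < (u.2 : Finset Ω).card)
      rw [hcol u.2 u.1 a, hnon z hz _ _ ha, hnon w hw _ _ ha, mul_zero, mul_zero, add_zero]
    have hz0 := hzero z hz
    have hw0 := hzero w hw
    have hwz : ((z.1, z.2) : T) ∉ orbit G w := fun h' => hcon (by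
      rw [← orbit_eq_iff] at h' ⊢
      exact h'.symm)
    simp only [A, Prod.mk.eta, mem_orbit_self, if_true, if_neg hcon, if_neg hwz, mul_one, mul_zero,
      add_zero, zero_add] at hz0 hw0
    exact hcd.elim (fun hc => hc hz0) (fun hd => hd hw0)
  have triple : ∀ a b c a' b' c' : Ω, a ≠ b → a ≠ c → b ≠ c → a' ≠ b' → a' ≠ c' → b' ≠ c' →
      ∃ g : G, g • a = a' ∧ g • b = b' ∧ g • c = c' := by
    intro a b c a' b' c' hab hac hbc hab' hac' hbc'
    -- some element fixing `a'` interchanges two further points
    have : Nontrivial (stabilizer G a') := by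
      refine Finite.one_lt_card_iff_nontrivial.mp ?_
      obtain ⟨k, hk⟩ := heven a'
      have := Nat.card_pos (α := stabilizer G a')
      omega
    have : Fact (Nat.Prime 2) := ⟨Nat.prime_two⟩
    obtain ⟨t, ht⟩ := exists_prime_orderOf_dvd_card' (G := stabilizer G a') 2
      (even_iff_two_dvd.mp (heven a'))
    obtain ⟨x, hx⟩ : ∃ x, (t : G) • x ≠ x := by
      by_contra hne
      simp only [not_exists, not_not] at hne
      have ht1 : t = 1 := Subtype.ext (eq_of_smul_eq_smul fun x : Ω => by
        rw [hne x, OneMemClass.coe_one, one_smul])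
      rw [ht1, orderOf_one] at ht
      norm_num at ht
    have htt : ∀ x : Ω, (t : G) • (t : G) • x = x := fun x => by
      rw [← mul_smul, ← sq, ← Subgroup.coe_pow, ← ht, pow_orderOf_eq_one, Subgroup.coe_one, one_smul]
    have hta : (t : G) • a' = a' := t.2
    have hxa : x ≠ a' := fun h' => hx (h' ▸ hta)
    have htxa : (t : G) • x ≠ a' := fun h' => hxa (by rw [← htt x, h', hta])
    -- send `(a', {b', c'})` to `(a', {x, t x})`
    obtain ⟨u, hu⟩ := key (a', pairOf hbc') (a', pairOf (Ne.symm hx))
      (fun h' => by rcases (mem_pairOf hbc').mp h' with h' | h' <;> contradiction)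
      (fun h' => by rcases (mem_pairOf (Ne.symm hx)).mp h' with h' | h'
                    · exact hxa h'.symm
                    · exact htxa h'.symm)
    have hua : u • a' = a' := congrArg Prod.fst hu
    have hus : (pairOf (fun he => hbc' (smul_left_cancel u he) : u • b' ≠ u • c')) =
        pairOf (Ne.symm hx) := by rw [← smul_pairOf]; exact congrArg Prod.snd hu
    have hswap : (t : G) • u • b' = u • c' ∧ (t : G) • u • c' = u • b' := by
      have hb : u • b' = x ∨ u • b' = (t : G) • x := by
        rw [← mem_pairOf (Ne.symm hx), ← hus, mem_pairOf]; exact Or.inl rfl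
      have hc : u • c' = x ∨ u • c' = (t : G) • x := by
        rw [← mem_pairOf (Ne.symm hx), ← hus, mem_pairOf]; exact Or.inr rfl
      have hne : u • b' ≠ u • c' := fun h' => hbc' (smul_left_cancel u h')
      rcases hb with hb | hb <;> rcases hc with hc | hc
      · exact absurd (hb.trans hc.symm) hne
      · rw [hb, hc]; exact ⟨rfl, htt x⟩
      · rw [hb, hc]; exact ⟨htt x, rfl⟩
      · exact absurd (hb.trans hc.symm) hne
    obtain ⟨g, hg⟩ := key (a, pairOf hbc) (a', pairOf hbc')
      (fun h' => by rcases (mem_pairOf hbc).mp h' with h' | h' <;> contradiction)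
      (fun h' => by rcases (mem_pairOf hbc').mp h' with h' | h' <;> contradiction)
    have hga : g • a = a' := congrArg Prod.fst hg
    have hgs : (pairOf (fun he => hbc (smul_left_cancel g he) : g • b ≠ g • c)) =
        pairOf hbc' := by rw [← smul_pairOf]; exact congrArg Prod.snd hg
    have hb : g • b = b' ∨ g • b = c' := by
      rw [← mem_pairOf hbc', ← hgs, mem_pairOf]; exact Or.inl rfl
    have hc : g • c = b' ∨ g • c = c' := by
      rw [← mem_pairOf hbc', ← hgs, mem_pairOf]; exact Or.inr rfl
    have hne : g • b ≠ g • c := fun h' => hbc (smul_left_cancel g h')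
    rcases hb with hb | hb <;> rcases hc with hc | hc
    · exact absurd (hb.trans hc.symm) hne
    · exact ⟨g, hga, hb, hc⟩
    · refine ⟨u⁻¹ * t * u * g, ?_, ?_, ?_⟩ <;> simp only [mul_smul, inv_smul_eq_iff]
      · rw [hga, hua, hta]
      · rw [hb, hswap.2]
      · rw [hc, hswap.1]
    · exact absurd (hb.trans hc.symm) hne
  refine ⟨fun x y => ?_⟩
  obtain ⟨g, h0, h1, h2⟩ := triple (x 0) (x 1) (x 2) (y 0) (y 1) (y 2) (x.injective.ne (by decide))
    (x.injective.ne (by decide)) (x.injective.ne (by decide)) (y.injective.ne (by decide))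
    (y.injective.ne (by decide)) (y.injective.ne (by decide))
  refine ⟨g, Function.Embedding.ext fun i => ?_⟩
  rw [Function.Embedding.smul_apply]
  fin_cases i
  · exact h0
  · exact h1
  · exact h2

variable {α : Type*} [Fintype α] {p : ℕ} [Fact p.Prime]

omit [MulAction G Ω] [Fintype α] in
/-- Every permutation of at most three labelled points is affine. -/
theorem affine_of_le_three (hp : p ≤ 3) (e : ZMod p ≃ α) (g : Equiv.Perm α) : IsAffineOn e g := by
  have key : ∀ q : ℕ, q.Prime → q ≤ 3 → ∀ τ : Equiv.Perm (ZMod q), ∀ j,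
      τ j = (τ 1 - τ 0) * j + τ 0 := by
    intro q hq hq3
    interval_cases q
    · exact absurd hq (by decide)
    · exact absurd hq (by decide)
    · decide +kernel
    · decide +kernel
  refine ⟨(e.symm (g (e 1)) - e.symm (g (e 0))), e.symm (g (e 0)), fun j => ?_⟩
  have h := key p Fact.out hp ((e.trans g).trans e.symm) j
  apply e.symm.injective
  simpa using h

/-- An insoluble transitive group of prime degree has degree at least 5. -/
theorem five_le_of_insoluble (hα : Fintype.card α = p) (G : Subgroup (Equiv.Perm α))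
    [IsPretransitive G α] (hG : ¬ Group.IsSolvable G) : 5 ≤ p := by
  by_contra h
  obtain ⟨e, -⟩ := exists_step hα G
  have hp3 : p ≤ 3 := by
    by_contra h3
    have h4 : p = 4 := by omega
    exact absurd (h4 ▸ (Fact.out : p.Prime)) (by decide)
  exact hG (solvable_of_affine G e fun g _ => affine_of_le_three hp3 e g)

/-- The heart is irreducible for an insoluble transitive group of prime degree. -/
theorem heart_irreducible (K : Type*) [Field K] [CharP K p] (hα : Fintype.card α = p)
    (G : Subgroup (Equiv.Perm α)) [IsPretransitive G α] (hG : ¬ Group.IsSolvable G)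
    (W : Subrepresentation (Cfsg.permRep K G α))
    (h₁ : (Cfsg.permConstants K G α).toSubmodule ≤ W.toSubmodule)
    (h₂ : W.toSubmodule ≤ (Cfsg.permSumZero K G α).toSubmodule) :
    W = Cfsg.permConstants K G α ∨ W = Cfsg.permSumZero K G α := by
  obtain ⟨e, σ, hσ, hstep⟩ := exists_step hα G
  rcases heart_dichotomy K hα G e (hasTranslations_of_step hσ hstep) W h₁ h₂ with h | h | h
  · exact Or.inl h
  · exact Or.inr h
  · exact absurd (solvable_of_affine G e h) hG

/-- Burnside: an insoluble transitive group of prime degree is doubly transitive. -/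
theorem two_transitive_of_insoluble (hα : Fintype.card α = p) (G : Subgroup (Equiv.Perm α))
    [IsPretransitive G α] (hG : ¬ Group.IsSolvable G) : IsMultiplyPretransitive G α 2 := by
  have h5 := five_le_of_insoluble hα G hG
  obtain ⟨e, σ, hσ, hstep⟩ := exists_step hα G
  refine two_transitive_of_heart (K := ZMod p) (p := p) (f := 1) (by rw [pow_one, hα]) ?_
  intro W W' hW hlt hW'
  by_contra hcon
  simp only [not_exists, not_and, not_not] at hcon
  have hWS : W.toSubmodule ≤ (Cfsg.permSumZero (ZMod p) G α).toSubmodule := hlt.le.trans hW'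
  have hWC : W = Cfsg.permConstants (ZMod p) G α := by
    rcases heart_irreducible (ZMod p) hα G hG W hW hWS with h | h
    · exact h
    · exact absurd hlt (by rw [h]; exact not_lt_of_ge hW')
  have hW'S : W' = Cfsg.permSumZero (ZMod p) G α := by
    rcases heart_irreducible (ZMod p) hα G hG W' (hW.trans hlt.le) hW' with h | h
    · exact absurd hlt (by rw [h, hWC]; exact lt_irrefl _)
    · exact h
  subst hWC hW'S
  -- then every subspace between constants and sum zero is invariant
  let X : α → ZMod p := xfun (ZMod p) e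
  have hX : X ∈ (Cfsg.permSumZero (ZMod p) G α).toSubmodule := xfun_mem_sumZero _ G e (by omega)
  let U : Subrepresentation (Cfsg.permRep (ZMod p) G α) :=
    { toSubmodule := (Cfsg.permConstants (ZMod p) G α).toSubmodule ⊔ Submodule.span (ZMod p) {X}
      apply_mem_toSubmodule := by
        intro g v hv
        have hvS : v ∈ (Cfsg.permSumZero (ZMod p) G α).toSubmodule :=
          sup_le (hW.trans hlt.le) ((Submodule.span_singleton_le_iff_mem _ _).mpr hX) hv
        have := Submodule.add_mem _ (Submodule.mem_sup_left (hcon g v hvS)) hv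
        rwa [sub_add_cancel] at this }
  rcases heart_irreducible (ZMod p) hα G hG U le_sup_left
      (sup_le (hW.trans hlt.le) ((Submodule.span_singleton_le_iff_mem _ _).mpr hX)) with h | h
  · exact xfun_not_mem_constants (ZMod p) G e
      (h ▸ (Submodule.mem_sup_right (Submodule.mem_span_singleton_self X) : X ∈ U.toSubmodule))
  · have hX2 : (fun a => X a ^ 2) ∈ (Cfsg.permSumZero (ZMod p) G α).toSubmodule := by
      rw [mem_permSumZero_iff, ← e.sum_comp]
      simp only [X, xfun_apply]
      exact sum_pt_pow (by omega)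
    rw [← h] at hX2
    obtain ⟨c, hc, s, hs, hcs⟩ := Submodule.mem_sup.mp hX2
    obtain ⟨c0, hc0⟩ := mem_permConstants_iff.mp hc
    obtain ⟨d, rfl⟩ := Submodule.mem_span_singleton.mp hs
    have hval : ∀ j : ZMod p, c0 + d * pt (ZMod p) j = pt (ZMod p) j ^ 2 := by
      intro j
      have := congrFun hcs (e j)
      simp only [X, Pi.add_apply, Pi.smul_apply, smul_eq_mul, xfun_apply, hc0] at this
      exact this
    have h0 := hval 0
    have h1 := hval 1
    have h2 := hval 2
    rw [map_zero] at h0
    rw [map_one] at h1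
    rw [map_ofNat] at h2
    have h3 : ((2 : ℕ) : ZMod p) = 0 := by push_cast; linear_combination -h0 + 2 * h1 - h2
    rw [CharP.cast_eq_zero_iff (ZMod p) p] at h3
    exact absurd (Nat.le_of_dvd (by norm_num) h3) (by omega)

/-- An element of even order normalizing the translations acts on them as inversion. -/
theorem exists_negation (hα : Fintype.card α = p) (hp2 : p ≠ 2) (G : Subgroup (Equiv.Perm α))
    [IsPretransitive G α] (P : Sylow p G)
    (heven : Even (Nat.card (Subgroup.normalizer ((P : Subgroup G) : Set G)))) :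
    ∃ e : ZMod p ≃ α, HasTranslations G e ∧ ∃ ν ∈ G, ∀ j, ν (e j) = e (-j) := by
  have hp := (Fact.out : p.Prime)
  have hPc : Nat.card (P : Subgroup G) = p := by
    obtain ⟨n, hn⟩ := IsPGroup.iff_card.mp P.isPGroup'
    have h1 : p ^ n ∣ Nat.card G := hn ▸ Subgroup.card_subgroup_dvd_card _
    have hn1 : n ≤ 1 := by
      by_contra h
      exact sq_not_dvd_card hα G ((sq p ▸ pow_dvd_pow p (by omega : 2 ≤ n)).trans h1)
    have hn0 : n ≠ 0 := by
      rintro rfl
      have h2 := P.not_dvd_index
      have h3 : p ∣ Nat.card G := prime_dvd_card hα G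
      rw [← (P : Subgroup G).card_mul_index, hn, pow_zero, one_mul] at h3
      exact h2 h3
    rw [hn, show n = 1 by omega, pow_one]
  obtain ⟨s, hs⟩ := exists_prime_orderOf_dvd_card' (G := (P : Subgroup G)) p (by rw [hPc])
  set σ : Equiv.Perm α := ((s : G) : Equiv.Perm α) with hσdef
  have hσp : σ ^ p = 1 := by
    have h := pow_orderOf_eq_one s
    rw [hs] at h
    exact congrArg (fun u : (P : Subgroup G) => ((u : G) : Equiv.Perm α)) h
  obtain ⟨a, ha⟩ : ∃ a, σ a ≠ a := by
    by_contra h
    simp only [not_exists, not_not] at h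
    have : s = 1 := Subtype.ext (Subtype.ext (Equiv.ext h))
    rw [this, orderOf_one] at hs
    exact hp.one_lt.ne hs
  obtain ⟨e, -, he⟩ := exists_labelling hα hσp ha
  have htr := hasTranslations_of_step (s : G).2 he
  have hpow : ∀ (n : ℕ) j, (σ ^ n) (e j) = e (j + n) := by
    intro n j
    induction n with
    | zero => simp
    | succ n ih => rw [pow_succ', Equiv.Perm.mul_apply, ih, he, Nat.cast_succ, add_assoc]
  have : Fact (Nat.Prime 2) := ⟨Nat.prime_two⟩
  obtain ⟨t, ht⟩ := exists_prime_orderOf_dvd_card'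
    (G := Subgroup.normalizer ((P : Subgroup G) : Set G)) 2 (even_iff_two_dvd.mp heven)
  set τ : Equiv.Perm α := ((t : G) : Equiv.Perm α) with hτdef
  have hττ : ∀ x, τ (τ x) = x := by
    intro x
    have h := pow_orderOf_eq_one t
    rw [ht, sq] at h
    exact congrArg (fun u : Subgroup.normalizer ((P : Subgroup G) : Set G) =>
      ((u : G) : Equiv.Perm α) x) h
  have hconj : (t : G) * (s : G) * (t : G)⁻¹ ∈ (P : Subgroup G) :=
    (Subgroup.mem_normalizer_iff.mp t.2 _).mp s.2
  have hz : Subgroup.zpowers s = ⊤ := by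
    refine Subgroup.eq_top_of_card_eq _ ?_
    rw [Nat.card_zpowers, hs, hPc]
  obtain ⟨k, hk⟩ := Subgroup.mem_zpowers_iff.mp
    (hz.symm ▸ Subgroup.mem_top (⟨_, hconj⟩ : (P : Subgroup G)))
  obtain ⟨n, hn⟩ : ∃ n : ℕ, ∀ j, τ (σ (τ (e j))) = e (j + n) := by
    obtain ⟨n, -, hn⟩ := (IsOfFinOrder.mem_powers_iff_mem_range_orderOf
      (isOfFinOrder_of_finite s)).mp
      ((IsOfFinOrder.mem_powers_iff_mem_zpowers (isOfFinOrder_of_finite s)).mpr ⟨k, hk⟩) |>
        Finset.mem_image.mp
    refine ⟨n, fun j => ?_⟩
    rw [← hpow n j]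
    have h := congrArg (fun u : (P : Subgroup G) => ((u : G) : Equiv.Perm α) (e j)) hn
    simp only [Subgroup.coe_pow, Subgroup.coe_mul, Subgroup.coe_inv, Equiv.Perm.mul_apply] at h
    rw [h]
    have htinv : τ⁻¹ (e j) = τ (e j) := by
      rw [Equiv.Perm.inv_def, Equiv.symm_apply_eq, hττ]
    rw [← htinv]
  have haff : ∀ j, τ (e j) = e ((n : ZMod p) * j + e.symm (τ (e 0))) := by
    intro j
    have hstep : ∀ i, τ (e (i + 1)) = e (e.symm (τ (e i)) + n) := by
      intro i
      rw [← he, ← hn, e.apply_symm_apply, hττ]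
    obtain ⟨k', v', hkv⟩ := affine_of_conj hstep
    have h1 := affine_slope hkv
    have h2 := hstep 0
    rw [zero_add] at h2
    rw [h2, e.symm_apply_apply, add_sub_cancel_left] at h1
    have h0 : e.symm (τ (e 0)) = v' := by rw [hkv]; simp
    rw [hkv, h1, h0]
  set v := e.symm (τ (e 0)) with hv
  have hcomp : ∀ j, (n : ZMod p) * ((n : ZMod p) * j + v) + v = j := by
    intro j
    apply e.injective
    rw [← haff, ← haff, hττ]
  have hn2 : ((n : ZMod p) - 1) * ((n : ZMod p) + 1) = 0 := by
    have h0 := hcomp 0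
    have h1 := hcomp 1
    linear_combination h1 - h0
  rcases mul_eq_zero.mp hn2 with h | h
  · exfalso
    have hn1 : (n : ZMod p) = 1 := sub_eq_zero.mp h
    have h0 := hcomp 0
    rw [hn1] at h0
    have h3 : ((2 : ℕ) : ZMod p) * v = 0 := by push_cast; linear_combination h0
    rcases mul_eq_zero.mp h3 with h3 | h3
    · rw [CharP.cast_eq_zero_iff (ZMod p) p] at h3
      exact hp2 ((Nat.prime_dvd_prime_iff_eq hp Nat.prime_two).mp h3)
    · have : t = 1 := by
        refine Subtype.ext (Subtype.ext (Equiv.ext fun x => ?_))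
        obtain ⟨j, rfl⟩ := e.surjective x
        show τ (e j) = e j
        rw [haff, hn1, h3, one_mul, add_zero]
      rw [this, orderOf_one] at ht
      norm_num at ht
  · have hn1 : (n : ZMod p) = -1 := eq_neg_of_add_eq_zero_left h
    obtain ⟨g, hg, hgj⟩ := htr (-v)
    refine ⟨e, htr, g * τ, G.mul_mem hg (t : G).2, fun j => ?_⟩
    rw [Equiv.Perm.mul_apply, haff, hgj, hn1]
    congr 1; ring

/-- An insoluble transitive group of prime degree with a Sylow normalizer of even order is triply
transitive. -/
theorem three_transitive_of_even (hα : Fintype.card α = p)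
    (G : Subgroup (Equiv.Perm α)) [IsPretransitive G α] (hG : ¬ Group.IsSolvable G) (P : Sylow p G)
    (heven : Even (Nat.card (Subgroup.normalizer ((P : Subgroup G) : Set G)))) :
    IsMultiplyPretransitive G α 3 := by
  have h5 := five_le_of_insoluble hα G hG
  obtain ⟨e, htr, ν, hν, hneg⟩ := exists_negation hα (by omega) G P heven
  refine three_transitive_of_no_hom (K := ZMod p) (two_transitive_of_insoluble hα G hG)
    (by rw [hα]) (fun a => ?_) (fun f hf => ?_)
  · obtain ⟨c, rfl⟩ := e.surjective a
    obtain ⟨g, hg, hgj⟩ := htr c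
    set w : G := ⟨g, hg⟩ * ⟨ν, hν⟩ * ⟨g, hg⟩⁻¹ with hw
    have hginv : ∀ j, g⁻¹ (e (j + c)) = e j := fun j => by
      rw [Equiv.Perm.inv_def, Equiv.symm_apply_eq, hgj]
    have hwj : ∀ j, (w : Equiv.Perm α) (e (j + c)) = e (-j + c) := fun j => by
      show g (ν (g⁻¹ (e (j + c)))) = _
      rw [hginv, hneg, hgj]
    let w' : stabilizer G (e c) := ⟨w, by
      have := hwj 0
      rw [zero_add, neg_zero, zero_add] at this
      exact this⟩
    refine even_iff_two_dvd.mpr ?_
    have hord : orderOf w' = 2 := by
      refine orderOf_eq_prime ?_ ?_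
      · refine Subtype.ext (Subtype.ext (Equiv.ext fun x => ?_))
        obtain ⟨j, rfl⟩ := e.surjective x
        rw [sq]
        show (w : Equiv.Perm α) ((w : Equiv.Perm α) (e j)) = e j
        rw [← sub_add_cancel j c, hwj, hwj, neg_neg]
      · intro h
        have h1 := congrArg (fun u : stabilizer G (e c) =>
          ((u : G) : Equiv.Perm α) (e (1 + c))) h
        have h2 : (w : Equiv.Perm α) (e (1 + c)) = e (1 + c) := h1
        rw [hwj] at h2
        have h3 : ((2 : ℕ) : ZMod p) = 0 := by
          push_cast; linear_combination -(e.injective h2)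
        rw [CharP.cast_eq_zero_iff (ZMod p) p] at h3
        exact absurd (Nat.le_of_dvd (by norm_num) h3) (by omega)
    exact hord ▸ orderOf_dvd_natCard w'
  · -- the kernel of `f` is the whole of the sum-zero space
    let U : Subrepresentation (Cfsg.permRep (ZMod p) G α) :=
      { toSubmodule := (LinearMap.ker f.toLinearMap).map
          (Cfsg.permSumZero (ZMod p) G α).toSubmodule.subtype
        apply_mem_toSubmodule := by
          rintro g _ ⟨v, hv, rfl⟩
          refine ⟨(Cfsg.permSumZero (ZMod p) G α).toRepresentation g v, ?_, rfl⟩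
          have h := LinearMap.congr_fun (f.isIntertwining' g) v
          rw [SetLike.mem_coe, LinearMap.mem_ker] at hv ⊢
          rw [LinearMap.comp_apply, LinearMap.comp_apply] at h
          rw [h, hv, map_zero] }
    have hCS : (Cfsg.permConstants (ZMod p) G α).toSubmodule ≤
        (Cfsg.permSumZero (ZMod p) G α).toSubmodule := by
      intro u hu
      obtain ⟨c, hc⟩ := mem_permConstants_iff.mp hu
      rw [mem_permSumZero_iff]
      simp [hc, hα]
    have hX := xfun_mem_sumZero (ZMod p) G e (by omega)
    set X : (Cfsg.permSumZero (ZMod p) G α).toSubmodule := ⟨xfun (ZMod p) e, hX⟩ with hXdef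
    have hfX : f X = 0 := by
      -- translations fix `f X`
      have hT : ∀ g : G, ∀ c : ZMod p, (∀ j, (g : Equiv.Perm α) (e j) = e (j + c)) →
          Cfsg.permRep (ZMod p) G (Set.powersetCard α 2) g (f X) = f X := by
        intro g c hgc
        have hd : (Cfsg.permSumZero (ZMod p) G α).toRepresentation g X - X ∈
            LinearMap.ker f.toLinearMap := by
          refine LinearMap.mem_ker.mpr (hf _ (mem_permConstants_iff.mpr ⟨-c, fun a => ?_⟩))
          obtain ⟨j, rfl⟩ := e.surjective a
          show xfun (ZMod p) e ((g : G)⁻¹ • e j) - xfun (ZMod p) e (e j) = -c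
          have : (g : G)⁻¹ • e j = e (j - c) := by
            rw [inv_smul_eq_iff]
            show e j = (g : Equiv.Perm α) (e (j - c))
            rw [hgc, sub_add_cancel]
          rw [this, xfun_apply, xfun_apply, map_sub, RingHom.congr_fun (Subsingleton.elim (pt (ZMod p)) (RingHom.id _)) c, RingHom.id_apply]
          ring
        have h := LinearMap.congr_fun (f.isIntertwining' g) X
        rw [LinearMap.mem_ker, map_sub, sub_eq_zero] at hd
        rw [LinearMap.comp_apply, LinearMap.comp_apply] at h
        exact (h.symm.trans hd)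
      have hN : Cfsg.permRep (ZMod p) G (Set.powersetCard α 2) ⟨ν, hν⟩ (f X) = -(f X) := by
        have hd : (Cfsg.permSumZero (ZMod p) G α).toRepresentation ⟨ν, hν⟩ X = -X := by
          refine Subtype.ext (funext fun a => ?_)
          obtain ⟨j, rfl⟩ := e.surjective a
          show xfun (ZMod p) e ((⟨ν, hν⟩ : G)⁻¹ • e j) = -(xfun (ZMod p) e (e j))
          have : (⟨ν, hν⟩ : G)⁻¹ • e j = e (-j) := by
            rw [inv_smul_eq_iff]
            show e j = ν (e (-j))
            rw [hneg, neg_neg]
          rw [this, xfun_apply, xfun_apply, map_neg]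
        have h := LinearMap.congr_fun (f.isIntertwining' ⟨ν, hν⟩) X
        rw [LinearMap.comp_apply, LinearMap.comp_apply, hd, map_neg] at h
        exact h.symm
      funext s
      obtain ⟨a, b, hab, hs⟩ := Finset.card_eq_two.mp s.2
      obtain ⟨u, rfl⟩ := e.surjective a
      obtain ⟨v, rfl⟩ := e.surjective b
      obtain ⟨g, hg, hgj⟩ := htr (u + v)
      have hflip : (⟨ν, hν⟩ : G)⁻¹ • s = (⟨g, hg⟩ : G)⁻¹ • s := by
        rw [inv_smul_eq_iff]
        refine Subtype.ext ?_
        show (s : Finset α) = (⟨ν, hν⟩ : G) • ((⟨g, hg⟩ : G)⁻¹ • (s : Finset α))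
        rw [hs]
        have e1 : ∀ j, (⟨g, hg⟩ : G)⁻¹ • e j = e (j - (u + v)) := fun j => by
          rw [inv_smul_eq_iff]
          show e j = g (e (j - (u + v)))
          rw [hgj, sub_add_cancel]
        have e2 : ∀ j, (⟨ν, hν⟩ : G) • e j = e (-j) := hneg
        simp only [Finset.smul_finset_insert, Finset.smul_finset_singleton, e1, e2]
        rw [show -(u - (u + v)) = v by ring, show -(v - (u + v)) = u by ring, Finset.pair_comm]
      have h1 := congrFun (hT ⟨g, hg⟩ (u + v) hgj) s
      have h2 := congrFun hN s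
      rw [permRep_apply] at h1 h2
      rw [hflip, h1, Pi.neg_apply, eq_neg_iff_add_eq_zero] at h2
      have h3 : ((2 : ℕ) : ZMod p) * f X s = 0 := by push_cast; linear_combination h2
      rcases mul_eq_zero.mp h3 with h3 | h3
      · rw [CharP.cast_eq_zero_iff (ZMod p) p] at h3
        exact absurd (Nat.le_of_dvd (by norm_num) h3) (by omega)
      · exact h3
    have hUS : U = Cfsg.permSumZero (ZMod p) G α := by
      rcases heart_irreducible (ZMod p) hα G hG U
        (fun u hu => ⟨⟨u, hCS hu⟩, LinearMap.mem_ker.mpr (hf _ hu), rfl⟩)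
        (by rintro _ ⟨v, -, rfl⟩; exact v.2) with h | h
      · exact absurd (h ▸ (⟨X, LinearMap.mem_ker.mpr hfX, rfl⟩ : xfun (ZMod p) e ∈ U.toSubmodule))
          (xfun_not_mem_constants (ZMod p) G e)
      · exact h
    refine Representation.IntertwiningMap.ext (LinearMap.ext fun v => ?_)
    obtain ⟨w, hw, hwv⟩ := (hUS.symm ▸ v.2 : (v : α → ZMod p) ∈ U.toSubmodule)
    rw [Subtype.ext hwv] at hw
    exact hw

end CfsgLib.PermGroup
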